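import Cfsg.Agent.OddHalf.NI3.Ex4.RowsAll
import Cfsg.Agent.OddHalf.NI3.Ex4.OEight.CTwo
import Cfsg.Agent.OddHalf.NI3.Ex4.OEight.CFour
import Cfsg.Agent.OddHalf.NI3.Ex4.OEight.Class

/-!
# (EX4) of THEOREM NIB: the rows, without hypotheses

`row_o82` : the row `Ω₈⁺(2)`; `rows4All : Rows4`.
-/

set_option autoImplicit false

namespace Cfsg.Agent.OddHalf.NI3.Ex4

universe u

theorem o8Pieces : O8.Pieces where
  c2 := fun _ h => O8.dead_c2 h
  c4 := O8.CFour.dead_w0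
  cls := fun w h1 h2 => OEClass.main w h1 h2

/-- **The row `Ω₈⁺(2)`.** -/
theorem row_o82 {X : Type u} [Group X] (h : D9.Cut.XO82 X) : Row4 X := O8.row_of o8Pieces h

/-- **All rows of (EX4).** -/
theorem rows4All : Rows4.{u} := rows4_of o8Pieces

end Cfsg.Agent.OddHalf.NI3.Ex4
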