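import Cfsg.Agent.OddHalf.NI3.Ex4.OfSheet
import Cfsg.Agent.KFacts.Co1.CaseM

/-!
# (EX4): the row of the first Conway group
-/

set_option autoImplicit false

namespace Cfsg.Agent.OddHalf.NI3.Ex4

open Cfsg

universe u

theorem row_co1 (X : Type u) [Group X] [Finite X] [IsSimpleGroup X] (h : Spor.IsoCo1 X) : Row4 X := by
  obtain ⟨e⟩ := h
  obtain ⟨o, ho⟩ := Cfsg.Agent.CoOneType.ClosingCo1.exists_octad
  exact row4_of_sheetE e.symm (Cfsg.Agent.KFacts.Co1.CaseM.sheetE ho)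

end Cfsg.Agent.OddHalf.NI3.Ex4
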