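import Cfsg.Agent.OddHalf.NI3.Ex4.LargeZ
import Cfsg.Agent.OddHalf.NI3.Ex.FFourRow
import Cfsg.Agent.OddHalf.D9.FFour.MultTwo
import Cfsg.Agent.FourTwo.Facts2
import Cfsg.Agent.FourTwo.CentP
import Cfsg.Agent.FourTwo.CentAll
import Cfsg.Agent.FourTwo.Perf
import Cfsg.Agent.FourTwo.AutF4

/-!
# (EX4): the row `F₄(2)` (helper931)

In `LL = F₄(2)`: `OO2 (x 44) = RG qsP = ⟨x₃₃, …, x₄₇⟩` (`mem_OO2_iff`), its squares are in `⟨x₄₄⟩` (`sq_mem`), it contains
its centralizer; the same for `x 47` with the graph automorphism; `cc`: the elements centralising `OO2 (x 44)` and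
`OO2 (x 47)` are `1, x₄₄, x₄₇, x₄₄ x₄₇`.

* `two4` : `Two4 (x 44) (x 47)`;
* `row4_f42` : `XF42 X → Row4 X`.
-/

set_option autoImplicit false
set_option linter.style.haveILetI false

namespace Cfsg.Agent.OddHalf.NI3.Ex4.RowF4

open Subgroup Cfsg
open Cfsg.Agent.FourTwo.Base (LL x wd bar bar_lt bar_bar x_mul_self wd_cons wd_nil wd_one wd_append x_inv)
open Cfsg.Agent.FourTwo.BN Cfsg.Agent.FourTwo.Comm Cfsg.Agent.FourTwo.Par Cfsg.Agent.FourTwo.Cent
open Cfsg.Agent.FourTwo.AutF4 (isPGroup_U U_inf_Vo x_mem_Vo comm_44 comm_47 x44_ne_x47)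
open Cfsg.Agent.ChevalleyStructure.F4TwU (posList)

universe u

/-! ### squares modulo a central subgroup -/

section Sq

variable {G : Type*} [Group G] {S : Set G} {Z : Subgroup G}

theorem comm_closure (hZ : ∀ z ∈ Z, ∀ g ∈ closure S, z * g = g * z)
    (h : ∀ s ∈ S, ∀ t ∈ S, s * t * s⁻¹ * t⁻¹ ∈ Z) :
    ∀ g ∈ closure S, ∀ k ∈ closure S, g * k * g⁻¹ * k⁻¹ ∈ Z := by
  have h1 : ∀ s ∈ S, ∀ k ∈ closure S, s * k * s⁻¹ * k⁻¹ ∈ Z := by
    intro s hs k hk
    refine closure_induction (p := fun k _ => s * k * s⁻¹ * k⁻¹ ∈ Z) (fun t ht => h s hs t ht) ?_ ?_ ?_ hk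
    · have e : s * 1 * s⁻¹ * 1⁻¹ = 1 := by group
      rw [e]; exact Z.one_mem
    · intro a b ha _ h2 h3
      have e : s * (a * b) * s⁻¹ * (a * b)⁻¹ = (s * a * s⁻¹ * a⁻¹) * (a * (s * b * s⁻¹ * b⁻¹) * a⁻¹) := by group
      have e2 : a * (s * b * s⁻¹ * b⁻¹) * a⁻¹ = s * b * s⁻¹ * b⁻¹ := by
        rw [← hZ _ h3 a ha, mul_inv_cancel_right]
      rw [e, e2]
      exact Z.mul_mem h2 h3
    · intro a ha h2
      have e : s * a⁻¹ * s⁻¹ * a⁻¹⁻¹ = (a⁻¹ * (s * a * s⁻¹ * a⁻¹) * a)⁻¹ := by group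
      have e2 : a⁻¹ * (s * a * s⁻¹ * a⁻¹) * a = s * a * s⁻¹ * a⁻¹ := by
        rw [mul_assoc, hZ _ h2 a ha, inv_mul_cancel_left]
      rw [e, e2]
      exact Z.inv_mem h2
  intro g hg k hk
  refine closure_induction (p := fun g _ => g * k * g⁻¹ * k⁻¹ ∈ Z) (fun s hs => h1 s hs k hk) ?_ ?_ ?_ hg
  · have e : 1 * k * 1⁻¹ * k⁻¹ = 1 := by group
    rw [e]; exact Z.one_mem
  · intro a b ha _ h2 h3
    have e : a * b * k * (a * b)⁻¹ * k⁻¹ = (a * (b * k * b⁻¹ * k⁻¹) * a⁻¹) * (a * k * a⁻¹ * k⁻¹) := by group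
    have e2 : a * (b * k * b⁻¹ * k⁻¹) * a⁻¹ = b * k * b⁻¹ * k⁻¹ := by
      rw [← hZ _ h3 a ha, mul_inv_cancel_right]
    rw [e, e2]
    exact Z.mul_mem h3 h2
  · intro a ha h2
    have e : a⁻¹ * k * a⁻¹⁻¹ * k⁻¹ = (a⁻¹ * (a * k * a⁻¹ * k⁻¹) * a)⁻¹ := by group
    have e2 : a⁻¹ * (a * k * a⁻¹ * k⁻¹) * a = a * k * a⁻¹ * k⁻¹ := by
      rw [mul_assoc, hZ _ h2 a ha, inv_mul_cancel_left]
    rw [e, e2]
    exact Z.inv_mem h2

theorem sq_closure (hZ : ∀ z ∈ Z, ∀ g ∈ closure S, z * g = g * z)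
    (h : ∀ s ∈ S, ∀ t ∈ S, s * t * s⁻¹ * t⁻¹ ∈ Z) (h2 : ∀ s ∈ S, s * s ∈ Z) :
    ∀ g ∈ closure S, g * g ∈ Z := by
  intro g hg
  refine closure_induction (p := fun g _ => g * g ∈ Z) h2 ?_ ?_ ?_ hg
  · rw [one_mul]; exact Z.one_mem
  · intro a b ha hb h3 h4
    have e : a * b * (a * b) = (a * a) * ((a⁻¹ * b * a⁻¹⁻¹ * b⁻¹) * (b * b)) := by group
    rw [e]
    exact Z.mul_mem h3 (Z.mul_mem (comm_closure hZ h _ (inv_mem ha) _ hb) h4)
  · intro a _ h3
    rw [← mul_inv_rev]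
    exact Z.inv_mem h3

theorem zp {ζ : G} (h : ζ * ζ = 1) {g : G} (hg : g ∈ zpowers ζ) : g = 1 ∨ g = ζ := by
  obtain ⟨k, rfl⟩ := mem_zpowers_iff.1 hg
  rcases Int.even_or_odd k with ⟨m, hm⟩ | ⟨m, hm⟩
  · left
    rw [hm, zpow_add, ← (Commute.refl ζ).mul_zpow, h, one_zpow]
  · right
    rw [hm, zpow_add, zpow_one, two_mul, zpow_add, ← (Commute.refl ζ).mul_zpow, h, one_zpow, one_mul]

theorem comm_zp {ζ g z : G} (h : g * ζ = ζ * g) (hz : z ∈ zpowers ζ) : z * g = g * z := by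
  obtain ⟨k, rfl⟩ := mem_zpowers_iff.1 hz
  have h1 : Commute g ζ := h
  exact (h1.zpow_right k).eq.symm

end Sq

/-! ### `OO2 (x 44)` -/

open Cfsg.Agent.FourTwo.Facts2 (qsP)

theorem Q_two : IsPGroup 2 ↥(RG qsP) :=
  isPGroup_U.to_le (RG_le_U (by decide +kernel))

theorem Ps_norm : Ps ≤ normalizer (RG qsP : Set LL) := le_normalizer (by decide +kernel)

theorem Q_le_Ps : RG qsP ≤ Ps := RG_mono (by decide +kernel)

theorem comm_iff {g : LL} : g * x 44 = x 44 * g ↔ g ∈ Ps := by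
  rw [← cent_short, mem_centralizer_singleton_iff]

theorem Q_le_OO2 : RG qsP ≤ OO2 (x 44) := by
  intro g hg
  have h1 : g ∈ centralizer ({x 44} : Set LL) := by rw [cent_short]; exact Q_le_Ps hg
  have hn : ((RG qsP).subgroupOf (centralizer ({x 44} : Set LL))).Normal := by
    refine ⟨fun n hn k => ?_⟩
    rw [mem_subgroupOf] at hn ⊢
    have h2 : (k : LL) ∈ Ps := by rw [← cent_short]; exact k.2
    have h3 := (mem_normalizer_iff.1 (Ps_norm h2) n).1 hn
    exact h3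
  have h2 : IsPGroup 2 ↥((RG qsP).subgroupOf (centralizer ({x 44} : Set LL))) :=
    Q_two.comap_of_injective _ (subtype_injective _)
  exact ⟨⟨g, h1⟩, Cfsg.Agent.Lib.Cores.le_pCore hn h2 hg, rfl⟩

theorem OO2_le_U : OO2 (x 44) ≤ U := by
  haveI : Fact (Nat.Prime 2) := ⟨Nat.prime_two⟩
  have h1 : U ≤ normalizer (OO2 (x 44) : Set LL) := by
    intro g hg
    have hc : ∀ k : LL, k * x 44 = x 44 * k → ∀ n ∈ OO2 (x 44), k * n * k⁻¹ ∈ OO2 (x 44) :=
      fun k hk n hn => OO2_conj hn hk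
    rw [mem_normalizer_iff]
    intro n
    refine ⟨fun hn => hc g (comm_44 hg) n hn, fun hn => ?_⟩
    have h2 := hc g⁻¹ (comm_44 (U.inv_mem hg)) _ hn
    have h3 : g⁻¹ * (g * n * g⁻¹) * g⁻¹⁻¹ = n := by group
    rwa [h3] at h2
  have h2 : IsPGroup 2 ↥(OO2 (x 44) ⊔ U) :=
    (OO2_isPGroup (x 44)).to_sup_of_normal_left' isPGroup_U h1
  have h3 := Cfsg.Agent.FourTwo.Perf.sylU.is_maximal' h2 (show (Cfsg.Agent.FourTwo.Perf.sylU : Subgroup LL) ≤ _ by
    rw [Cfsg.Agent.FourTwo.Perf.coe_sylU]; exact le_sup_right)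
  rw [Cfsg.Agent.FourTwo.Perf.coe_sylU] at h3
  rw [← h3]
  exact le_sup_left

/-- the longest element of the Levi factor -/
def w0 : List ℕ := [1, 2, 3, 1, 2, 3, 1, 2, 3]

theorem w0_lt : ∀ i ∈ w0, i < 4 := by decide

theorem act_w0 : ∀ r < 33, 24 ≤ r → act w0 r = 47 - r := by decide +kernel

theorem act_w0' : ∀ r < 48, 33 ≤ r → 33 ≤ act w0 r ∧ act w0 r < 48 := by decide +kernel

theorem act_w0_44 : act w0 44 = 44 := by decide +kernel

theorem w0_comm : nw w0 * x 44 = x 44 * nw w0 := by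
  have h1 := nw_conj w0_lt (r := 44) (by omega)
  rw [act_w0_44, mul_inv_eq_iff_eq_mul] at h1
  exact h1

theorem split_pos : posList 24 = List.range' 24 9 ++ List.range' 33 15 := by decide +kernel

theorem OO2_le_Q : OO2 (x 44) ≤ RG qsP := by
  intro g hg
  have hgU := OO2_le_U hg
  have h1 := OO2_le_U (OO2_conj hg w0_comm)
  rw [Cfsg.Agent.FourTwo.Par.U_eq_RG] at hgU
  obtain ⟨S, hS⟩ := nf_RG (by decide +kernel) hgU
  rw [split_pos, List.filter_append, wd_append] at hS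
  set l := wd ((List.range' 24 9).filter fun r => decide (24 ≤ r) && S r) with hl
  set q := wd ((List.range' 33 15).filter fun r => decide (24 ≤ r) && S r) with hq
  have hqQ : q ∈ RG qsP := by
    rw [hq]
    refine wd_mem_RG fun r hr => ?_
    rw [List.mem_filter, List.mem_range'_1] at hr
    refine ⟨by omega, ?_⟩
    unfold Cfsg.Agent.FourTwo.Facts2.qsP
    exact decide_eq_true hr.1.1
  have hqU : nw w0 * q * (nw w0)⁻¹ ∈ U := by
    apply OO2_le_U
    exact OO2_conj (Q_le_OO2 hqQ) w0_comm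
  have hlU : nw w0 * l * (nw w0)⁻¹ ∈ U := by
    have e : nw w0 * l * (nw w0)⁻¹ = (nw w0 * g * (nw w0)⁻¹) * (nw w0 * q * (nw w0)⁻¹)⁻¹ := by
      rw [hS]; group
    rw [e]
    exact U.mul_mem h1 (U.inv_mem hqU)
  have hlV : nw w0 * l * (nw w0)⁻¹ ∈ Cfsg.Agent.FourTwo.AutF4.Vo := by
    have key : ∀ L : List ℕ, (∀ r ∈ L, 24 ≤ r ∧ r < 33) → nw w0 * wd L * (nw w0)⁻¹ ∈ Cfsg.Agent.FourTwo.AutF4.Vo := by
      intro L
      induction L with
      | nil => intro _; rw [wd_nil, mul_one, mul_inv_cancel]; exact one_mem _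
      | cons r L ih =>
        intro h2
        have h3 := ih fun r hr => h2 r (List.mem_cons_of_mem _ hr)
        have h4 := h2 r List.mem_cons_self
        rw [wd_cons]
        have e : nw w0 * (x r * wd L) * (nw w0)⁻¹ = (nw w0 * x r * (nw w0)⁻¹) * (nw w0 * wd L * (nw w0)⁻¹) := by group
        rw [e, nw_conj w0_lt (by omega), act_w0 r h4.2 h4.1]
        exact mul_mem (x_mem_Vo (by omega)) h3
    apply key
    intro r hr
    rw [List.mem_filter, List.mem_range'_1] at hr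
    omega
  have h2 := U_inf_Vo hlU hlV
  have h3 : l = 1 := by
    have h4 : l = (nw w0)⁻¹ * (nw w0 * l * (nw w0)⁻¹) * nw w0 := by group
    rw [h4, h2]; group
  rw [hS, h3, one_mul]
  exact hqQ

theorem mem_OO2_iff {g : LL} : g ∈ OO2 (x 44) ↔ g ∈ RG qsP := ⟨fun h => OO2_le_Q h, fun h => Q_le_OO2 h⟩

theorem x_mem_OO2 {r : ℕ} (hr : r < 48) (h : 33 ≤ r) : x r ∈ OO2 (x 44) :=
  Q_le_OO2 (x_mem_RG hr (decide_eq_true h))

/-! ### the facts on `x 44` -/

theorem cmg_tab : ((List.range' 33 15).all fun r => (List.range' 33 15).all fun s =>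
    r == s || (cmg r s == [] || cmg r s == [44])) = true := by decide +kernel

theorem cmg_Q {r s : ℕ} (hr : r < 48) (hr' : 33 ≤ r) (hs : s < 48) (hs' : 33 ≤ s) (hrs : r ≠ s) :
    cmg r s = [] ∨ cmg r s = [44] := by
  have h1 := cmg_tab
  rw [List.all_eq_true] at h1
  have h2 := h1 r (List.mem_range'_1.2 (by omega))
  rw [List.all_eq_true] at h2
  have h3 := h2 s (List.mem_range'_1.2 (by omega))
  rw [Bool.or_eq_true, Bool.or_eq_true] at h3
  rcases h3 with h3 | h3 | h3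
  · exact (hrs (eq_of_beq h3)).elim
  · exact Or.inl (eq_of_beq h3)
  · exact Or.inr (eq_of_beq h3)

theorem sq_mem {g : LL} (hg : g ∈ OO2 (x 44)) : g * g ∈ zpowers (x 44) := by
  rw [mem_OO2_iff] at hg
  unfold RG at hg
  have hZ : ∀ z ∈ zpowers (x 44), ∀ g ∈ Subgroup.closure {g : LL | ∃ r < 48, qsP r = true ∧ g = x r}, z * g = g * z := by
    intro z hz g hg
    have h1 : g ∈ Ps := Q_le_Ps hg
    rw [← comm_iff] at h1
    exact comm_zp (G := LL) h1 hz
  refine sq_closure (G := LL) hZ ?_ ?_ g hg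
  · rintro _ ⟨r, hr, hr1, rfl⟩ _ ⟨s, hs, hs1, rfl⟩
    have hr2 : 33 ≤ r := of_decide_eq_true hr1
    have hs2 : 33 ≤ s := of_decide_eq_true hs1
    by_cases hrs : r = s
    · subst hrs
      rw [mul_inv_cancel_right, mul_inv_cancel]
      exact one_mem _
    · have h1 := comm_all hr hs hrs (by omega)
      rcases cmg_Q hr hr2 hs hs2 hrs with h2 | h2
      · rw [h2, wd_nil, mul_one] at h1
        have e : x r * x s * (x r)⁻¹ * (x s)⁻¹ = 1 := by rw [h1]; group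
        rw [e]; exact one_mem _
      · rw [h2, wd_one] at h1
        have h3 := hZ (x 44) (mem_zpowers _) (x s) (subset_closure ⟨s, hs, hs1, rfl⟩)
        have e : x r * x s * (x r)⁻¹ * (x s)⁻¹ = x 44 := by
          rw [h1, ← h3]; group
        rw [e]; exact mem_zpowers _
  · rintro _ ⟨r, hr, hr1, rfl⟩
    rw [x_mul_self]; exact one_mem _

/-- `C(O₂(C(x 44))) ≤ O₂(C(x 44))` -/
theorem con {g : LL} (h : ∀ q ∈ OO2 (x 44), g * q = q * g) : g ∈ OO2 (x 44) := by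
  obtain ⟨T, hT, hg⟩ := Cfsg.Agent.FourTwo.CentK.mainC (c := []) (ans := List.sublists [17, 18, 19, 20, 21, 22, 23])
    (by decide +kernel) (g := g) (fun k hk => h _ (x_mem_OO2 (by omega) (by omega))) (by simp)
  rw [List.mem_sublists] at hT
  rw [hg]
  apply Q_le_OO2
  refine wd_mem_RG fun r hr => ?_
  rw [List.mem_map] at hr
  obtain ⟨j, hj, rfl⟩ := hr
  have h1 : ∀ j ∈ [17, 18, 19, 20, 21, 22, 23], 24 + j < 48 ∧ qsP (24 + j) = true := by decide
  exact h1 j (hT.subset hj)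

theorem pre : PreG (x 44) (zpowers (x 44)) where
  zz := x_mul_self 44
  z1 := x_ne_one (by omega)
  syl := ⟨Cfsg.Agent.FourTwo.Perf.sylU, fun g hg => comm_44 (show g ∈ U by
    rw [← Cfsg.Agent.FourTwo.Perf.coe_sylU]; exact hg)⟩
  con := fun g _ h => con h
  mem := mem_zpowers _
  le := by rw [zpowers_le]; exact x_mem_OO2 (by omega) (by omega)
  ex := by
    intro g hg
    rcases zp (G := LL) (by exact x_mul_self 44) hg with rfl | rfl
    · rw [one_mul]
    · exact x_mul_self 44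
  cen := by
    intro g hg k hk
    rcases zp (G := LL) (by exact x_mul_self 44) hg with rfl | rfl
    · rw [one_mul, mul_one]
    · exact hk
  sq := fun g hg => sq_mem hg
  gd := by
    intro g hg h1
    rcases zp (G := LL) (by exact x_mul_self 44) hg with rfl | rfl
    · exact (h1 rfl).elim
    · apply Cfsg.Agent.OddHalf.NI.Ex.Lemma.good_of_perfect
      · refine ⟨OO2 (x 44), OO2_isPGroup _, fun q hq => mem_centralizer_singleton_iff.2 (OO2_comm hq),
          fun h hh q hq => OO2_conj hq (mem_centralizer_singleton_iff.1 hh), fun h _ hq => con hq⟩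
      · rw [cent_short]; exact Cfsg.Agent.FourTwo.Perf.perfect_Ps
  fix := by
    intro β _ hβ g hg
    rcases zp (G := LL) (by exact x_mul_self 44) hg with rfl | rfl
    · exact map_one β
    · exact hβ

/-! ### `x 47` and the row -/

theorem bar_44 : bar 44 = 47 := by decide

theorem two4 : ∃ Z₂ : Subgroup LL, Two4 (x 44) (x 47) (zpowers (x 44)) Z₂ := by
  obtain ⟨γ, hγ, -⟩ := Cfsg.Agent.FourTwo.CentP.exists_dual
  have h47 : γ (x 44) = x 47 := by rw [hγ 44 (by omega), bar_44]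
  refine ⟨(zpowers (x 44)).map (γ : LL →* LL), ⟨pre, ?_, ?_, ?_⟩⟩
  · have := @PreG.map LL LL (Subgroup.toGroup _) (Subgroup.toGroup _) _ γ _ _ pre
    rwa [h47] at this
  · refine ⟨Cfsg.Agent.FourTwo.Perf.sylU, fun g hg => ?_⟩
    have hg' : g ∈ U := by rw [← Cfsg.Agent.FourTwo.Perf.coe_sylU]; exact hg
    exact ⟨comm_44 hg', comm_47 hg'⟩
  · intro g h1 h2
    have h3 : ∀ r < 48, 33 ≤ r → Commute g (x (bar r)) := by
      intro r hr hr'
      have h4 := @OO2_map LL (Subgroup.toGroup _) LL (Subgroup.toGroup _) γ _ _ (x_mem_OO2 hr hr')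
      rw [h47, hγ r hr] at h4
      exact h2 _ h4
    obtain ⟨T, hT, hg⟩ := Cfsg.Agent.FourTwo.CentK.mainC
      (c := [([], 24), ([], 26), ([], 31), ([], 42), ([], 32), ([], 43), ([], 45), ([], 46), ([], 29)])
      (ans := [[], [20], [23], [20, 23]]) (by decide +kernel) (g := g)
      (fun k hk => h1 _ (x_mem_OO2 (by omega) (by omega))) (by
        intro p hp
        have hb : ∀ p ∈ [(([] : List ℕ), 24), ([], 26), ([], 31), ([], 42), ([], 32), ([], 43), ([], 45), ([], 46),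
            ([], 29)], ∃ r < 48, 33 ≤ r ∧ bar r = p.2 := by decide +kernel
        obtain ⟨r, hr, hr', e⟩ := hb p hp
        rw [← e]; exact h3 r hr hr')
    obtain ⟨a, b, ha, hb, rfl⟩ := Cfsg.Agent.FourTwo.CentP.two ⟨T, hT, hg⟩
    rcases ha with rfl | rfl <;> rcases hb with rfl | rfl
    · left; rw [one_mul]
    · right; right; left; rw [one_mul]
    · right; left; rw [mul_one]
    · right; right; right; rfl

variable {X : Type u} [Group X]

theorem row4_f42 [Finite X] (hZ : center X = ⊥) (h : D9.Cut.XF42 X) : Row4 X := by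
  obtain ⟨e⟩ := Cfsg.Agent.OddHalf.D9.FFour.MultTwo.exists_equiv h
  obtain ⟨Z₂, h4⟩ := two4
  exact @row4_of_zeta X _ LL (Subgroup.toGroup _) _ e.symm hZ _ _ _ _ h4

end Cfsg.Agent.OddHalf.NI3.Ex4.RowF4
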