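import Cfsg.Agent.OddHalf.NI3.Ex4.Large
import Cfsg.Agent.OddHalf.NI.Ex.OfSheet
import Cfsg.Agent.OddHalf.CaseM.SheetX
import Cfsg.Agent.OddHalf.D8.SheetMap

/-!
# (EX4): the rows with a perfect sheet

`large4_of_sheet` : `SheetX z C(z) R` gives `Large4 z ⟨z⟩`; `row4_of_sheet`, `row4_of_equiv`.
-/

set_option autoImplicit false
set_option linter.style.haveILetI false

namespace Cfsg.Agent.OddHalf.NI3.Ex4

open Subgroup Cfsg
open Cfsg.Agent.OddHalf.D8.JTwo.Sheet
open Cfsg.Agent.OddHalf.NI.Ex.Lemma (NoComm)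

universe u

variable {X : Type u} [Group X]

theorem mem_zpowers_two {z : X} (zz : z * z = 1) {x : X} : x ∈ zpowers z ↔ x = 1 ∨ x = z := by
  constructor
  · rintro ⟨k, rfl⟩
    change z ^ k = 1 ∨ z ^ k = z
    rcases Int.even_or_odd' k with ⟨m, rfl | rfl⟩
    · left
      rw [zpow_mul, zpow_two, zz, one_zpow]
    · right
      rw [zpow_add, zpow_mul, zpow_two, zz, one_zpow, one_mul, zpow_one]
  · rintro (rfl | rfl)
    · exact one_mem _
    · exact mem_zpowers _

/-- `O₂(C(z)) = R` -/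
theorem OO2_eq [Finite X] {z : X} {R : Subgroup X} (h : SheetX z (centralizer ({z} : Set X)) R) : OO2 z = R := by
  haveI : Fact (Nat.Prime 2) := ⟨Nat.prime_two⟩
  apply le_antisymm
  · refine h.Rmax _ ?_ (OO2_isPGroup z) ?_
    · intro x hx
      exact mem_centralizer_singleton_iff.2 (OO2_comm hx)
    · intro x hx b hb
      exact OO2_conj hb (mem_centralizer_singleton_iff.1 hx)
  · intro r hr
    have hrc : r ∈ centralizer ({z} : Set X) := h.RP hr
    have hn : (R.subgroupOf (centralizer ({z} : Set X))).Normal := by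
      refine ⟨fun n hn g => ?_⟩
      exact h.Rn g g.2 n hn
    have h2 : IsPGroup 2 ↥(R.subgroupOf (centralizer ({z} : Set X))) :=
      h.R2.comap_of_injective _ (Subgroup.subtype_injective _)
    have h3 : R.subgroupOf (centralizer ({z} : Set X)) ≤ pCore 2 ↥(centralizer ({z} : Set X)) :=
      Lib.Cores.le_pCore hn h2
    exact ⟨⟨r, hrc⟩, h3 hr, rfl⟩

/-- the center of `R` -/
theorem sheet_cent {z : X} {P R : Subgroup X} (h : SheetX z P R) {b : X} (hb : b ∈ R) (hc : ∀ r ∈ R, b * r = r * b) :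
    b = 1 ∨ b = z := by
  rcases h.Rmin (R ⊓ centralizer (R : Set X)) inf_le_left (by
    rintro x hx b ⟨hb1, hb2⟩
    refine ⟨h.Rn x hx b hb1, ?_⟩
    have hb2 := mem_centralizer_iff.1 hb2
    refine mem_centralizer_iff.2 fun r hr => ?_
    have h1 := h.Rn x⁻¹ (P.inv_mem hx) r hr
    have h2 := hb2 _ h1
    calc r * (x * b * x⁻¹) = x * ((x⁻¹ * r * x⁻¹⁻¹) * b) * x⁻¹ := by group
      _ = x * (b * (x⁻¹ * r * x⁻¹⁻¹)) * x⁻¹ := by rw [h2]
      _ = x * b * x⁻¹ * r := by group) with h1 | h1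
  · exact h1 b ⟨hb, mem_centralizer_iff.2 fun r hr => (hc r hr).symm⟩
  · exfalso
    obtain ⟨a, ha, b, hb, hab⟩ := h.Rna
    rw [← h1] at ha
    exact hab ((mem_centralizer_iff.1 ha.2 b hb).symm)

/-- the squares of `R` -/
theorem sheet_sq [Finite X] {z : X} {P R : Subgroup X} (h : SheetX z P R) {x : X} (hx : x ∈ R) :
    x * x = 1 ∨ x * x = z := by
  have hzc : ∀ r ∈ R, r * z = z * r := fun r hr => h.cen r (h.RP hr)
  have hcl : ∀ a b : X, (a = 1 ∨ a = z) → (b = 1 ∨ b = z) → (a * b = 1 ∨ a * b = z) := by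
    rintro a b (rfl | rfl) (rfl | rfl)
    · left; rw [one_mul]
    · right; rw [one_mul]
    · right; rw [mul_one]
    · left; exact h.zz
  have hinv : ∀ a : X, (a = 1 ∨ a = z) → (a⁻¹ = 1 ∨ a⁻¹ = z) := by
    rintro a (rfl | rfl)
    · left; rw [inv_one]
    · right; exact inv_eq_of_mul_eq_one_right h.zz
  have hcen : ∀ a r : X, (a = 1 ∨ a = z) → r ∈ R → r * a = a * r := by
    rintro a r (rfl | rfl) hr
    · rw [one_mul, mul_one]
    · exact hzc r hr
  have hcomm : ∀ a ∈ R, ∀ b ∈ R, a * b * a⁻¹ * b⁻¹ = 1 ∨ a * b * a⁻¹ * b⁻¹ = z := fun a ha b hb =>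
    CaseM.X.comm_R h _ (commutator_mem_commutator ha hb)
  let B : Subgroup X :=
    { carrier := {x | x ∈ R ∧ (x * x = 1 ∨ x * x = z)}
      mul_mem' := by
        rintro a b ⟨ha, ha2⟩ ⟨hb, hb2⟩
        refine ⟨R.mul_mem ha hb, ?_⟩
        have h1 := hcomm a⁻¹ (R.inv_mem ha) b hb
        have h2 : a * b * (a * b) = (a * a) * ((a⁻¹ * b * a⁻¹⁻¹ * b⁻¹) * (b * b)) := by group
        rw [h2]
        exact hcl _ _ ha2 (hcl _ _ h1 hb2)
      one_mem' := ⟨R.one_mem, Or.inl (one_mul _)⟩
      inv_mem' := by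
        rintro a ⟨ha, ha2⟩
        refine ⟨R.inv_mem ha, ?_⟩
        rw [← mul_inv_rev]
        exact hinv _ ha2 }
  have hB : ∀ x, x ∈ B ↔ x ∈ R ∧ (x * x = 1 ∨ x * x = z) := fun x => Iff.rfl
  rcases h.Rmin B (fun x hx => ((hB x).1 hx).1) (by
    intro x hx b hb
    rw [hB] at hb ⊢
    refine ⟨h.Rn x hx b hb.1, ?_⟩
    have h1 : x * b * x⁻¹ * (x * b * x⁻¹) = x * (b * b) * x⁻¹ := by group
    rw [h1]
    rcases hb.2 with h2 | h2
    · left; rw [h2]; group
    · right; rw [h2, h.cen x hx, mul_inv_cancel_right]) with h1 | h1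
  · exfalso
    -- every element of `R` lies in `⟨z⟩`
    have h2 : ∀ r ∈ R, r = 1 ∨ r = z := by
      intro r hr
      obtain ⟨k, hk⟩ := h.R2 ⟨r, hr⟩
      have hk' : r ^ 2 ^ k = 1 := congrArg Subtype.val hk
      have h3 : ∀ k : ℕ, ∀ r ∈ R, r ^ 2 ^ k = 1 → r = 1 ∨ r = z := by
        intro k
        induction k with
        | zero =>
          intro r _ h4
          left
          rwa [pow_zero, pow_one] at h4
        | succ k ih =>
          intro r hr h4
          have h5 := ih (r * r) (R.mul_mem hr hr) (by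
            rw [← pow_two, ← pow_mul, mul_comm, ← pow_succ]; exact h4)
          exact h1 r ((hB r).2 ⟨hr, h5⟩)
      exact h3 k r hr hk'
    obtain ⟨a, ha, b, hb, hab⟩ := h.Rna
    exact hab (hcen b a (h2 b hb) ha)
  · rw [← h1] at hx
    exact ((hB x).1 hx).2

theorem large4_of_sheet [Finite X] {z : X} {R : Subgroup X} (h : SheetX z (centralizer ({z} : Set X)) R) :
    Large4 z (zpowers z) where
  zz := h.zz
  z1 := h.z1
  syl := by
    obtain ⟨S, -, hS, -⟩ := h.syl
    exact ⟨S, hS⟩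
  con := by
    intro g hg hc
    rw [OO2_eq h] at hc ⊢
    exact h.cR g (mem_centralizer_singleton_iff.2 hg) hc
  mem := mem_zpowers z
  le := by
    rw [zpowers_le, OO2_eq h]
    exact h.zR
  ex := by
    intro x hx
    rcases (mem_zpowers_two h.zz).1 hx with rfl | rfl
    · exact one_mul _
    · exact h.zz
  cen := by
    intro x hx g hg
    rcases (mem_zpowers_two h.zz).1 hx with rfl | rfl
    · rw [one_mul, mul_one]
    · exact hg
  sq := by
    intro x hx
    rw [OO2_eq h] at hx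
    exact (mem_zpowers_two h.zz).2 (sheet_sq h hx)
  nc := by
    intro x hx hx1
    rcases (mem_zpowers_two h.zz).1 hx with rfl | rfl
    · exact absurd rfl hx1
    · exact NI.Ex.Lemma.Good.noComm (NI.Ex.good_of_sheet h)
  fix := by
    intro β _ hβ x hx
    rcases (mem_zpowers_two h.zz).1 hx with rfl | rfl
    · exact map_one _
    · exact hβ
  four := by
    intro B hB hc h4
    exfalso
    rw [OO2_eq h] at hB hc
    have h5 : (B : Set X) ⊆ {1, z} := by
      intro b hb
      exact sheet_cent h (hB hb) (hc b hb)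
    have h6 : (B : Set X).ncard ≤ ({1, z} : Set X).ncard := Set.ncard_le_ncard h5 (Set.toFinite _)
    have h7 : ({1, z} : Set X).ncard ≤ 2 := Set.ncard_insert_le _ _ |>.trans (by simp)
    have h8 : (B : Set X).ncard = 4 := by
      change Nat.card B = 4
      exact h4
    omega

/-- the center of a simple group with two elements which do not commute -/
theorem center_bot [hs : IsSimpleGroup X] {a b : X} (h : a * b ≠ b * a) : center X = ⊥ := by
  rcases (inferInstance : (center X).Normal).eq_bot_or_eq_top with h1 | h1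
  · exact h1
  · exact absurd ((mem_center_iff.1 (h1 ▸ mem_top b : b ∈ center X)) a) h

theorem row4_of_sheet [Finite X] [IsSimpleGroup X] {z : X} {R : Subgroup X}
    (h : SheetX z (centralizer ({z} : Set X)) R) : Row4 X := by
  obtain ⟨a, _, b, _, hab⟩ := h.Rna
  exact row4_of_large (center_bot hab) (large4_of_sheet h)

/-- the row from a sheet of a model -/
theorem row4_of_sheetE {Y : Type*} [Group Y] [Finite X] [IsSimpleGroup X] (e : Y ≃* X) {z : Y} {R : Subgroup Y}
    (h : D8.Sheet.SheetE z (centralizer ({z} : Set Y)) R) : Row4 X := by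
  refine row4_of_sheet (z := e z) (R := R.map e.toMonoidHom) ?_
  rw [D8.SheetMap.centralizer_map e z]
  exact of_sheetE (D8.SheetMap.sheetE_map e h)

/-- the row from a model -/
theorem row4_of_equiv {Y : Type u} [Group Y] [Finite Y] (e : Y ≃* X) (hZ : center X = ⊥) {ζ : Y} {Z₁ : Subgroup Y}
    (h : Large4 ζ Z₁) : Row4 X := by
  haveI : Finite X := Finite.of_equiv _ e.toEquiv
  exact row4_of_large hZ (h.map e)

end Cfsg.Agent.OddHalf.NI3.Ex4
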