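import Cfsg.Agent.OddHalf.NI3.Ex4.LargeZ
import Cfsg.Agent.OddHalf.NI3.Ex4.OfSheet
import Cfsg.Agent.OddHalf.NI.Ex.HasGTwoFour

/-!
# (EX4): the row `G₂(4)` (helper831)

`ζ` a long root element: `C(ζ) = 2^{2+8} : A₅`, `O₂(C(ζ)) = Q₁` of order `2¹⁰`, `Z₁ = Z(Q₁)` of order four.
-/

set_option autoImplicit false
set_option linter.style.haveILetI false

namespace Cfsg.Agent.OddHalf.NI3.Ex4

open Subgroup Cfsg
open Cfsg.Agent.OddHalf.NI.Ex (Good hasGood_L good_long exists_long cent_eq_P finite_L' card_L')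
open Cfsg.Agent.GTwoFour Cfsg.Agent.GTwoFour.Mdl
open Cfsg.Agent.StdG24.Mod6

universe u

/-- a Sylow 2-subgroup contained in a subgroup of odd index -/
theorem exists_syl_of_odd {K : Type*} [Group K] [Finite K] (C : Subgroup K) (hodd : Odd C.index) :
    ∃ T : Sylow 2 K, (T : Subgroup K) ≤ C := by
  haveI : Fact (Nat.Prime 2) := ⟨Nat.prime_two⟩
  obtain ⟨P⟩ : Nonempty (Sylow 2 C) := inferInstance
  have h1 : IsPGroup 2 ((P : Subgroup C).map C.subtype) := P.2.map _
  obtain ⟨T, hT⟩ := h1.exists_le_sylow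
  have hcard : Nat.card (T : Subgroup K) ≤ Nat.card ((P : Subgroup C).map C.subtype) := by
    rw [Nat.card_congr ((P : Subgroup C).equivMapOfInjective C.subtype C.subtype_injective).toEquiv.symm,
      T.card_eq_multiplicity, P.card_eq_multiplicity]
    have h2 : Nat.card K = Nat.card C * C.index := (Subgroup.card_mul_index C).symm
    have h3 : (Nat.card K).factorization 2 = (Nat.card C).factorization 2 := by
      rw [h2, Nat.factorization_mul (Nat.card_pos.ne') (Subgroup.index_ne_zero_of_finite)]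
      simp only [Finsupp.coe_add, Pi.add_apply]
      rw [Nat.factorization_eq_zero_of_not_dvd (n := C.index), add_zero]
      rw [← even_iff_two_dvd, Nat.not_even_iff_odd]
      exact hodd
    rw [h3]
  have heq : (P : Subgroup C).map C.subtype = (T : Subgroup K) := eq_of_le_of_card_ge hT hcard
  refine ⟨T, ?_⟩
  rw [← heq]
  exact Subgroup.map_subtype_le _

section L

theorem mem_cent {z : L} (hz : z ∈ DL.Z) (h1 : z ≠ 1) {x : L} : x * z = z * x ↔ x ∈ DL.P := by
  rw [← mem_centralizer_singleton_iff, cent_eq_P hz h1]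

theorem OO2_L {z : L} (hz : z ∈ DL.Z) (h1 : z ≠ 1) : OO2 z = DL.Q1 := by
  haveI : Finite L := finite_L'
  haveI : Fact (Nat.Prime 2) := ⟨Nat.prime_two⟩
  apply le_antisymm
  · refine factsL.core_P _ ?_ ?_ (OO2_isPGroup z)
    · intro x hx
      exact (mem_cent hz h1).1 (OO2_comm hx)
    · intro p hp x hx
      exact OO2_conj hx ((mem_cent hz h1).2 hp)
  · have hle : DL.Q1 ≤ centralizer ({z} : Set L) := by
      rw [cent_eq_P hz h1]; exact factsL.Q1_le
    have hQ : IsPGroup 2 ↥DL.Q1 := IsPGroup.of_card (n := 10) (by rw [factsL.card_Q1]; norm_num)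
    intro r hr
    have hn : (DL.Q1.subgroupOf (centralizer ({z} : Set L))).Normal := by
      refine ⟨fun n hn g => ?_⟩
      have hg : (g : L) ∈ DL.P := by
        rw [← cent_eq_P hz h1]; exact g.2
      exact factsL.norm_Q1 g hg n hn
    have h2 : IsPGroup 2 ↥(DL.Q1.subgroupOf (centralizer ({z} : Set L))) :=
      hQ.comap_of_injective _ (Subgroup.subtype_injective _)
    have h3 : DL.Q1.subgroupOf (centralizer ({z} : Set L)) ≤ pCore 2 ↥(centralizer ({z} : Set L)) :=
      Lib.Cores.le_pCore hn h2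
    exact ⟨⟨r, hle hr⟩, h3 hr, rfl⟩

/-- the center of `Q₁` -/
theorem mem_Z_iff {x : L} : x ∈ DL.Z ↔ x ∈ DL.Q1 ∧ ∀ q ∈ DL.Q1, x * q = q * x := by
  constructor
  · intro hx
    refine ⟨factsL.Z_le hx, fun q hq => ?_⟩
    have h1 := factsL.Q1_le hq
    exact (((factsL.cent_Z q (factsL.P_le h1)).2 h1) x hx).symm
  · rintro ⟨h1, h2⟩
    exact factsL.center_Q1 x h1 h2

theorem preG_L {z : L} (hz : z ∈ DL.Z) (h1 : z ≠ 1) : PreG z DL.Z := by
  haveI : Finite L := finite_L'
  haveI : Fact (Nat.Prime 2) := ⟨Nat.prime_two⟩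
  refine
    { zz := factsL.sq_Z z hz
      z1 := h1
      syl := ?_
      con := ?_
      mem := hz
      le := by rw [OO2_L hz h1]; exact factsL.Z_le
      ex := factsL.sq_Z
      cen := ?_
      sq := by rw [OO2_L hz h1]; exact factsL.sq_Q1
      gd := fun x hx hx1 => good_long hx hx1
      fix := ?_ }
  · -- a Sylow 2-subgroup of odd index
    have h3 := (centralizer ({z} : Set L)).card_mul_index
    have h4 : Nat.card (centralizer ({z} : Set L)) = 61440 := by
      rw [cent_eq_P hz h1]; exact factsL.card_P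
    rw [h4, card_L'] at h3
    have h5 : (centralizer ({z} : Set L)).index = 4095 := by omega
    obtain ⟨S, hS⟩ := exists_syl_of_odd (centralizer ({z} : Set L)) (by rw [h5]; decide)
    exact ⟨S, fun x hx => mem_centralizer_singleton_iff.1 (hS hx)⟩
  · intro h hh hc
    rw [OO2_L hz h1] at hc ⊢
    refine factsL.cent_Q1Z h ((mem_cent hz h1).1 hh) fun q hq => ?_
    rw [commutatorElement_def, hc q hq, mul_inv_cancel_right, mul_inv_cancel]
    exact one_mem _
  · intro x hx h hh
    have h3 := (mem_cent hz h1).1 hh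
    exact ((factsL.cent_Z h (factsL.P_le h3)).2 h3) x hx
  · -- an automorphism of order three which fixes `z` is trivial on `Z`
    intro β b3 hβ
    have hb : ∀ x ∈ DL.Z, β x ∈ DL.Z := by
      intro x hx
      rw [mem_Z_iff] at hx ⊢
      rw [← OO2_L hz h1] at hx ⊢
      refine ⟨beta_OO2 hβ hx.1, fun q hq => ?_⟩
      have hβ' : β.symm z = z := by rw [MulEquiv.symm_apply_eq]; exact hβ.symm
      have hq' : β.symm q ∈ OO2 z := beta_OO2 (β := β.symm) hβ' hq
      have h3 := hx.2 _ hq'
      have h4 := congrArg β h3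
      rwa [map_mul, map_mul, MulEquiv.apply_symm_apply] at h4
    intro x hx
    by_contra hne
    have hx1 : x ≠ 1 := by rintro rfl; exact hne (map_one β)
    have hxz : x ≠ z := by rintro rfl; exact hne hβ
    have hxzx : x * z ≠ 1 := by
      intro h3
      apply hxz
      have h4 := factsL.sq_Z x hx
      exact (mul_left_cancel (h4.trans h3.symm)).symm ▸ rfl
    have h3 : ∀ c ∈ DL.Z, c = 1 ∨ c = x ∨ c = z ∨ c = x * z :=
      four_cases factsL.card_Z hx hz hx1 h1 hxz hxzx
    -- `β x = x z`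
    have h4 : β x = x * z := by
      rcases h3 _ (hb x hx) with e | e | e | e
      · exact absurd (β.injective (by rw [e, map_one])) hx1
      · exact absurd e hne
      · exact absurd (β.injective (by rw [e, hβ])) hxz
      · exact e
    have h5 : β (β (β x)) = x * z := by
      rw [h4, map_mul, h4, hβ, mul_assoc, factsL.sq_Z z hz, mul_one, h4]
    have h6 : β (β (β x)) = x := by
      have := DFunLike.congr_fun b3 x
      rwa [MulAut.mul_apply, MulAut.mul_apply, MulAut.one_apply] at this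
    rw [h6] at h5
    exact h1 (mul_eq_left.1 h5.symm)

end L

theorem row_g24 (X : Type u) [Group X] [Finite X] [IsSimpleGroup X] (h : D9.Cut.XG24 X) : Row4 X := by
  haveI : Finite L := finite_L'
  obtain ⟨F, i1, i2, hF, ⟨e⟩⟩ := h
  obtain ⟨e'⟩ := Cfsg.Agent.StdG24.Iso6.equiv_chev F hF
  have f : L ≃* X := e'.trans e.symm
  obtain ⟨z, hz, h1⟩ := exists_long
  have hP := ((preG_L hz h1).map f).pre4
  have hOO : ∀ x : L, f x ∈ OO2 (f z) ↔ x ∈ DL.Q1 := fun x => by rw [OO2_map_iff, OO2_L hz h1]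
  -- a noncommuting pair
  have hnc : ∃ a b : L, a * b ≠ b * a := by
    by_contra hcon
    push Not at hcon
    have h3 : centralizer ({z} : Set L) = ⊤ := by
      rw [eq_top_iff]
      intro x _
      exact mem_centralizer_singleton_iff.2 (hcon x z)
    rw [cent_eq_P hz h1] at h3
    have h4 := factsL.card_P
    rw [h3, Subgroup.card_top, card_L'] at h4
    omega
  obtain ⟨a, b, hab⟩ := hnc
  refine row4_of_large (ζ := f z) (Z₁ := DL.Z.map (f : L →* X))
    (center_bot (a := f a) (b := f b) fun h3 => hab (f.injective (by rw [map_mul, map_mul, h3]))) ?_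
  refine ⟨hP.zz, hP.z1, hP.syl, hP.con, hP.mem, hP.le, hP.ex, hP.cen, hP.sq, hP.nc, hP.fix, ?_⟩
  intro B hB hc h4
  have h5 : ∃ b ∈ B, b ≠ 1 := by
    by_contra hcon
    push Not at hcon
    have h6 : B = ⊥ := (Subgroup.eq_bot_iff_forall _).2 hcon
    rw [h6, Subgroup.card_bot] at h4
    omega
  obtain ⟨b, hb, hb1⟩ := h5
  refine ⟨b, hb, hb1, ?_⟩
  obtain ⟨x, rfl⟩ := f.surjective b
  refine ⟨x, mem_Z_iff.2 ⟨(hOO x).1 (hB hb), fun q hq => ?_⟩, rfl⟩
  exact f.injective (by rw [map_mul, map_mul]; exact hc _ hb _ ((hOO q).2 hq))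

end Cfsg.Agent.OddHalf.NI3.Ex4
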