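import Cfsg.Agent.OddHalf.NI3.Ex4.OfSheet
import Cfsg.Agent.OddHalf.NI.Ex.RowHS

/-!
# (EX4), row `HS`

`z` of class 2A, `R = O₂(C(z)) = 4 ∘ 2^(1+4)`: `Large4 z ⟨z⟩` (the elements of `C(z)` which centralise `R` are `1`, `z`,
`u`, `u⁻¹` with `u² = z`, so `z` is in every subgroup of order 4 of `Z(R)`).
-/

set_option autoImplicit false
set_option linter.style.haveILetI false

namespace Cfsg.Agent.OddHalf.NI3.Ex4.RowHS

open Subgroup Cfsg
open Cfsg.Agent.HN Cfsg.Agent.HN.Pres Cfsg.Agent.HN.HS100 Cfsg.Agent.HN.P1408 Cfsg.Agent.HN.H0Basic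
open Cfsg.Agent.HN.XMat Cfsg.Agent.HN.WMask Cfsg.Agent.KFacts.HS Cfsg.Agent.KFacts.HS.Cent

universe u

variable {L : Type u} [Group L] (D : Cfsg.Agent.KFacts.HS.Mod L)

theorem sgL (e : Bool) : D.π ⟨sg e, sg_mem_K e⟩ = 1 ∨ D.π ⟨sg e, sg_mem_K e⟩ = D.z := by
  cases e
  · exact Or.inl (D.π_one _)
  · exact Or.inr rfl

/-- the squares of `R` -/
theorem sqR {x : L} (hx : x ∈ D.R) : x * x = 1 ∨ x * x = D.z := by
  obtain ⟨g, hg, hgR, rfl⟩ := D.mem_im.1 hx
  obtain ⟨m, _, _, e, he⟩ := mem_Rt.1 hgR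
  obtain ⟨e', he'⟩ := R_sq m
  have h1 : g * g = sg e' := by
    calc g * g = R m * (sg e * R m) * sg e := by rw [he]; group
      _ = (R m * R m) * (sg e * sg e) := by rw [R_sg]; group
      _ = sg e' := by
        rw [he', sg_mul, sg_mul]
        cases e' <;> cases e <;> rfl
  have h2 : D.π ⟨g, hg⟩ * D.π ⟨g, hg⟩ = D.π ⟨sg e', sg_mem_K e'⟩ := by
    rw [D.π_mul]
    exact D.π_congr _ h1
  rw [h2]
  exact sgL D e'

theorem OO2_eq : OO2 D.z = D.R := by
  haveI := D.finite
  haveI : Fact (Nat.Prime 2) := ⟨Nat.prime_two⟩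
  apply le_antisymm
  · refine D.core _ (fun x hx => mem_centralizer_singleton_iff.2 (OO2_comm hx)) (OO2_isPGroup D.z) ?_
    intro x hx c hc
    exact OO2_conj hc (D.Pcomm hx)
  · intro r hr
    have hrc : r ∈ centralizer ({D.z} : Set L) := D.P_le (D.RP hr)
    have hn : (D.R.subgroupOf (centralizer ({D.z} : Set L))).Normal := by
      refine ⟨fun n hn g => ?_⟩
      exact D.Rn' (mem_centralizer_singleton_iff.1 g.2) hn
    have h2 : IsPGroup 2 ↥(D.R.subgroupOf (centralizer ({D.z} : Set L))) :=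
      D.isPGroup_R.comap_of_injective _ (Subgroup.subtype_injective _)
    have h3 : D.R.subgroupOf (centralizer ({D.z} : Set L)) ≤ pCore 2 ↥(centralizer ({D.z} : Set L)) :=
      Lib.Cores.le_pCore hn h2
    exact ⟨⟨r, hrc⟩, h3 hr, rfl⟩

/-- **`Large4`** -/
theorem large4 : Large4 D.z (zpowers D.z) := by
  haveI := D.finite
  have hO := OO2_eq D
  have hmem : ∀ x : L, x ∈ zpowers D.z ↔ x = 1 ∨ x = D.z := fun x => mem_zpowers_two D.zz
  exact
  { zz := D.zz
    z1 := D.z1
    syl := by
      obtain ⟨S, _, zc, _⟩ := D.syl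
      exact ⟨S, zc⟩
    con := by
      intro h hh hc
      rw [hO] at hc ⊢
      rcases D.cR' h hh hc with h1 | h1 | h1 | h1
      · rw [h1]; exact one_mem _
      · rw [h1]; exact D.zR
      · rw [h1]; exact D.uR
      · rw [h1]; exact inv_mem D.uR
    mem := mem_zpowers _
    le := by
      rw [hO, zpowers_le]; exact D.zR
    ex := by
      intro x hx
      rcases (hmem x).1 hx with h | h
      · rw [h, one_mul]
      · rw [h]; exact D.zz
    cen := by
      intro x hx h hh
      rcases (hmem x).1 hx with h1 | h1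
      · rw [h1, one_mul, mul_one]
      · rw [h1]; exact hh
    sq := by
      intro x hx
      rw [hO] at hx
      exact (hmem _).2 (sqR D hx)
    nc := by
      intro x hx h1
      rcases (hmem x).1 hx with h2 | h2
      · exact absurd h2 h1
      · rw [h2]; exact NI.Ex.Lemma.Good.noComm (NI.Ex.RowHS.good D)
    fix := by
      intro β _ hβ x hx
      rcases (hmem x).1 hx with h | h
      · rw [h, map_one]
      · rw [h]; exact hβ
    four := by
      intro B hB hc h4
      have h5 : ∀ b ∈ B, b = 1 ∨ b = D.z ∨ b = D.u ∨ b = D.u⁻¹ := by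
        intro b hb
        refine D.cR' b (OO2_comm (hB hb)) fun r hr => hc b hb r ?_
        rw [hO]; exact hr
      by_contra hcon
      push Not at hcon
      have h6 : D.z ∉ B := fun h => hcon D.z h D.z1 (mem_zpowers _)
      have h7 : ∀ b ∈ B, b = 1 := by
        intro b hb
        rcases h5 b hb with h | h | h | h
        · exact h
        · exact absurd (h ▸ hb) h6
        · exfalso; apply h6; rw [← D.uu, ← h]; exact mul_mem hb hb
        · exfalso; apply h6
          have h8 : D.u = b⁻¹ := by rw [h, inv_inv]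
          rw [← D.uu, h8]; exact mul_mem (inv_mem hb) (inv_mem hb)
      have h8 : B = ⊥ := by
        rw [eq_bot_iff]
        intro b hb
        exact mem_bot.2 (h7 b hb)
      rw [h8, card_bot] at h4
      omega }

/-- **row `HS`** -/
theorem row_hs (X : Type u) [Group X] [Finite X] [IsSimpleGroup X] (h : Spor.IsoHS X) : Row4 X := by
  obtain ⟨D⟩ := exists_mod h
  obtain ⟨a, b, hab⟩ : ∃ a b : X, a * b ≠ b * a := by
    by_contra hcon
    push Not at hcon
    have h1 : D.P = ⊥ := by
      rw [← D.perf, eq_bot_iff, commutator_le]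
      intro x _ y _
      rw [mem_bot, commutatorElement_eq_one_iff_mul_comm]
      exact hcon x y
    have h2 := D.cardP
    rw [h1, card_bot] at h2
    omega
  exact row4_of_large (center_bot hab) (large4 D)

end Cfsg.Agent.OddHalf.NI3.Ex4.RowHS
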