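import Cfsg.Agent.OddHalf.NI3.Ex4.OfSheet
import Cfsg.Agent.KFacts.J2.SheetX

/-!
# (EX4): the row of the Hall-Janko group
-/

set_option autoImplicit false

namespace Cfsg.Agent.OddHalf.NI3.Ex4

open Cfsg

universe u

theorem row_j2 (X : Type u) [Group X] [Finite X] [IsSimpleGroup X] (h : Spor.IsoJ2 X) : Row4 X := by
  obtain ⟨t, u, Q, v, ρ, D⟩ := Cfsg.Agent.KFacts.J2.Facts.exists_dat_of h
  exact row4_of_sheet (Cfsg.Agent.KFacts.J2.SheetX.sheetX D)

end Cfsg.Agent.OddHalf.NI3.Ex4
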