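import Cfsg.Agent.OddHalf.NI3.Ex4.Tri
import Cfsg.Agent.OddHalf.NI3.Bad.ExM12

/-!
# (EX4), row `M12` (helper941)
-/

set_option autoImplicit false

namespace Cfsg.Agent.OddHalf.NI3.Ex4

open Subgroup Cfsg Cfsg.Agent.OddHalf.NI3.ExTri

universe u

/-- the triples of `M12` -/
theorem twoTriI_m12 : TwoTriI Spor.M12 := by
  intro w β h1 h2 h3 h4 h5
  have hinner : β ∈ (MulAut.conj : Spor.M12 →* MulAut Spor.M12).range := by
    apply CoThreeStd.M12.Out.inner_of_odd_of_equiv CoThreeStd.M12.equiv (k := 3) (by decide)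
    rw [pow_succ, pow_succ, pow_one]
    exact h3
  obtain ⟨b, rfl⟩ := hinner
  have hZ : ∀ x : Spor.M12, MulAut.conj x = 1 → x = 1 := by
    intro x hx
    have hxZ : x ∈ center Spor.M12 := by
      rw [mem_center_iff]
      intro g
      have h3 := DFunLike.congr_fun hx g
      rw [MulAut.conj_apply, MulAut.one_apply, mul_inv_eq_iff_eq_mul] at h3
      exact h3.symm
    rw [Omega.TwoF.RowM12.center_eq, mem_bot] at hxZ
    exact hxZ
  have b3 : b * b * b = 1 := hZ _ (by rw [map_mul, map_mul]; exact h3)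
  have b1 : b ≠ 1 := by
    rintro rfl
    exact h4 (map_one _)
  have hwb : w * b = b * w := by
    rw [MulAut.conj_apply, mul_inv_eq_iff_eq_mul] at h5
    exact h5.symm
  have htr : ∀ x : Spor.M12, Tri (MulAut.conj w) (MulAut.conj b) x ↔ TriW w b x := by
    intro x
    constructor
    · intro t
      refine ⟨?_, t.sq, t.ne, t.tri⟩
      have := t.fix
      rw [MulAut.conj_apply, mul_inv_eq_iff_eq_mul] at this
      exact this.symm
    · intro t
      refine ⟨?_, t.sq, t.ne, t.tri⟩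
      rw [MulAut.conj_apply, mul_inv_eq_iff_eq_mul]
      exact t.comm.symm
  rcases ExM12.pair w b h1 h2 b3 b1 hwb with h | ⟨a, ha, c, hc, ta, tc, n1, n2, n3⟩
  · left
    intro x hx
    exact h x (mem_subgroupOf.2 x.2) ((htr x).1 hx)
  · right
    exact ⟨a, c, (htr a).2 ta, (htr c).2 tc, n1, n2, n3⟩

/-- **(EX4), row `M12`** -/
theorem row_m12 {X : Type u} [Group X] (h : Spor.IsoM12 X) : Row4 X := by
  obtain ⟨e⟩ := h
  haveI : Finite X := Finite.of_equiv _ e.symm.toEquiv
  exact row4_of_twoTriI (center_eq_bot_of_equiv e Omega.TwoF.RowM12.center_eq) (twoTriI_of_iso e.symm twoTriI_m12)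

end Cfsg.Agent.OddHalf.NI3.Ex4
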