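import Cfsg.Agent.OddHalf.NI3.Ex4.Tri
import Cfsg.Agent.OddHalf.NI3.Bad.ExM22

/-!
# (EX4), row `M22` (helper941)
-/

set_option autoImplicit false

namespace Cfsg.Agent.OddHalf.NI3.Ex4

open Subgroup Cfsg

universe u

/-- (EX4) for `M22`, in the strong form -/
theorem ex4_m22 {X : Type u} [Group X] (h : Spor.IsoM22 X) : EX4 X ∧ center X = ⊥ := by
  obtain ⟨e⟩ := h
  have hZ : center Spor.M22 = ⊥ := by
    rw [eq_bot_iff]
    intro c hc
    have h1 : (c : Equiv.Perm GolayPt) = 1 := by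
      apply J4Type.Aut22.eq_one_of_centralizes (J4Type.Aut22.M22_le_D22 c.2)
      intro m
      have h2 := congrArg Subtype.val (mem_center_iff.1 hc m)
      have h3 : (m : Equiv.Perm GolayPt) * c = c * m := h2
      rw [← h3]
      group
    exact mem_bot.2 (Subtype.ext h1)
  haveI : Finite X := Finite.of_equiv _ e.symm.toEquiv
  have hX := center_eq_bot_of_equiv e hZ
  exact ⟨ex4_of_twoTri hX (ExTri.twoTri_of_iso e.symm ExM22.twoTri), hX⟩

/-- **(EX4), row `M22`** -/
theorem row_m22 {X : Type u} [Group X] (h : Spor.IsoM22 X) : Row4 X := (ex4_m22 h).1.row4 (ex4_m22 h).2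

end Cfsg.Agent.OddHalf.NI3.Ex4
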