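import Cfsg.Agent.OddHalf.NI3.Ex4.Defs
import Cfsg.Agent.OddHalf.NI3.Bad.ExFour
import Cfsg.Agent.OddHalf.NI.Ex.RowRu

/-!
# (EX4): the row `Ru`

`bad`: no `ExFour.Bad` configuration in the Rudvalis group: `α`, `β` are inner (by `u`, `v`), `v` of order three in
`C(u)`, so `u` is of class 2A, and `[O₂(C(u)), v]` is not elementary abelian.
-/

set_option autoImplicit false

namespace Cfsg.Agent.OddHalf.NI3.Ex4.RowRu

open Subgroup Cfsg Cfsg.Agent.OddHalf.NI3 Cfsg.Agent.SporadicB

universe u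

variable {X : Type u} [Group X]

theorem center_of (e : X ≃* RuOrder.H) : center X = ⊥ := by
  rw [eq_bot_iff]
  intro c hc
  rw [mem_bot]
  apply e.injective
  rw [map_one]
  have h1 : e c ∈ center RuOrder.H := mem_center_iff.2 fun y => by
    have h2 := congrArg e (mem_center_iff.1 hc (e.symm y))
    rw [map_mul, map_mul, e.apply_symm_apply] at h2
    exact h2
  rwa [Cfsg.Agent.RuLat.center_H, mem_bot] at h1

/-- **no bad configuration** -/
theorem bad [Finite X] (e : X ≃* RuOrder.H) : ExFour.EX4 X := by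
  intro α β A h
  have hZ := center_of e
  have hinj := ExFour.conj_inj hZ
  obtain ⟨u, hu'⟩ := NI.Ex.RowRu.exists_inner e α
  obtain ⟨v, hv'⟩ := NI.Ex.RowRu.exists_inner e β
  have hu : α = MulAut.conj u := by ext x; rw [hu', MulAut.conj_apply]
  have hv : β = MulAut.conj v := by ext x; rw [hv', MulAut.conj_apply]
  have huu : u * u = 1 := by
    apply hinj
    rw [map_mul, map_one, ← hu]; exact h.sq
  have hu1 : u ≠ 1 := by
    rintro rfl
    exact h.ne (by rw [hu, map_one])
  have hv3 : v * v * v = 1 := by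
    apply hinj
    rw [map_mul, map_mul, map_one, ← hv]; exact h.cube
  have hv1 : v ≠ 1 := by
    rintro rfl
    exact h.beta_ne (by rw [hv, map_one])
  have huv : v * u = u * v := by
    apply hinj
    rw [map_mul, map_mul, ← hv, ← hu]; exact h.comm.symm
  have evu : e v * e u = e u * e v := by rw [← map_mul, huv, map_mul]
  have ev3 : e v * e v * e v = 1 := by rw [← map_mul, ← map_mul, hv3, map_one]
  have ev1 : e v ≠ 1 := fun h => hv1 (e.injective (by rw [h, map_one]))
  rcases Bad.ExRuK.main (z := e u) (by rw [← map_mul, huu, map_one])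
    (fun h => hu1 (e.injective (by rw [h, map_one]))) with ⟨B, hB⟩ | h'
  · obtain ⟨y, hy, hne⟩ := hB.three (e v) evu ev3 ev1
    apply hne
    let Q : Subgroup X := B.comap e.toMonoidHom
    have hQm : ∀ q, q ∈ Q ↔ e q ∈ B := fun q => Iff.rfl
    have hQ2 : IsPGroup 2 Q := hB.two.comap_of_injective _ e.injective
    have hyQ : (e.symm y)⁻¹ ∈ Q := by rw [hQm, map_inv, e.apply_symm_apply]; exact inv_mem hy
    have h1 : (e.symm y)⁻¹⁻¹ * β (e.symm y)⁻¹ ∈ A := by
      refine h.mem_of_two hZ hQ2 ?_ ?_ hyQ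
      · intro q hq
        rw [hu', mul_inv_eq_iff_eq_mul]
        apply e.injective
        rw [map_mul, map_mul]
        exact (hB.comm _ hq).symm
      · intro q hq
        rw [hQm, hv', map_mul, map_mul, map_inv]
        exact hB.nor _ evu _ hq
    have h2 := h.inv _ h1
    have h3 := congrArg e h2
    rw [inv_inv, hv', map_mul, map_mul, map_mul, map_mul, map_inv, map_inv, e.apply_symm_apply, map_one] at h3
    calc y * e v * y⁻¹ * (e v)⁻¹ * (y * e v * y⁻¹ * (e v)⁻¹)
        = y * (e v * y⁻¹ * (e v)⁻¹) * (y * (e v * y⁻¹ * (e v)⁻¹)) := by group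
      _ = 1 := h3
  · exact ev1 (h' (e v) evu ev3)

theorem ex4 [Finite X] (e : X ≃* RuOrder.H) : EX4 X := by
  intro α β A h1 h2 h3 h4 h5 h6 h7 h8 h9 h10 _
  refine bad e α β A ⟨h1, h2, h3, h4, h5, h7, h6, h8, ?_, ?_⟩
  · have h11 : 1 < Nat.card A := by omega
    have : Nontrivial A := Finite.one_lt_card_iff_nontrivial.1 h11
    obtain ⟨a, ha⟩ := exists_ne (1 : A)
    exact ⟨a, a.2, fun h => ha (Subtype.ext (h9 a a.2 h))⟩
  · exact h10

theorem row4 [Finite X] (e : X ≃* RuOrder.H) : Row4 X := (ex4 e).row4 (center_of e)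

/-- **row `Ru`** -/
theorem ru [Finite X] (h : Spor.IsoRu X) : Row4 X := by
  obtain ⟨e⟩ := h
  exact row4 (e.trans Cfsg.Agent.RuLat.Main.equiv)

end Cfsg.Agent.OddHalf.NI3.Ex4.RowRu
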