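import Cfsg.Agent.OddHalf.NI3.Ex4.SpSix
import Cfsg.Agent.OddHalf.NI3.Ex.SpSix
import Cfsg.Agent.StandardComponent.SpTwoAut

/-!
# (EX4), row `Sp₆(2)` (helper941)
-/

set_option autoImplicit false

namespace Cfsg.Agent.OddHalf.NI3.Ex4

open Subgroup Cfsg Cfsg.Agent.OddHalf.NI3.ExTri Cfsg.Agent.OddHalf.D9.Cut

universe u

/-- the triples and quaternion groups of `Sp₆(2)` -/
theorem twoTriQ_sp62 : TwoTriQ (Matrix.symplecticGroup (Fin 3) (ZMod 2)) := by
  intro w b h1 h2 h3 h4 h5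
  exact SpSix.main StandardComponent.SpTwoModel.data StandardComponent.SpTwoModel.card_V h1 h2 h3 h4 h5

/-- **(EX4), row `Sp₆(2)`** -/
theorem row_sp62 {X : Type u} [Group X] [Finite X] (hs : IsSimpleGroup X) (hna : ¬ IsMulCommutative X)
    (h : XSp62 X) : Row4 X := by
  have hZ := (NI3.Ex.ct_sp62 hs hna h).center
  have hin := NI3.Ex.inner_sp62 hs hna h
  obtain ⟨F, i, j, hF, ⟨e⟩⟩ := h
  obtain ⟨e'⟩ := StandardComponent.SpTwoAut.exists_equiv hF
  exact row4_of_twoTriQ hZ (fun β _ => hin β) (twoTriQ_of_iso (e.trans e').symm twoTriQ_sp62)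

end Cfsg.Agent.OddHalf.NI3.Ex4
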