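import Cfsg.Agent.OddHalf.NI3.Ex4.OfSheet
import Cfsg.Agent.TwoESix.SheetMain
import Cfsg.Agent.OddHalf.D9.Cut

/-!
# (EX4): the row `²E₆(2)`
-/

set_option autoImplicit false

namespace Cfsg.Agent.OddHalf.NI3.Ex4

open Cfsg Cfsg.Agent.OddHalf.D9.Cut

universe u

theorem row_te62 (X : Type u) [Group X] [Finite X] [IsSimpleGroup X] (h : X2E62 X) : Row4 X := by
  obtain ⟨F, _, _, hF, ⟨e⟩⟩ := h
  obtain ⟨-, φ, F'⟩ := Cfsg.Agent.TwoESix.LeviA.exists_four F hF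
  exact row4_of_sheetE e.symm (Cfsg.Agent.TwoESix.SheetMain.sheet F')

end Cfsg.Agent.OddHalf.NI3.Ex4
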