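import Cfsg.Agent.OddHalf.NI3.Ex4.Large
import Cfsg.Agent.OddHalf.D4.Sz.KFB
import Cfsg.Agent.OddHalf.D9.Cut
import Cfsg.Agent.LThreeFour.Inv
import Cfsg.Agent.LThreeFour.Exists

/-!
# (EX4), rows `L₃(4)` and `Sz(q)` (helper146)

`Cfg4.false_of_two` : `C(w)` is a 2-group and the involutions of its centre are squares.
-/

set_option autoImplicit false
set_option linter.style.haveILetI false

namespace Cfsg.Agent.OddHalf.NI3.Ex4

open Subgroup Cfsg

universe u

section Lem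

variable {X : Type u} [Group X] {w : X} {β : MulAut X} {A : Subgroup X}

theorem Cfg4.false_of_two [Finite X] (C : Cfg4 w β A) (hZ : center X = ⊥)
    (h2 : IsPGroup 2 ↥(centralizer ({w} : Set X)))
    (hsq : ∀ a : X, a * a = 1 → (∀ s, s * w = w * s → s * a = a * s) → ∃ x, x * w = w * x ∧ x * x = a) :
    False := by
  have key : ∀ s, s * w = w * s → β s * s⁻¹ ∈ A := by
    intro s hs
    refine C.two hZ h2 (fun b hb => mem_centralizer_singleton_iff.1 hb) ?_ C.bC s
      (mem_centralizer_singleton_iff.2 hs)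
    intro a ha b hb
    have h3 : a ∈ centralizer ({w} : Set X) := mem_centralizer_singleton_iff.2 (C.Aw a ha)
    exact mul_mem (mul_mem h3 hb) (inv_mem h3)
  have hww := C.ww
  -- every element of `A` is a commutator with `β`
  have hA : ∀ a ∈ A, β (β a) * (β a)⁻¹ = a := by
    intro a ha
    have h1 := C.prod ha
    have h2 := C.A2 _ (C.bA a ha)
    have h3 : (β a)⁻¹ = β a := inv_eq_of_mul_eq_one_left h2
    have h4 : β (β a) * β a = β a * β (β a) := C.comm (C.bA _ (C.bA a ha)) (C.bA a ha)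
    rw [h3, h4]
    have h5 : a * (β a * β (β a)) = 1 := by rw [← mul_assoc]; exact h1
    exact mul_left_cancel (h5.trans (C.A2 a ha).symm)
  -- the fixed elements of `C(w)` normalise and centralise `A`
  have hn : ∀ c, c * w = w * c → β c = c → ∀ a ∈ A, c * a * c⁻¹ ∈ A := by
    intro c hc hβ a ha
    have h1 : c * β a * c⁻¹ * w = w * (c * β a * c⁻¹) := by
      have e1 := C.Aw _ (C.bA a ha)
      have e2 : c⁻¹ * w = w * c⁻¹ := by
        rw [inv_mul_eq_iff_eq_mul, ← mul_assoc, hc, mul_inv_cancel_right]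
      calc c * β a * c⁻¹ * w = c * β a * (c⁻¹ * w) := by group
        _ = c * (β a * w) * c⁻¹ := by rw [e2]; group
        _ = (c * w) * β a * c⁻¹ := by rw [e1]; group
        _ = w * (c * β a * c⁻¹) := by rw [hc]; group
    have h3 := key _ h1
    have e : β (c * β a * c⁻¹) * (c * β a * c⁻¹)⁻¹ = c * (β (β a) * (β a)⁻¹) * c⁻¹ := by
      rw [map_mul, map_mul, map_inv, hβ]; group
    rwa [e, hA a ha] at h3
  have hcen : ∀ c, c * w = w * c → β c = c → ∀ a ∈ A, c * a = a * c := by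
    intro c hc hβ a ha
    by_cases ha1 : a = 1
    · rw [ha1, mul_one, one_mul]
    have hb1 : β a ≠ 1 := fun h => ha1 (β.injective (by rw [h, map_one]))
    have hne : a ≠ β a := fun h => ha1 (C.bne a ha h.symm)
    have hpr : a * β a ≠ 1 := by
      intro h
      apply hne
      have h5 : a * a = a * β a := by rw [C.A2 a ha, h]
      exact mul_left_cancel h5
    -- `c³` commutes with `a`
    have hc3 : (c * c * c) * a = a * (c * c * c) := by
      have hstep : ∀ x ∈ A, c * β x * c⁻¹ = β (c * x * c⁻¹) := by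
        intro x _
        rw [map_mul, map_mul, map_inv, hβ]
      rcases four_cases C.A4 ha (C.bA a ha) ha1 hb1 hne hpr _ (hn c hc hβ a ha) with h | h | h | h
      · exfalso
        apply ha1
        have h5 : a = c⁻¹ * (c * a * c⁻¹) * c := by group
        rw [h5, h]; group
      · have h5 : Commute c a := mul_inv_eq_iff_eq_mul.1 h
        exact (h5.mul_left h5).mul_left h5
      · have e1 : c * β a * c⁻¹ = β (β a) := by rw [hstep a ha, h]
        have e2 : c * β (β a) * c⁻¹ = a := by rw [hstep _ (C.bA a ha), e1, C.beta3]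
        calc c * c * c * a = c * c * (c * a * c⁻¹) * c := by group
          _ = c * (c * β a * c⁻¹) * c * c := by rw [h]; group
          _ = (c * β (β a) * c⁻¹) * c * c * c := by rw [e1]; group
          _ = a * (c * c * c) := by rw [e2]; group
      · have h6 : a * β a = β (β a) := by
          have h7 := C.prod ha
          have h8 := C.A2 _ (C.bA _ (C.bA a ha))
          exact mul_right_cancel (h7.trans h8.symm)
        rw [h6] at h
        have e1 : c * β (β a) * c⁻¹ = β a := by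
          rw [hstep _ (C.bA a ha), hstep a ha, h, C.beta3]
        have e2 : c * β a * c⁻¹ = a := by rw [hstep a ha, h, C.beta3]
        calc c * c * c * a = c * c * (c * a * c⁻¹) * c := by group
          _ = c * (c * β (β a) * c⁻¹) * c * c := by rw [h]; group
          _ = (c * β a * c⁻¹) * c * c * c := by rw [e1]; group
          _ = a * (c * c * c) := by rw [e2]; group
    obtain ⟨n, hcn⟩ := h2 ⟨c, mem_centralizer_singleton_iff.2 hc⟩
    have hcn' : c ^ 2 ^ n = 1 := by simpa using congrArg Subtype.val hcn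
    -- `c` is a power of `c³`
    have hpow : ∃ k : ℕ, c = (c * c * c) ^ k := by
      have hcop : Nat.Coprime 3 (2 ^ n) := Nat.Coprime.pow_right n (by norm_num)
      rcases Nat.eq_zero_or_pos n with h0 | h0
      · subst h0
        rw [pow_zero, pow_one] at hcn'
        exact ⟨0, by rw [hcn', pow_zero]⟩
      obtain ⟨k, hk⟩ := Nat.exists_mul_mod_eq_one_of_coprime hcop (by
        calc 1 < 2 ^ 1 := by norm_num
          _ ≤ 2 ^ n := Nat.pow_le_pow_right (by norm_num) h0)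
      refine ⟨k, ?_⟩
      have e3 : c * c * c = c ^ 3 := by rw [pow_succ, pow_two]
      rw [e3, ← pow_mul]
      have h5 : 3 * k = 2 ^ n * (3 * k / 2 ^ n) + 1 := by
        have := Nat.div_add_mod (3 * k) (2 ^ n)
        rw [hk.2] at this
        exact this.symm
      rw [h5, pow_add, pow_mul, hcn', one_pow, one_mul, pow_one]
    obtain ⟨k, hk⟩ := hpow
    have h5 : Commute (c * c * c) a := hc3
    rw [hk]
    exact h5.pow_left k
  -- `A` is central in `C(w)`
  have hcA : ∀ s, s * w = w * s → ∀ a ∈ A, s * a = a * s := by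
    intro s hs a ha
    set d := β s * s⁻¹ with hd
    have hdA : d ∈ A := key s hs
    have h1 : β s = d * s := by rw [hd]; group
    set c := (β d)⁻¹ * s with hc
    have hcw : c * w = w * c := by
      have e1 := C.Aw _ (C.bA d hdA)
      have e2 : (β d)⁻¹ * w = w * (β d)⁻¹ := by
        rw [inv_mul_eq_iff_eq_mul, ← mul_assoc, e1, mul_inv_cancel_right]
      calc c * w = (β d)⁻¹ * (s * w) := by rw [hc]; group
        _ = ((β d)⁻¹ * w) * s := by rw [hs]; group
        _ = w * c := by rw [e2, hc]; group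
    have hcβ : β c = c := by
      rw [hc, map_mul, map_inv, h1]
      have e3 := hA d hdA
      have e4 : (β d)⁻¹ = (β (β d))⁻¹ * d := by
        rw [eq_inv_mul_iff_mul_eq]; exact e3
      rw [e4]; group
    have h3 := hcen c hcw hcβ a ha
    have h4 : s = β d * c := by rw [hc]; group
    rw [h4]
    calc β d * c * a = β d * (c * a) := by group
      _ = (β d * a) * c := by rw [h3]; group
      _ = a * (β d * c) := by rw [C.comm (C.bA d hdA) ha]; group
  -- the elements of `A` are squares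
  have hfix : ∀ a ∈ A, a = 1 := by
    intro a ha
    obtain ⟨x, hx, hxx⟩ := hsq a (C.A2 a ha) (fun s hs => hcA s hs a ha)
    have h1 := key x hx
    set d := β x * x⁻¹ with hd
    have h3 : β x = d * x := by rw [hd]; group
    apply C.bne a ha
    rw [← hxx, map_mul, h3]
    have h4 := hcA x hx d h1
    calc d * x * (d * x) = d * (x * d) * x := by group
      _ = (d * d) * (x * x) := by rw [h4]; group
      _ = x * x := by rw [C.A2 d h1, one_mul]
  have h3 : A = ⊥ := by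
    rw [eq_bot_iff]
    intro a ha
    rw [mem_bot]
    exact hfix a ha
  have h4 := C.A4
  rw [h3, card_bot] at h4
  omega

/-- **The row from the centralizers of the involutions.** -/
theorem row4_of_pgroup_two [Finite X] (hZ : center X = ⊥)
    (h : ∀ w : X, w * w = 1 → w ≠ 1 → IsPGroup 2 ↥(centralizer ({w} : Set X)) ∧
      ∀ a : X, a * a = 1 → (∀ s, s * w = w * s → s * a = a * s) → ∃ x, x * w = w * x ∧ x * x = a) :
    Row4 X := by
  intro w β A C N _ _ f _ _ _ _ a b l _ _ _ _ _ _ _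
  obtain ⟨h1, h2⟩ := h w C.ww C.w1
  exact C.false_of_two hZ h1 h2

end Lem

/-! ### `L₃(4)` -/

section L34

open Cfsg.Agent.LThreeFour Cfsg.Agent.SporadicA.FieldFour

theorem code_four : ∀ a b c, cmul (cmul ⟨a, b, c⟩ ⟨a, b, c⟩) (cmul ⟨a, b, c⟩ ⟨a, b, c⟩) = cone := by
  decide +kernel

theorem code_cen : ∀ a b c, cmul ⟨a, b, c⟩ ⟨1, 0, 0⟩ = cmul ⟨1, 0, 0⟩ ⟨a, b, c⟩ →
    cmul ⟨a, b, c⟩ ⟨0, 1, 0⟩ = cmul ⟨0, 1, 0⟩ ⟨a, b, c⟩ → a = 0 ∧ b = 0 := by
  decide +kernel

theorem code_sq : ∀ c : F4, cmul ⟨c, 1, 0⟩ ⟨c, 1, 0⟩ = ⟨0, 0, c⟩ := by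
  decide +kernel

theorem code_z : ∀ a b c, cmul ⟨a, b, c⟩ ⟨0, 0, 1⟩ = cmul ⟨0, 0, 1⟩ ⟨a, b, c⟩ := by
  decide +kernel

/-- **(EX4), row `L₃(4)`** -/
theorem row_l34 {X : Type u} [Group X] (h : D9.Cut.XL34 X) : Row4 X := by
  obtain ⟨F, _, _, hF, ⟨e⟩⟩ := h
  obtain ⟨D⟩ := exists_dat hF e
  haveI : Finite X := Nat.finite_of_card_ne_zero (by rw [D.card]; norm_num)
  have hz : ∀ p : Code, D.el p * D.x 0 2 1 = D.x 0 2 1 * D.el p := by
    rintro ⟨a, b, c⟩
    rw [← D.el_x02, D.el_mul, D.el_mul, code_z]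
  have hZ : center X = ⊥ := by
    rw [eq_bot_iff]
    intro x hx
    rw [mem_bot]
    apply D.conj_eq_one
    ext y
    rw [MulAut.conj_apply, MulAut.one_apply, mul_inv_eq_iff_eq_mul]
    exact ((mem_center_iff.1 hx) y).symm
  refine row4_of_pgroup_two hZ ?_
  intro w ww w1
  obtain ⟨g, hg⟩ := D.invol_conj w w1 ww
  have hw : ∀ s, s * w = w * s → ∃ p, g * s * g⁻¹ = D.el p := by
    intro s hs
    obtain ⟨p, hp⟩ := D.cent (g * s * g⁻¹) (by
      rw [← hg]
      calc g * s * g⁻¹ * (g * w * g⁻¹) = g * (s * w) * g⁻¹ := by group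
        _ = g * w * g⁻¹ * (g * s * g⁻¹) := by rw [hs]; group)
    exact ⟨p, hp⟩
  have hw' : ∀ p, (g⁻¹ * D.el p * g) * w = w * (g⁻¹ * D.el p * g) := by
    intro p
    have h1 := hz p
    rw [← hg] at h1
    calc g⁻¹ * D.el p * g * w = g⁻¹ * (D.el p * (g * w * g⁻¹)) * g := by group
      _ = w * (g⁻¹ * D.el p * g) := by rw [h1]; group
  refine ⟨?_, ?_⟩
  · rintro ⟨s, hs⟩
    rw [mem_centralizer_singleton_iff] at hs
    obtain ⟨⟨a, b, c⟩, hp⟩ := hw s hs
    refine ⟨2, Subtype.ext ?_⟩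
    change s ^ 2 ^ 2 = 1
    have h1 : (g * s * g⁻¹) * (g * s * g⁻¹) * ((g * s * g⁻¹) * (g * s * g⁻¹)) = 1 := by
      rw [hp, D.el_mul, D.el_mul, code_four, D.el_one]
    have h2 : g * (s ^ 2 ^ 2) * g⁻¹ = 1 := by
      rw [← h1]
      have e : s ^ 2 ^ 2 = s * s * (s * s) := by
        rw [show (2 : ℕ) ^ 2 = 2 + 2 by norm_num, pow_add, pow_two]
      rw [e]; group
    have h3 : s ^ 2 ^ 2 = g⁻¹ * (g * (s ^ 2 ^ 2) * g⁻¹) * g := by group
    rw [h3, h2]; group
  · intro a aa ha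
    obtain ⟨⟨p, q, r⟩, hp⟩ := hw a (ha w rfl).symm
    have h1 : ∀ c : Code, D.el ⟨p, q, r⟩ * D.el c = D.el c * D.el ⟨p, q, r⟩ := by
      intro c
      rw [← hp]
      have h2 := ha _ (hw' c)
      calc g * a * g⁻¹ * D.el c = g * (a * (g⁻¹ * D.el c * g)) * g⁻¹ := by group
        _ = D.el c * (g * a * g⁻¹) := by rw [← h2]; group
    have h2 := h1 ⟨1, 0, 0⟩
    have h3 := h1 ⟨0, 1, 0⟩
    rw [D.el_mul, D.el_mul] at h2 h3
    obtain ⟨rfl, rfl⟩ := code_cen p q r (D.inj h2) (D.inj h3)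
    refine ⟨g⁻¹ * D.el ⟨r, 1, 0⟩ * g, hw' _, ?_⟩
    have h4 : D.el ⟨r, 1, 0⟩ * D.el ⟨r, 1, 0⟩ = g * a * g⁻¹ := by
      rw [D.el_mul, code_sq, hp]
    calc g⁻¹ * D.el ⟨r, 1, 0⟩ * g * (g⁻¹ * D.el ⟨r, 1, 0⟩ * g)
        = g⁻¹ * (D.el ⟨r, 1, 0⟩ * D.el ⟨r, 1, 0⟩) * g := by group
      _ = a := by rw [h4]; group

end L34

/-! ### `Sz(q)` -/

section Sz

open Cfsg.Agent.OddHalf.D4.Sz Cfsg.Agent.OddHalf.D4.Basic

/-- **(EX4), row `Sz(q)`** -/
theorem row_sz {X : Type u} [Group X] (h : D9.Cut.XSz X) : Row4 X := by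
  obtain ⟨F, _, _, m, hm, hF, ⟨e⟩⟩ := h
  haveI : Finite X := Finite.of_equiv _ e.symm.toEquiv
  haveI : Fact (Nat.Prime 2) := ⟨Nat.prime_two⟩
  have e' : ↥(⊤ : Subgroup X) ≃* ↥(Cfsg.Lie.Sz F (2 ^ (m + 1))) := topEquiv.trans e
  have hZ : center X = ⊥ := by
    obtain ⟨T, hT, -⟩ := exists_isSyl (G := X) (M := ⊤) (Q := ⊥) IsPGroup.of_bot bot_le
    obtain ⟨p, hh, V⟩ := KD.exists_kd hm hF e' hT
    rw [eq_bot_iff]
    intro x hx
    rw [mem_bot]
    refine V.cen x (mem_top x) ?_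
    rw [mem_centralizer_iff]
    intro y _
    exact (mem_center_iff.1 hx) y
  refine row4_of_pgroup_two hZ ?_
  intro w ww w1
  have hw2 : IsPGroup 2 ↥(zpowers w) := by
    rintro ⟨x, k, rfl⟩
    refine ⟨1, Subtype.ext ?_⟩
    change (w ^ k) ^ (2 ^ 1) = 1
    rw [pow_one, ← zpow_natCast, ← zpow_mul, mul_comm, zpow_mul, zpow_natCast, pow_two, ww, one_zpow]
  obtain ⟨T, hT, hwT⟩ := exists_isSyl (G := X) (M := ⊤) (Q := zpowers w) hw2 le_top
  obtain ⟨p, hh, V⟩ := KD.exists_kd hm hF e' hT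
  have hwT' : w ∈ T := hwT (mem_zpowers w)
  have hcT : ∀ s, s * w = w * s → s ∈ T := fun s hs => V.cent s (mem_top s) w hwT' w1 hs
  obtain ⟨b, rfl⟩ := V.eq_of_sq hwT' ww
  refine ⟨?_, ?_⟩
  · refine V.syl.two.to_le ?_
    intro s hs
    exact hcT s (mem_centralizer_singleton_iff.1 hs)
  · intro a aa ha
    obtain ⟨c, rfl⟩ := V.eq_of_sq (hcT a (ha _ rfl).symm) aa
    refine ⟨p (c ^ (2 ^ (m + 1) - 1)) 0, V.z_comm _ _ _, ?_⟩
    rw [V.p_sq]
    congr 1
    by_cases hc : c = 0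
    · rw [hc, ← pow_mul]
      apply zero_pow
      have h1 : 2 ≤ 2 ^ (m + 1) := by
        calc 2 = 2 ^ 1 := by norm_num
          _ ≤ 2 ^ (m + 1) := Nat.pow_le_pow_right (by norm_num) (by omega)
      have h2 : 0 < 2 ^ (m + 1) - 1 := by omega
      positivity
    · have h1 := V.th_th c
      have h2 : 1 ≤ 2 ^ (m + 1) := Nat.one_le_two_pow
      apply mul_right_cancel₀ hc
      rw [← pow_mul, ← pow_succ]
      have h3 : (2 ^ (m + 1) - 1) * (1 + 2 ^ (m + 1)) + 1 = 2 ^ (m + 1) * 2 ^ (m + 1) := by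
        obtain ⟨k, hk⟩ := Nat.exists_eq_add_of_le h2
        rw [hk, Nat.add_sub_cancel_left]
        ring
      rw [h3, pow_mul, h1, pow_two]

end Sz

end Cfsg.Agent.OddHalf.NI3.Ex4
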