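import Cfsg.Agent.OddHalf.NI3.Ex4.Large

/-!
# (EX4): rows from two 2-central involutions

`Pre4 ζ Z₁` : `Large4 ζ Z₁` without the field `four`. `cent_of_pre` : then `A ≤ Z(O₂(C(ζ)))` (the proof of
`false_of_large`, helper219). `row4_of_zeta` : two such involutions `ζ₁`, `ζ₂`, central in one Sylow 2-subgroup, with
`C(O₂(C(ζ₁))) ∩ C(O₂(C(ζ₂))) = ⟨ζ₁, ζ₂⟩` (helper931).
-/

set_option autoImplicit false
set_option linter.style.haveILetI false

namespace Cfsg.Agent.OddHalf.NI3.Ex4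

open Subgroup Cfsg
open Cfsg.Agent.OddHalf.NI.Ex (Good)
open Cfsg.Agent.OddHalf.NI.Ex.Lemma (NoComm Good.noComm Good.map)

universe u

/-- the hypotheses on the involution `ζ` -/
structure Pre4 {X : Type u} [Group X] (ζ : X) (Z₁ : Subgroup X) : Prop where
  zz : ζ * ζ = 1
  z1 : ζ ≠ 1
  syl : ∃ S : Sylow 2 X, ∀ x ∈ S, x * ζ = ζ * x
  con : ∀ h, h * ζ = ζ * h → (∀ q ∈ OO2 ζ, h * q = q * h) → h ∈ OO2 ζ
  mem : ζ ∈ Z₁
  le : Z₁ ≤ OO2 ζ
  ex : ∀ x ∈ Z₁, x * x = 1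
  cen : ∀ x ∈ Z₁, ∀ h, h * ζ = ζ * h → h * x = x * h
  sq : ∀ x ∈ OO2 ζ, x * x ∈ Z₁
  nc : ∀ x ∈ Z₁, x ≠ 1 → NoComm x
  fix : ∀ β : MulAut X, β * β * β = 1 → β ζ = ζ → ∀ x ∈ Z₁, β x = x

section Basic

/-- the same with `Good` in place of `NoComm` -/
structure PreG {X : Type*} [Group X] (ζ : X) (Z₁ : Subgroup X) : Prop where
  zz : ζ * ζ = 1
  z1 : ζ ≠ 1
  syl : ∃ S : Sylow 2 X, ∀ x ∈ S, x * ζ = ζ * x
  con : ∀ h, h * ζ = ζ * h → (∀ q ∈ OO2 ζ, h * q = q * h) → h ∈ OO2 ζ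
  mem : ζ ∈ Z₁
  le : Z₁ ≤ OO2 ζ
  ex : ∀ x ∈ Z₁, x * x = 1
  cen : ∀ x ∈ Z₁, ∀ h, h * ζ = ζ * h → h * x = x * h
  sq : ∀ x ∈ OO2 ζ, x * x ∈ Z₁
  gd : ∀ x ∈ Z₁, x ≠ 1 → Good x
  fix : ∀ β : MulAut X, β * β * β = 1 → β ζ = ζ → ∀ x ∈ Z₁, β x = x

theorem PreG.pre4 {X : Type u} [Group X] {ζ : X} {Z₁ : Subgroup X} (h : PreG ζ Z₁) : Pre4 ζ Z₁ :=
  ⟨h.zz, h.z1, h.syl, h.con, h.mem, h.le, h.ex, h.cen, h.sq, fun x hx h1 => Good.noComm (h.gd x hx h1), h.fix⟩

/-- transport -/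
theorem PreG.map {X Y : Type*} [Group X] [Group Y] [Finite X] (e : X ≃* Y) {ζ : X} {Z₁ : Subgroup X} (h : PreG ζ Z₁) :
    PreG (e ζ) (Z₁.map (e : X →* Y)) where
  zz := by rw [← map_mul, h.zz, map_one]
  z1 := fun h1 => h.z1 (e.injective (by rw [h1, map_one]))
  syl := by
    haveI : Fact (Nat.Prime 2) := ⟨Nat.prime_two⟩
    haveI : Finite Y := Finite.of_equiv _ e.toEquiv
    obtain ⟨S, hS⟩ := h.syl
    obtain ⟨T, hT⟩ := (S.isPGroup'.map (e : X →* Y)).exists_le_sylow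
    refine ⟨T, ?_⟩
    -- `|T| = |S|`
    have hcard : Nat.card ((S : Subgroup X).map (e : X →* Y)) = Nat.card T := by
      have h1 : Nat.card ((S : Subgroup X).map (e : X →* Y)) = Nat.card (S : Subgroup X) :=
        card_map_of_injective (f := (e : X →* Y)) e.injective
      rw [h1]
      have h2 := S.card_eq_multiplicity
      have h3 := T.card_eq_multiplicity
      have h4 : Nat.card X = Nat.card Y := Nat.card_congr e.toEquiv
      rw [h4] at h2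
      rw [h3]
      exact h2
    have hTe : (S : Subgroup X).map (e : X →* Y) = T := eq_of_le_of_card_ge hT hcard.ge
    intro x hx
    have hx' : x ∈ (S : Subgroup X).map (e : X →* Y) := by rw [hTe]; exact hx
    obtain ⟨s, hs, rfl⟩ := hx'
    change e s * e ζ = e ζ * e s
    rw [← map_mul, hS s hs, map_mul]
  con := by
    intro y hy h1
    obtain ⟨x, rfl⟩ := e.surjective y
    rw [OO2_map_iff]
    refine h.con x (e.injective (by rw [map_mul, map_mul]; exact hy)) ?_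
    intro q hq
    exact e.injective (by rw [map_mul, map_mul]; exact h1 _ (OO2_map e hq))
  mem := ⟨ζ, h.mem, rfl⟩
  le := by
    rintro _ ⟨x, hx, rfl⟩
    exact OO2_map e (h.le hx)
  ex := by
    rintro _ ⟨x, hx, rfl⟩
    change e x * e x = 1
    rw [← map_mul, h.ex x hx, map_one]
  cen := by
    rintro _ ⟨x, hx, rfl⟩ y hy
    obtain ⟨g, rfl⟩ := e.surjective y
    change e g * e x = e x * e g
    rw [← map_mul, h.cen x hx g (e.injective (by rw [map_mul, map_mul]; exact hy)), map_mul]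
  sq := by
    intro y hy
    obtain ⟨x, rfl⟩ := e.surjective y
    rw [OO2_map_iff] at hy
    exact ⟨x * x, h.sq x hy, map_mul e x x⟩
  gd := by
    rintro _ ⟨x, hx, rfl⟩ h1
    refine Good.map (h.gd x hx ?_) e
    rintro rfl
    exact h1 (map_one e)
  fix := by
    rintro β b3 hβ _ ⟨x, hx, rfl⟩
    have h1 := h.fix (MulAut.congr e.symm β) (by rw [← map_mul, ← map_mul, b3, map_one]) ?_ x hx
    · change e.symm (β (e x)) = x at h1
      change β (e x) = e x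
      apply e.symm.injective
      rw [h1, e.symm_apply_apply]
    · change e.symm (β (e ζ)) = ζ
      rw [hβ, e.symm_apply_apply]
end Basic

section Main

variable {X : Type u} [Group X] {w ζ : X} {β : MulAut X} {A Z₁ : Subgroup X}

/-- The final argument of `false_of_large`, without the hypothesis `four` (helper219). -/
theorem cent_of_pre [Finite X] (hZ : center X = ⊥) (h : Pre4 ζ Z₁) (C : Cfg4 w β A)
    (hζw : w * ζ = ζ * w) (hζA : ∀ a ∈ A, a * ζ = ζ * a)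
    {N : Type u} [Group N] [Finite N] {f : N →* X} (hf : Function.Surjective f) (hker : f.ker ≤ center N)
    (hker2 : IsPGroup 2 ↥f.ker) (hN : commutator N = ⊤) {a b l : N} (ha : f a ∈ A) (hb : f b ∈ A) (hl : f l = w)
    (hal : a * l = l * a) (hbl : b * l = l * b) (hab : a * b ≠ b * a) :
    β ζ = ζ ∧ A ≤ OO2 ζ ∧ ∀ a ∈ A, ∀ p ∈ OO2 ζ, a * p = p * a := by
  have hβ : β ζ = ζ := C.beta_eq hZ (h.nc ζ h.mem h.z1) h.zz hζw hζA hf hker hker2 hN ha hb hal hbl hab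
  have hAP : A ≤ OO2 ζ := C.le_OO2 hZ h.con hβ hζw hζA
  refine ⟨hβ, hAP, ?_⟩
  set P := OO2 ζ with hP
  have hZP : Z₁ ≤ P := h.le
  have hPc : ∀ x ∈ Z₁, ∀ p ∈ P, p * x = x * p := fun x hx p hp => h.cen x hx p (OO2_comm hp)
  have hβP : ∀ x ∈ P, β x ∈ P := fun x hx => beta_OO2 hβ hx
  have hβZ : ∀ x ∈ Z₁, β x = x := h.fix β C.b3 hβ
  have hwP : ∀ x ∈ P, w * x * w⁻¹ ∈ P := fun x hx => OO2_conj hx hζw
  have hwZ : ∀ x ∈ Z₁, w * x = x * w := fun x hx => h.cen x hx w hζw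
  have hw' : w⁻¹ = w := inv_eq_of_mul_eq_one_right C.ww
  obtain ⟨W, _, q, hW2, hq⟩ := exists_quo hPc h.sq
  have hWi : ∀ y : W, y⁻¹ = y := fun y => inv_eq_of_mul_eq_one_right (hW2 y)
  -- (i)
  have step1 : ∀ p ∈ P, p * w * p⁻¹ * w⁻¹ ∈ Z₁ → ∃ a ∈ A, β p * p⁻¹ * a⁻¹ ∈ Z₁ := by
    intro p hp he
    set e := p * w * p⁻¹ * w⁻¹ with hedef
    have hee : e * e = 1 := h.ex e he
    have hei : e⁻¹ = e := inv_eq_of_mul_eq_one_right hee
    have hep : p * e = e * p := hPc e he p hp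
    have hpw : p * w * p⁻¹ = e * w := by rw [hedef]; group
    have hcP : β p * p⁻¹ ∈ P := mul_mem (hβP p hp) (inv_mem hp)
    have hcw : β p * p⁻¹ * w = w * (β p * p⁻¹) := by
      have h1 : β p * w * (β p)⁻¹ = e * w := by
        have h2 := congrArg β hpw
        rwa [map_mul, map_mul, map_inv, map_mul, C.bw, hβZ e he] at h2
      have h3 : p⁻¹ * w * p = e * w := by
        have h4 : w = p⁻¹ * (e * w) * p := by rw [← hpw]; group
        have h5 : p⁻¹ * e = e * p⁻¹ := by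
          calc p⁻¹ * e = p⁻¹ * (e * p) * p⁻¹ := by group
            _ = p⁻¹ * (p * e) * p⁻¹ := by rw [hep]
            _ = e * p⁻¹ := by group
        have h6 : w = e * (p⁻¹ * w * p) := by
          calc w = p⁻¹ * (e * w) * p := h4
            _ = (p⁻¹ * e) * w * p := by group
            _ = e * (p⁻¹ * w * p) := by rw [h5]; group
        calc p⁻¹ * w * p = (e * e) * (p⁻¹ * w * p) := by rw [hee, one_mul]
          _ = e * (e * (p⁻¹ * w * p)) := by group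
          _ = e * w := by rw [← h6]
      have h4 : β p * p⁻¹ * w * (β p * p⁻¹)⁻¹ = w := by
        calc β p * p⁻¹ * w * (β p * p⁻¹)⁻¹ = β p * (p⁻¹ * w * p) * (β p)⁻¹ := by group
          _ = β p * (e * w) * (β p)⁻¹ := by rw [h3]
          _ = (β p * e) * w * (β p)⁻¹ := by group
          _ = (e * β p) * w * (β p)⁻¹ := by rw [hPc e he _ (hβP p hp)]
          _ = e * (β p * w * (β p)⁻¹) := by group
          _ = w := by rw [h1, ← mul_assoc, hee, one_mul]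
      exact mul_inv_eq_iff_eq_mul.1 h4
    have h5 := C.two hZ (B := P ⊓ centralizer ({w} : Set X)) ((OO2_isPGroup ζ).to_le inf_le_left)
      (fun b hb => mem_centralizer_singleton_iff.1 hb.2) ?_ ?_ _ ⟨hcP, mem_centralizer_singleton_iff.2 hcw⟩
    · refine ⟨_, C.bA _ h5, ?_⟩
      have hx := hp
      have hy := hβP p hp
      have ht := hβP _ hy
      have h6 : β p * p⁻¹ * (β (β (β p * p⁻¹) * (β p * p⁻¹)⁻¹))⁻¹ ∈ P :=
        mul_mem hcP (inv_mem (hAP (C.bA _ h5)))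
      have h7 : (⟨_, h6⟩ : ↥P) = (⟨β p, hy⟩ : ↥P) * (⟨p, hx⟩ : ↥P)⁻¹ *
          ((⟨p, hx⟩ : ↥P) * (⟨β (β p), ht⟩ : ↥P)⁻¹ * ⟨β p, hy⟩ * (⟨β (β p), ht⟩ : ↥P)⁻¹)⁻¹ := by
        apply Subtype.ext
        change β p * p⁻¹ * (β (β (β p * p⁻¹) * (β p * p⁻¹)⁻¹))⁻¹ =
          β p * p⁻¹ * (p * (β (β p))⁻¹ * β p * (β (β p))⁻¹)⁻¹
        congr 2
        simp only [map_mul, map_inv, C.beta3, mul_inv_rev, inv_inv]
        group
      rw [← hq ⟨_, h6⟩, h7]
      simp only [map_mul, map_inv, hWi, mul_inv_rev]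
      generalize q ⟨β p, hy⟩ = y
      generalize q ⟨p, hx⟩ = x
      generalize q ⟨β (β p), ht⟩ = t
      calc y * x * (t * (y * (t * x))) = (x * x) * (y * y) * (t * t) := by ac_rfl
        _ = 1 := by rw [hW2 x, hW2 y, hW2 t, one_mul, one_mul]
    · rintro a ha b ⟨hb1, hb2⟩
      refine ⟨OO2_conj hb1 (hζA a ha), ?_⟩
      have hb3 : b ∈ centralizer ({w} : Set X) := hb2
      have h3 : a ∈ centralizer ({w} : Set X) := mem_centralizer_singleton_iff.2 (C.Aw a ha)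
      have h4 : a * b * a⁻¹ ∈ centralizer ({w} : Set X) := mul_mem (mul_mem h3 hb3) (inv_mem h3)
      exact h4
    · rintro b ⟨hb1, hb2⟩
      exact ⟨hβP b hb1, C.bC b hb2⟩
  -- `AZ` is invariant under `β`
  have hAZ : ∀ x ∈ P, ∀ a ∈ A, β (β x) * a⁻¹ ∈ Z₁ → x * (β a)⁻¹ ∈ Z₁ := by
    intro x _ a _ h1
    have h2 := hβZ _ h1
    rw [map_mul, map_inv, C.beta3] at h2
    rw [h2]; exact h1
  have hcom : ∀ x ∈ P, ∀ y ∈ P, x * y * x⁻¹ * y⁻¹ ∈ Z₁ := by
    intro x hx y hy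
    have e : x * y * x⁻¹ * y⁻¹ = x * x * (x⁻¹ * y * (x⁻¹ * y)) * (y * y)⁻¹ := by group
    rw [e]
    exact mul_mem (mul_mem (h.sq x hx) (h.sq _ (mul_mem (inv_mem hx) hy))) (inv_mem (h.sq y hy))
  by_cases hcase : ∀ p ∈ P, ∃ a ∈ A, β p * p⁻¹ * a⁻¹ ∈ Z₁
  · -- (I): `A ≤ Z(P)`
    have hcA : ∀ p ∈ P, ∀ a ∈ A, a * p = p * a := by
      intro p hp
      obtain ⟨a1, ha1, hz1⟩ := hcase p hp
      have hk : ∀ a ∈ A, p * a * p⁻¹ * a⁻¹ ∈ Z₁ := fun a ha => hcom p hp a (hAP ha)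
      have hk1 : ∀ a ∈ A, p * a * p⁻¹ * a⁻¹ = p * β a * p⁻¹ * (β a)⁻¹ := by
        intro a ha
        have h1 := hβZ _ (hk a ha)
        rw [map_mul, map_mul, map_mul, map_inv, map_inv] at h1
        rw [← h1]
        set z := β p * p⁻¹ * a1⁻¹ with hz
        have h2 : β p = z * a1 * p := by rw [hz]; group
        have h3 : a1 * β a = β a * a1 := C.comm ha1 (C.bA a ha)
        have h4 := hPc z hz1 _ (hAP ha1)
        have h5 := hPc z hz1 _ (hAP (C.bA a ha))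
        have h6 : ∀ y : X, y ∈ P → z * y * z⁻¹ = y := by
          intro y hy
          rw [← hPc z hz1 y hy, mul_inv_cancel_right]
        have h7 := hPc _ (hk _ (C.bA a ha)) _ (hAP ha1)
        have h8 : z * (a1 * p * β a * p⁻¹ * a1⁻¹) * z⁻¹ = a1 * p * β a * p⁻¹ * a1⁻¹ := by
          apply h6
          exact mul_mem (mul_mem (mul_mem (mul_mem (hAP ha1) hp) (hAP (C.bA a ha))) (inv_mem hp))
            (inv_mem (hAP ha1))
        rw [h2]
        calc z * a1 * p * β a * (z * a1 * p)⁻¹ * (β a)⁻¹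
            = z * (a1 * p * β a * p⁻¹ * a1⁻¹) * z⁻¹ * (β a)⁻¹ := by group
          _ = a1 * p * β a * p⁻¹ * a1⁻¹ * (β a)⁻¹ := by rw [h8]
          _ = a1 * (p * β a * p⁻¹ * (β a)⁻¹) * (β a * a1⁻¹ * (β a)⁻¹) := by group
          _ = (p * β a * p⁻¹ * (β a)⁻¹) * a1 * (β a * a1⁻¹ * (β a)⁻¹) := by rw [h7]
          _ = (p * β a * p⁻¹ * (β a)⁻¹) * ((a1 * β a) * a1⁻¹) * (β a)⁻¹ := by group
          _ = p * β a * p⁻¹ * (β a)⁻¹ := by rw [h3]; group
      intro a ha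
      set k := p * a * p⁻¹ * a⁻¹ with hkdef
      have hkZ : k ∈ Z₁ := hk a ha
      have e1 : p * a * p⁻¹ = k * a := by rw [hkdef]; group
      have hk2 : k = p * β a * p⁻¹ * (β a)⁻¹ := hk1 a ha
      have hk3 : k = p * β (β a) * p⁻¹ * (β (β a))⁻¹ := hk2.trans (hk1 _ (C.bA a ha))
      have e2 : p * β a * p⁻¹ = k * β a := by
        rw [hk2]; group
      have e3 : p * β (β a) * p⁻¹ = k * β (β a) := by
        rw [hk3]; group
      have h1 := C.prod ha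
      have h2 : p * (a * β a * β (β a)) * p⁻¹ = k * (a * β a * β (β a)) := by
        calc p * (a * β a * β (β a)) * p⁻¹ = (p * a * p⁻¹) * (p * β a * p⁻¹) * (p * β (β a) * p⁻¹) := by group
          _ = (k * a) * (k * β a) * (k * β (β a)) := by rw [e1, e2, e3]
          _ = k * (a * k) * β a * k * β (β a) := by group
          _ = (k * k) * a * (β a * k) * β (β a) := by rw [hPc k hkZ a (hAP ha)]; group
          _ = (k * k) * (a * k) * β a * β (β a) := by rw [hPc k hkZ _ (hAP (C.bA a ha))]; group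
          _ = (k * k) * k * (a * β a * β (β a)) := by rw [hPc k hkZ a (hAP ha)]; group
          _ = k * (a * β a * β (β a)) := by rw [h.ex k hkZ, one_mul]
      rw [h1, mul_one, mul_one, mul_inv_cancel] at h2
      rw [← h2, one_mul] at e1
      exact (mul_inv_eq_iff_eq_mul.1 e1).symm
    exact fun a ha p hp => hcA p hp a ha
  · -- (II)
    exfalso
    push Not at hcase
    obtain ⟨p, hp, hpA⟩ := hcase
    have hx := hp
    have hy := hβP p hp
    have ht := hβP _ hy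
    set X0 : ↥P := ⟨p, hx⟩ with hX0
    set Y0 : ↥P := ⟨β p, hy⟩ with hY0
    set T0 : ↥P := ⟨β (β p), ht⟩ with hT0
    set X1 : ↥P := ⟨w * p * w⁻¹, hwP _ hx⟩ with hX1
    set Y1 : ↥P := ⟨w * β p * w⁻¹, hwP _ hy⟩ with hY1
    set T1 : ↥P := ⟨w * β (β p) * w⁻¹, hwP _ ht⟩ with hT1
    set u := β p * p⁻¹ with hu
    have huP : u ∈ P := mul_mem hy (inv_mem hx)
    set e := u * w * u⁻¹ * w⁻¹ with he
    have heP : e ∈ P := by
      have e1 : e = u * (w * u⁻¹ * w⁻¹) := by rw [he]; group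
      rw [e1]
      exact mul_mem huP (hwP _ (inv_mem huP))
    -- `e ∉ Z₁`
    have he1 : e ∉ Z₁ := by
      intro h1
      obtain ⟨a, ha, h2⟩ := step1 u huP h1
      have h3 : β (β u) * a⁻¹ ∈ Z₁ := by
        have h4 : β (β u) * (β u * u⁻¹)⁻¹ ∈ Z₁ := by
          have h5 : β (β u) * (β u * u⁻¹)⁻¹ ∈ P :=
            mul_mem (hβP _ (hβP _ huP)) (inv_mem (mul_mem (hβP _ huP) (inv_mem huP)))
          have h7 : (⟨_, h5⟩ : ↥P) = (X0 * T0⁻¹) * ((T0 * Y0⁻¹) * (Y0 * X0⁻¹)⁻¹)⁻¹ := by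
            apply Subtype.ext
            change β (β u) * (β u * u⁻¹)⁻¹ =
              (p * (β (β p))⁻¹) * ((β (β p) * (β p)⁻¹) * (β p * p⁻¹)⁻¹)⁻¹
            rw [hu]
            simp only [map_mul, map_inv, C.beta3]
          rw [← hq ⟨_, h5⟩, h7]
          simp only [map_mul, map_inv, hWi, mul_inv_rev]
          generalize q X0 = x
          generalize q Y0 = y
          generalize q T0 = t
          calc x * t * (y * x * (y * t)) = (x * x) * (y * y) * (t * t) := by ac_rfl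
            _ = 1 := by rw [hW2 x, hW2 y, hW2 t, one_mul, one_mul]
        have h5 : β (β u) * a⁻¹ = (β (β u) * (β u * u⁻¹)⁻¹) * (β u * u⁻¹ * a⁻¹) := by group
        rw [h5]
        exact mul_mem h4 h2
      exact hpA _ (C.bA a ha) (hAZ u huP a ha h3)
    -- `e ∈ A Z₁`
    obtain ⟨a₂, ha₂, h2⟩ := step1 e heP (by
      have e1 : w * e⁻¹ * w⁻¹ = e := by
        rw [he]
        calc w * (u * w * u⁻¹ * w⁻¹)⁻¹ * w⁻¹ = (w * w) * u * (w⁻¹) * u⁻¹ * w⁻¹ := by group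
          _ = u * w * u⁻¹ * w⁻¹ := by rw [C.ww, one_mul, hw']
      have e2 : e * w * e⁻¹ * w⁻¹ = e * (w * e⁻¹ * w⁻¹) := by group
      rw [e2, e1]
      exact h.sq e heP)
    have h3 : β (β e) * a₂⁻¹ ∈ Z₁ := by
      have h4 : β (β e) * (β e * e⁻¹)⁻¹ ∈ Z₁ := by
        have h5 : β (β e) * (β e * e⁻¹)⁻¹ ∈ P :=
          mul_mem (hβP _ (hβP _ heP)) (inv_mem (mul_mem (hβP _ heP) (inv_mem heP)))
        have h7 : (⟨_, h5⟩ : ↥P) = ((X0 * T0⁻¹) * (T1 * X1⁻¹)) *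
            (((T0 * Y0⁻¹) * (Y1 * T1⁻¹)) * ((Y0 * X0⁻¹) * (X1 * Y1⁻¹))⁻¹)⁻¹ := by
          apply Subtype.ext
          change β (β e) * (β e * e⁻¹)⁻¹ =
            ((p * (β (β p))⁻¹) * ((w * β (β p) * w⁻¹) * (w * p * w⁻¹)⁻¹)) *
            (((β (β p) * (β p)⁻¹) * ((w * β p * w⁻¹) * (w * β (β p) * w⁻¹)⁻¹)) *
              ((β p * p⁻¹) * ((w * p * w⁻¹) * (w * β p * w⁻¹)⁻¹))⁻¹)⁻¹
          rw [he, hu]
          simp only [map_mul, map_inv, C.beta3, C.bw]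
          group
        rw [← hq ⟨_, h5⟩, h7]
        simp only [map_mul, map_inv, hWi, mul_inv_rev]
        generalize q X0 = x
        generalize q Y0 = y
        generalize q T0 = t
        generalize q X1 = x'
        generalize q Y1 = y'
        generalize q T1 = t'
        calc x * t * (t' * x') * (y * x * (x' * y') * (t' * y' * (y * t)))
            = (x * x) * (y * y) * (t * t) * (x' * x') * (y' * y') * (t' * t') := by ac_rfl
          _ = 1 := by rw [hW2 x, hW2 y, hW2 t, hW2 x', hW2 y', hW2 t']; simp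
      have h5 : β (β e) * a₂⁻¹ = (β (β e) * (β e * e⁻¹)⁻¹) * (β e * e⁻¹ * a₂⁻¹) := by group
      rw [h5]
      exact mul_mem h4 h2
    have h4 := hAZ e heP a₂ ha₂ h3
    have ha0 : β a₂ ∈ A := C.bA a₂ ha₂
    have ha01 : β a₂ ≠ 1 := by
      intro h5
      rw [h5, inv_one, mul_one] at h4
      exact he1 h4
    obtain ⟨a', b', f1, hb', ca, cb, hne⟩ := lift_A C.A4 C.A2 hker ha hb hal hbl hab ha0 ha01
    obtain ⟨n, hn⟩ := hf u
    -- the elements over `Z₁` commute with the elements over `C(ζ)`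
    have hzc : ∀ m g : N, f m ∈ Z₁ → f g * ζ = ζ * f g → m * g = g * m := by
      intro m g hm hg
      by_cases hm1 : f m = 1
      · exact (mem_center_iff.1 (hker hm1) g).symm
      · exact comm_of_nc (h.nc _ hm hm1) (h.ex _ hm) hf hker hker2 hN rfl (h.cen _ hm _ hg)
    set c := n * l * n⁻¹ * l⁻¹ with hc
    have hfc : f c = e := by
      rw [hc, map_mul, map_mul, map_mul, map_inv, map_inv, hn, hl]
    set m := a'⁻¹ * c with hm
    have hfm : f m ∈ Z₁ := by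
      rw [hm, map_mul, map_inv, f1, hfc]
      have e1 : (β a₂)⁻¹ * e = (β a₂)⁻¹ * ((e * (β a₂)⁻¹) * β a₂) := by group
      rw [e1, ← hPc _ h4 _ (hAP ha0), inv_mul_cancel_left]
      exact h4
    have hcm : n * l * n⁻¹ = a' * m * l := by rw [hm, hc]; group
    set κ := b' * n * b'⁻¹ * n⁻¹ with hκ
    have hfκ : f κ ∈ Z₁ := by
      rw [hκ, map_mul, map_mul, map_mul, map_inv, map_inv, hn]
      exact hcom _ (hAP hb') _ huP
    have huζ : u * ζ = ζ * u := OO2_comm huP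
    have hκc : κ * (n * l * n⁻¹) = (n * l * n⁻¹) * κ := by
      refine hzc _ _ hfκ ?_
      rw [map_mul, map_mul, map_inv, hn, hl]
      calc u * w * u⁻¹ * ζ = u * w * u⁻¹ * (ζ * u) * u⁻¹ := by group
        _ = u * (w * ζ) * u⁻¹ := by rw [← huζ]; group
        _ = (u * ζ) * w * u⁻¹ := by rw [hζw]; group
        _ = ζ * (u * w * u⁻¹) := by rw [huζ]; group
    have hmb : m * b' = b' * m := hzc _ _ hfm (hζA _ hb').symm.symm
    apply hne
    have e1 : b' * (n * l * n⁻¹) * b'⁻¹ = n * l * n⁻¹ := by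
      calc b' * (n * l * n⁻¹) * b'⁻¹ = (b' * n * b'⁻¹ * n⁻¹) * n * (b' * l) * b'⁻¹ * n⁻¹ *
            (b' * n * b'⁻¹ * n⁻¹)⁻¹ := by group
        _ = κ * n * (l * b') * b'⁻¹ * n⁻¹ * κ⁻¹ := by rw [← hκ, cb]
        _ = κ * (n * l * n⁻¹) * κ⁻¹ := by group
        _ = n * l * n⁻¹ := by rw [hκc]; group
    have e2 : b' * (a' * m * l) * b'⁻¹ = (b' * a' * b'⁻¹) * m * l := by
      calc b' * (a' * m * l) * b'⁻¹ = b' * a' * m * (b'⁻¹ * (b' * l)) * b'⁻¹ := by group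
        _ = b' * a' * m * (b'⁻¹ * (l * b')) * b'⁻¹ := by rw [cb]
        _ = b' * a' * b'⁻¹ * (b' * m) * b'⁻¹ * l := by group
        _ = b' * a' * b'⁻¹ * (m * b') * b'⁻¹ * l := by rw [hmb]
        _ = (b' * a' * b'⁻¹) * m * l := by group
    rw [hcm, e2] at e1
    have e3 : b' * a' * b'⁻¹ = a' := mul_right_cancel (mul_right_cancel e1)
    exact (mul_inv_eq_iff_eq_mul.1 e3).symm

/-- two 2-central involutions -/
structure Two4 {X : Type*} [Group X] (ζ₁ ζ₂ : X) (Z₁ Z₂ : Subgroup X) : Prop where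
  p₁ : PreG ζ₁ Z₁
  p₂ : PreG ζ₂ Z₂
  syl : ∃ S : Sylow 2 X, ∀ x ∈ S, x * ζ₁ = ζ₁ * x ∧ x * ζ₂ = ζ₂ * x
  cc : ∀ g, (∀ q ∈ OO2 ζ₁, g * q = q * g) → (∀ q ∈ OO2 ζ₂, g * q = q * g) → g = 1 ∨ g = ζ₁ ∨ g = ζ₂ ∨ g = ζ₁ * ζ₂

open scoped Pointwise in
/-- **The row from two 2-central involutions** of a group `Y` isomorphic to `X`. -/
theorem row4_of_zeta {Y : Type*} [Group Y] [Finite Y] (e : Y ≃* X) (hZ : center X = ⊥) {ζ₁ ζ₂ : Y} {Z₁ Z₂ : Subgroup Y}
    (h : Two4 ζ₁ ζ₂ Z₁ Z₂) : Row4 X := by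
  intro w β A C N _ _ f hf hker hker2 hN a b l ha hb hl hal hbl hk ho
  haveI : Fact (Nat.Prime 2) := ⟨Nat.prime_two⟩
  haveI : Finite X := Finite.of_equiv _ e.toEquiv
  have hab : a * b ≠ b * a := by
    intro h1
    have h2 : a * b * a⁻¹ * b⁻¹ = 1 := by rw [h1]; group
    rw [h2, orderOf_one] at ho
    omega
  obtain ⟨S, hS⟩ := h.syl
  -- the 2-group `⟨A, w⟩`
  have hle : zpowers w ≤ normalizer (A : Set X) := by
    rw [zpowers_le]
    refine normalizer_of_forall fun a ha => ?_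
    rw [← C.Aw a ha, mul_inv_cancel_right]
    exact ha
  have hA2 : IsPGroup 2 ↥A := IsPGroup.of_card (n := 2) (by rw [C.A4]; norm_num)
  have hw2 : IsPGroup 2 ↥(zpowers w) := by
    rintro ⟨x, k, rfl⟩
    refine ⟨1, Subtype.ext ?_⟩
    change (w ^ k) ^ (2 ^ 1) = 1
    rw [pow_one, ← zpow_natCast, ← zpow_mul, mul_comm, zpow_mul, zpow_natCast, pow_two, C.ww, one_zpow]
  have hAw : IsPGroup 2 ↥(A ⊔ zpowers w) := hA2.to_sup_of_normal_left' hw2 hle
  -- its preimage in `Y`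
  have hB : IsPGroup 2 ↥((A ⊔ zpowers w).map (e.symm : X →* Y)) := hAw.map _
  obtain ⟨T, hT⟩ := hB.exists_le_sylow
  obtain ⟨g, hg⟩ := MulAction.exists_smul_eq Y S T
  have hζ : ∀ ζ : Y, (∀ x ∈ S, x * ζ = ζ * x) → ∀ x ∈ T, x * (g * ζ * g⁻¹) = (g * ζ * g⁻¹) * x := by
    intro ζ hSζ x hx
    rw [← hg] at hx
    have hx' : g⁻¹ * x * g ∈ S := by
      have h1 := Subgroup.mem_smul_pointwise_iff_exists x (MulAut.conj g) (S : Subgroup Y)
      have h2 : x ∈ MulAut.conj g • (S : Subgroup Y) := hx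
      obtain ⟨s, hs, h3⟩ := h1.1 h2
      rw [MulAut.smul_def, MulAut.conj_apply] at h3
      rw [← h3]
      have h4 : g⁻¹ * (g * s * g⁻¹) * g = s := by group
      rw [h4]; exact hs
    have h1 := hSζ _ hx'
    calc x * (g * ζ * g⁻¹) = g * ((g⁻¹ * x * g) * ζ) * g⁻¹ := by group
      _ = g * (ζ * (g⁻¹ * x * g)) * g⁻¹ := by rw [h1]
      _ = (g * ζ * g⁻¹) * x := by group
  let e' : Y ≃* X := (MulAut.conj g : Y ≃* Y).trans e
  have he' : ∀ y : Y, e' y = e (g * y * g⁻¹) := fun y => rfl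
  have hcm : ∀ ζ : Y, (∀ x ∈ S, x * ζ = ζ * x) → ∀ x ∈ A ⊔ zpowers w, x * e' ζ = e' ζ * x := by
    intro ζ hSζ x hx
    have h1 : e.symm x ∈ T := hT ⟨x, hx, rfl⟩
    have h2 := hζ ζ hSζ _ h1
    rw [he']
    have h3 := congrArg e h2
    rwa [map_mul, map_mul e (g * ζ * g⁻¹) (e.symm x), e.apply_symm_apply] at h3
  have h₁ := hcm ζ₁ fun x hx => (hS x hx).1
  have h₂ := hcm ζ₂ fun x hx => (hS x hx).2
  have hw0 : w ∈ A ⊔ zpowers w := mem_sup_right (mem_zpowers w)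
  obtain ⟨b1, A1, c1⟩ := cent_of_pre hZ (h.p₁.map e').pre4 C (h₁ w hw0) (fun a ha => h₁ a (mem_sup_left ha)) hf hker hker2
    hN ha hb hl hal hbl hab
  obtain ⟨b2, A2, c2⟩ := cent_of_pre hZ (h.p₂.map e').pre4 C (h₂ w hw0) (fun a ha => h₂ a (mem_sup_left ha)) hf hker hker2
    hN ha hb hl hal hbl hab
  have hfix : ∀ a ∈ A, β a = a := by
    intro a ha
    have h3 := h.cc (e'.symm a)
      (fun q hq => by
        apply e'.injective
        rw [map_mul, map_mul, e'.apply_symm_apply]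
        exact c1 a ha _ (OO2_map e' hq))
      (fun q hq => by
        apply e'.injective
        rw [map_mul, map_mul, e'.apply_symm_apply]
        exact c2 a ha _ (OO2_map e' hq))
    rcases h3 with h3 | h3 | h3 | h3 <;> rw [MulEquiv.symm_apply_eq] at h3
    · rw [h3, map_one, map_one]
    · rw [h3, b1]
    · rw [h3, b2]
    · rw [h3, map_mul, map_mul, b1, b2]
  have h5 : A = ⊥ := by
    rw [eq_bot_iff]
    intro a ha
    exact mem_bot.2 (C.bne a ha (hfix a ha))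
  have h6 := C.A4
  rw [h5, card_bot] at h6
  omega

/-- old name of `row4_of_zeta` -/
theorem row4_of_two {Y : Type*} [Group Y] [Finite Y] (e : Y ≃* X) (hZ : center X = ⊥) {ζ₁ ζ₂ : Y}
    {Z₁ Z₂ : Subgroup Y} (h : Two4 ζ₁ ζ₂ Z₁ Z₂) : Row4 X :=
  row4_of_zeta e hZ h

end Main

end Cfsg.Agent.OddHalf.NI3.Ex4
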