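import Cfsg.Agent.OddHalf.NI3.Ex4.OfSheet
import Cfsg.Agent.OddHalf.NI3.Ex4.LargeZ
import Cfsg.Agent.OddHalf.NI.Ex.HasUSix

/-!
# (EX4): the row `U₆(2)` (helper704)

`z` = a transvection of `PSU_n(2)`, `n ≥ 6`; `O₂(C(z))` = the Siegel group `QQ` (helper604's sheet).
-/

set_option autoImplicit false
set_option linter.style.haveILetI false

namespace Cfsg.Agent.OddHalf.NI3.Ex4

open Subgroup Cfsg Cfsg.Agent.LieClassical.HermBasic Cfsg.Agent.LieClassical.SUBasic
  Cfsg.Agent.ClassicalGeometry.PSUAutBasic Cfsg.Agent.ClassicalGeometry.PSUAutSylow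
  Cfsg.Agent.ClassicalGeometry.PSUAutUnip Cfsg.Agent.ClassicalGeometry.PSUAutPhi Cfsg.Agent.KFacts.Unit
  Cfsg.Agent.KFacts.Unit.SheetTwo

universe u

section

variable {F : Type*} [Field F] [Fintype F] {n : ℕ} [CharP F 2] {e f : Fin n → F}

/-- `O₂(C(z)) = QQ` -/
theorem OO2_zt (hF : Fintype.card F = 2 ^ 2) (hn : 6 ≤ n) (H : IsFrame 2 e f) :
    OO2 (zt hF H.ee) = QQ hF e H.ee := by
  haveI : Fact (Nat.Prime 2) := ⟨Nat.prime_two⟩
  apply le_antisymm
  · refine Rmax hF (by omega) H _ ?_ (OO2_isPGroup _) ?_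
    · intro x hx
      obtain ⟨k, hk⟩ := OO2_isPGroup (zt hF H.ee) ⟨x, hx⟩
      exact mem_PP_of_commute hF (by omega) (frame_ne_zero H) H.ee (zt_mem hF H.ee)
        (zt_ne hF (by omega) (frame_ne_zero H) H.ee) (congrArg Subtype.val hk) (OO2_comm hx)
    · intro x hx b hb
      exact OO2_conj hb (zt_P hF H.ee hx)
  · intro r hr
    have hrc : r ∈ centralizer ({zt hF H.ee} : Set (PSU n F 2)) :=
      mem_centralizer_singleton_iff.2 (zt_P hF H.ee (QQ_le_PP hF H.ee hr))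
    have hn' : ((QQ hF e H.ee).subgroupOf (centralizer ({zt hF H.ee} : Set (PSU n F 2)))).Normal := by
      refine ⟨fun y hy g => ?_⟩
      exact NI.Ex.conj_QQ hF (by omega) H (mem_centralizer_singleton_iff.1 g.2) _ hy
    have h2 : IsPGroup 2 ↥((QQ hF e H.ee).subgroupOf (centralizer ({zt hF H.ee} : Set (PSU n F 2)))) :=
      (R2 hF H.ee).comap_of_injective _ (Subgroup.subtype_injective _)
    have h3 := Lib.Cores.le_pCore hn' h2
    exact ⟨⟨r, hrc⟩, h3 hr, rfl⟩

/-- the squares of `QQ` -/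
theorem QQ_sq (hF : Fintype.card F = 2 ^ 2) (H : IsFrame 2 e f) {x : PSU n F 2} (hx : x ∈ QQ hF e H.ee) :
    x * x = 1 ∨ x * x = zt hF H.ee := by
  obtain ⟨w, μ, h, rfl⟩ := mem_QQ.1 hx
  apply RR_cases hF H.ee
  have h0 : w + w = 0 := by
    funext i
    rw [Pi.add_apply, CharTwo.add_self_eq_zero, Pi.zero_apply]
  have h1 := h.mul hF h
  have h2 := h1.tr
  rw [h0, herm_zero_left, add_zero] at h2
  rw [← map_mul, LieClassical.HermSiegel.siegel_mul, mem_RR]
  refine ⟨_, h2, ?_⟩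
  rw [transv]
  congr 1
  exact LieClassical.HermSiegel.siegel_congr hF _ _ rfl h0 rfl

/-- `C(QQ) = ⟨z⟩` -/
theorem cent_QQ (hF : Fintype.card F = 2 ^ 2) (hn : 6 ≤ n) (H : IsFrame 2 e f) {x : PSU n F 2}
    (hx : ∀ y ∈ QQ hF e H.ee, x * y = y * x) : x ∈ RR hF e H.ee := by
  obtain ⟨r, hr, hxr⟩ := autCent_point hF (by omega) (frame_ne_zero H) H.ee (MulAut.conj x) (fun y hy => by
    rw [MulAut.conj_apply, hx y hy, mul_inv_cancel_right])
  have h1 : x = r := by
    have h2 : r⁻¹ * x ∈ Subgroup.center (PSU n F 2) := by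
      rw [Subgroup.mem_center_iff]
      intro y
      have h3 := DFunLike.congr_fun hxr y
      rw [MulAut.conj_apply, MulAut.conj_apply] at h3
      have h4 : x * y = r * y * r⁻¹ * x := by rw [← h3, inv_mul_cancel_right]
      rw [mul_assoc r⁻¹ x y, h4]
      group
    rw [center_eq_bot' hF hn (frame_ne_zero H) H.ee, Subgroup.mem_bot] at h2
    exact (inv_mul_eq_one.1 h2).symm
  rw [h1]
  exact hr

theorem mem_zpowers_of {Y : Type*} [Group Y] {z : Y} (zz : z * z = 1) {x : Y} :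
    x ∈ zpowers z ↔ x = 1 ∨ x = z := by
  constructor
  · rintro ⟨k, rfl⟩
    change z ^ k = 1 ∨ z ^ k = z
    rcases Int.even_or_odd' k with ⟨m, rfl | rfl⟩
    · left
      rw [zpow_mul, zpow_two, zz, one_zpow]
    · right
      rw [zpow_add, zpow_mul, zpow_two, zz, one_zpow, one_mul, zpow_one]
  · rintro (rfl | rfl)
    · exact one_mem _
    · exact mem_zpowers _

theorem preG_zt (hF : Fintype.card F = 2 ^ 2) (hn : 6 ≤ n) (H : IsFrame 2 e f) :
    PreG (zt hF H.ee) (zpowers (zt hF H.ee)) where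
  zz := zt_sq hF H.ee
  z1 := zt_ne hF (by omega) (frame_ne_zero H) H.ee
  syl := by
    obtain ⟨S, -, hS, -⟩ := syl hF hn (frame_ne_zero H) H.ee
    exact ⟨S, hS⟩
  con := by
    intro g _ hc
    rw [OO2_zt hF hn H] at hc ⊢
    exact RR_le_QQ hF H.ee (cent_QQ hF hn H hc)
  mem := mem_zpowers _
  le := by
    rw [zpowers_le, OO2_zt hF hn H]
    exact RR_le_QQ hF H.ee (zt_mem hF H.ee)
  ex := by
    intro x hx
    rcases (mem_zpowers_of (zt_sq hF H.ee)).1 hx with rfl | rfl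
    · exact one_mul _
    · exact zt_sq hF H.ee
  cen := by
    intro x hx g hg
    rcases (mem_zpowers_of (zt_sq hF H.ee)).1 hx with rfl | rfl
    · rw [one_mul, mul_one]
    · exact hg
  sq := by
    intro x hx
    rw [OO2_zt hF hn H] at hx
    exact (mem_zpowers_of (zt_sq hF H.ee)).2 (QQ_sq hF H hx)
  gd := by
    intro x hx hx1
    rcases (mem_zpowers_of (zt_sq hF H.ee)).1 hx with rfl | rfl
    · exact absurd rfl hx1
    · exact NI.Ex.good_zt hF hn H
  fix := by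
    intro β _ hβ x hx
    rcases (mem_zpowers_of (zt_sq hF H.ee)).1 hx with rfl | rfl
    · exact map_one _
    · exact hβ

theorem two4_zt (hF : Fintype.card F = 2 ^ 2) (hn : 6 ≤ n) (H : IsFrame 2 e f) :
    Two4 (zt hF H.ee) (zt hF H.ee) (zpowers (zt hF H.ee)) (zpowers (zt hF H.ee)) where
  p₁ := preG_zt hF hn H
  p₂ := preG_zt hF hn H
  syl := by
    obtain ⟨S, -, hS, -⟩ := syl hF hn (frame_ne_zero H) H.ee
    exact ⟨S, fun x hx => ⟨hS x hx, hS x hx⟩⟩
  cc := by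
    intro g hg _
    rw [OO2_zt hF hn H] at hg
    rcases RR_cases hF H.ee (cent_QQ hF hn H hg) with h | h
    · exact Or.inl h
    · exact Or.inr (Or.inl h)

end

/-- **The row `U₆(2)` of (EX4).** -/
theorem row_u62 (X : Type u) [Group X] [Finite X] [IsSimpleGroup X] (h : D9.Cut.XU62 X) : Row4 X := by
  obtain ⟨F, i1, i2, hF, ⟨ε⟩⟩ := h
  haveI : CharP F 2 := by
    haveI : Fact (Nat.Prime 2) := ⟨Nat.prime_two⟩
    exact charP_of_card_eq_prime_pow (f := 2) (by rw [hF]; norm_num)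
  have hF' : Fintype.card F = 2 ^ 2 := by rw [hF]; norm_num
  obtain ⟨e, f, H⟩ := exists_frame (F := F) (q := 2) (n := 6) hF' (by omega)
  haveI : Finite (PSU 6 F 2) := Finite.of_equiv _ ε.toEquiv
  obtain ⟨a, -, b, -, hab⟩ := Rna hF' (by omega) H
  refine row4_of_zeta ε.symm (center_bot (a := ε.symm a) (b := ε.symm b) ?_) (two4_zt hF' le_rfl H)
  intro h1
  rw [← map_mul, ← map_mul] at h1
  exact hab (ε.symm.injective h1)

end Cfsg.Agent.OddHalf.NI3.Ex4
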