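import Cfsg.Agent.OddHalf.NI3.Ex4.Cut
import Cfsg.Agent.OddHalf.NI3.Ex4.RowB
import Cfsg.Agent.OddHalf.NI3.Ex4.RowCo1
import Cfsg.Agent.OddHalf.NI3.Ex4.RowJ2
import Cfsg.Agent.OddHalf.NI3.Ex4.RowM12
import Cfsg.Agent.OddHalf.NI3.Ex4.RowM22
import Cfsg.Agent.OddHalf.NI3.Ex4.RowRu
import Cfsg.Agent.OddHalf.NI3.Ex4.RowSuz
import Cfsg.Agent.OddHalf.NI3.Ex4.RowTE62
import Cfsg.Agent.OddHalf.NI3.Ex4.RowTwo
import Cfsg.Agent.OddHalf.NI3.Ex4.RowF4
import Cfsg.Agent.OddHalf.NI3.Ex4.RowFi22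
import Cfsg.Agent.OddHalf.NI3.Ex4.RowG24
import Cfsg.Agent.OddHalf.NI3.Ex4.RowHS
import Cfsg.Agent.OddHalf.NI3.Ex4.RowSp62
import Cfsg.Agent.OddHalf.NI3.Ex4.RowU62

/-!
# (EX4) of THEOREM NIB: the rows

`rows4 : Open4 → Rows4`: the landed rows are plugged, `Open4` is what is open.
-/

set_option autoImplicit false

namespace Cfsg.Agent.OddHalf.NI3.Ex4

open Cfsg Cfsg.Agent.OddHalf.D9.Cut

universe u

/-- the open rows -/
structure Open4 : Prop where
  o82 : ∀ (X : Type u) [Group X] [Finite X] [IsSimpleGroup X], XO82 X → Row4 X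

theorem center_eq_bot {X : Type u} [Group X] [hs : IsSimpleGroup X] (hna : ¬ IsMulCommutative X) :
    Subgroup.center X = ⊥ := by
  rcases (inferInstance : (Subgroup.center X).Normal).eq_bot_or_eq_top with h1 | h1
  · exact h1
  · exact absurd ⟨⟨fun a b => (Subgroup.mem_center_iff.1 (h1 ▸ Subgroup.mem_top b : b ∈ Subgroup.center X)) a⟩⟩ hna

theorem rows4 (O : Open4.{u}) : Rows4.{u} where
  exc2 := fun X _ _ hs hna h => by
    haveI := hs
    rcases h with h | h | h | h | h | h | h | h | h | h | h | h | h | h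
    · exact row_u62 X h
    · exact row_sp62 hs hna h
    · exact O.o82 X h
    · exact row_g24 X h
    · exact RowF4.row4_f42 (center_eq_bot hna) h
    · exact row_te62 X h
    · exact row_m12 h
    · exact row_j2 X h
    · exact RowHS.row_hs X h
    · exact row_suz X h
    · exact RowRu.ru h
    · exact row_fi22 X h
    · exact row_co1 X h
    · exact row_b X h
  exc4 := fun X _ _ hs h => by
    rcases h with h | h
    · exact row_l34 h
    · exact row_m22 h
  sz := fun X _ _ hs h => by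
    exact row_sz h

end Cfsg.Agent.OddHalf.NI3.Ex4
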