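import Cfsg.Agent.OddHalf.NI3.Ex4.Local
import Cfsg.Agent.OddHalf.NI3.Bad.StepOne
import Cfsg.Agent.OddHalf.NI.Ex.Descend
import Cfsg.Agent.Intrinsic.FunctorFrame
import Cfsg.Agent.Lib.SubnormalJoin

/-!
# (EX4) of THEOREM NIB: the configuration `Cfg4` of a component

`Loc z w l L J C` : `L` quasisimple with centre a 2-group, `J ≅ SL₂(3)` subnormal in `C`, `O₂(J) ≤ L`, `w` commutes with
`J` and acts on `L` as `l ∈ L`. `Loc.false`: contradiction with `Row4 (L / Z(L))`.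
-/

set_option autoImplicit false
set_option linter.style.haveILetI false

namespace Cfsg.Agent.OddHalf.NI3.Ex4

open Subgroup Cfsg Cfsg.Agent.SignalizersComponents
open Cfsg.Agent.OddHalf.NI.Ex (bar bar_mk bar_mul bar_one eq_one_of_bar)

universe u

/-! ### General lemmas -/

/-- central quotients by 2-groups keep `O = 1` -/
theorem core_of_central {M Γ : Type*} [Group M] [Group Γ] [Finite M] (f : M →* Γ) (hf : Function.Surjective f)
    (hk : f.ker ≤ center M) (h2 : IsPGroup 2 ↥f.ker) (hO : pPrimeCore 2 M = ⊥) : pPrimeCore 2 Γ = ⊥ := by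
  haveI : Fact (Nat.Prime 2) := ⟨Nat.prime_two⟩
  haveI : Finite Γ := Finite.of_surjective f hf
  haveI hOn : (pPrimeCore 2 Γ).Normal := Lib.Cores.pPrimeCore_normal 2
  set P : Subgroup M := (pPrimeCore 2 Γ).comap f with hP
  haveI hPn : P.Normal := hOn.comap f
  let g : ↥P →* ↥(pPrimeCore 2 Γ) := f.subgroupComap (pPrimeCore 2 Γ)
  have hg : Function.Surjective g := by
    rintro ⟨y, hy⟩
    obtain ⟨x, rfl⟩ := hf y
    exact ⟨⟨x, hy⟩, rfl⟩
  have hgk : ∀ x : ↥P, x ∈ g.ker → (x : M) ∈ f.ker := by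
    intro x hx
    exact congrArg Subtype.val hx
  have hcard2 : ∃ n, Nat.card ↥g.ker = 2 ^ n := by
    have h3 : IsPGroup 2 ↥g.ker := by
      rintro ⟨x, hx⟩
      obtain ⟨n, hn⟩ := h2 ⟨x, hgk x hx⟩
      refine ⟨n, Subtype.ext (Subtype.ext ?_)⟩
      simpa using congrArg Subtype.val hn
    exact IsPGroup.iff_card.1 h3
  obtain ⟨n, hn⟩ := hcard2
  have hidx : g.ker.index = Nat.card ↥(pPrimeCore 2 Γ) := by
    rw [index_ker, MonoidHom.range_eq_top.2 hg, card_top]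
  have hodd : (Nat.card ↥(pPrimeCore 2 Γ)).Coprime 2 := Lib.Cores.pPrimeCore_coprime 2
  obtain ⟨H, hH⟩ := exists_right_complement'_of_coprime (N := g.ker) (by
    rw [hn, hidx]; exact (hodd.pow_right n).symm)
  have hHc : Nat.card ↥H = Nat.card ↥(pPrimeCore 2 Γ) := by
    have h3 := hH.card_mul_card
    have h4 := g.ker.card_mul_index
    rw [hidx] at h4
    exact Nat.eq_of_mul_eq_mul_left Nat.card_pos (h3.trans h4.symm)
  -- the elements of `P` with trivial `|H|`-th power are in `H`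
  have hmem : ∀ x : ↥P, x ^ Nat.card ↥H = 1 → x ∈ H := by
    intro x hx
    obtain ⟨⟨⟨k, hk'⟩, ⟨y, hy⟩⟩, hxy⟩ := hH.surjective x
    simp only at hxy
    have hc : Commute k y := by
      show k * y = y * k
      exact Subtype.ext (mem_center_iff.1 (hk (hgk k hk')) y).symm
    have h3 : k ^ Nat.card ↥H = 1 := by
      rw [← hxy, hc.mul_pow] at hx
      have h4 : y ^ Nat.card ↥H = 1 := by
        exact Subtype.ext_iff.1 (pow_card_eq_one' (x := (⟨y, hy⟩ : H)))
      rwa [h4, mul_one] at hx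
    have h4 : orderOf k ∣ Nat.card ↥H := orderOf_dvd_of_pow_eq_one h3
    have h5 : orderOf k ∣ 2 ^ n := by
      rw [← hn]
      have h6 := _root_.orderOf_dvd_natCard (⟨k, hk'⟩ : g.ker)
      rwa [Subgroup.orderOf_mk] at h6
    have h6 : orderOf k ∣ 1 := by
      have h7 := Nat.dvd_gcd h4 h5
      rw [hHc] at h7
      rwa [(hodd.pow_right n)] at h7
    have h7 : k = 1 := orderOf_eq_one_iff.1 (Nat.dvd_one.1 h6)
    rw [← hxy, h7, one_mul]; exact hy
  have hKn : (H.map P.subtype).Normal := by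
    refine ⟨?_⟩
    rintro _ ⟨x, hx, rfl⟩ m
    have h3 : m * (x : M) * m⁻¹ ∈ P := hPn.conj_mem x x.2 m
    refine ⟨⟨m * (x : M) * m⁻¹, h3⟩, hmem _ (Subtype.ext ?_), rfl⟩
    have h4 : x ^ Nat.card ↥H = 1 := by
      exact Subtype.ext_iff.1 (pow_card_eq_one' (x := (⟨x, hx⟩ : H)))
    have h5 : (x : M) ^ Nat.card ↥H = 1 := by simpa using congrArg Subtype.val h4
    show (m * (x : M) * m⁻¹) ^ Nat.card ↥H = 1
    rw [conj_pow, h5, mul_one, mul_inv_cancel]
  have h3 : H.map P.subtype ≤ pPrimeCore 2 M := by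
    refine Lib.Cores.le_pPrimeCore hKn ?_
    rw [Nat.card_congr (H.equivMapOfInjective P.subtype P.subtype_injective).symm.toEquiv, hHc]
    exact hodd
  rw [hO, le_bot_iff, Subgroup.map_eq_bot_iff_of_injective _ P.subtype_injective] at h3
  rw [h3, Subgroup.card_bot] at hHc
  exact (Subgroup.card_eq_one).1 hHc.symm

/-- normal subgroups with a quotient 2-group -/
theorem core_of_two {Γ : Type*} [Group Γ] [Finite Γ] {N : Subgroup Γ} (hn : N.Normal)
    (hN : pPrimeCore 2 ↥N = ⊥) (h : ∀ g : Γ, ∃ n, g ^ 2 ^ n ∈ N) : pPrimeCore 2 Γ = ⊥ := by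
  have h1 : pPrimeCore 2 Γ ≤ N := by
    intro o ho
    obtain ⟨n, hn⟩ := h o
    have h2 : (orderOf o).Coprime (2 ^ n) := by
      have h3 : (Nat.card ↥(pPrimeCore 2 Γ)).Coprime 2 := Lib.Cores.pPrimeCore_coprime 2
      have h4 := _root_.orderOf_dvd_natCard (⟨o, ho⟩ : pPrimeCore 2 Γ)
      rw [Subgroup.orderOf_mk] at h4
      exact (Nat.Coprime.coprime_dvd_left h4 h3).pow_right n
    obtain ⟨m, hm⟩ := exists_pow_eq_self_of_coprime h2.symm
    rw [← hm]
    exact pow_mem hn m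
  have h2 := Lib.Cores.map_subtype_pPrimeCore (G := Γ) 2 hn
  rw [hN, Subgroup.map_bot, inf_eq_right.2 h1] at h2
  exact h2.symm

/-! ### The action on `L / Z(L)` -/

section

variable {G : Type u} [Group G] (L : Subgroup G)

/-- the action of `N(L)` on `L / Z(L)` -/
noncomputable def act : ↥(normalizer (L : Set G)) →* MulAut (↥L ⧸ center ↥L) where
  toFun g := bar (L.normalizerMonoidHom g)
  map_one' := by rw [map_one, bar_one]
  map_mul' g h := by rw [map_mul, bar_mul]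

variable {L}

theorem act_mk (g : ↥(normalizer (L : Set G))) (x : L) :
    act L g (x : ↥L ⧸ center ↥L) = ((L.normalizerMonoidHom g x : L) : ↥L ⧸ center ↥L) := rfl

theorem coe_nmh (g : ↥(normalizer (L : Set G))) (x : L) : ((L.normalizerMonoidHom g x : L) : G) = g * x * (g : G)⁻¹ := rfl

/-- equality in `L / Z(L)` -/
theorem mk_eq_iff {x y : L} : (x : ↥L ⧸ center ↥L) = y ↔ ∀ k ∈ L, (x : G) * k * (x : G)⁻¹ = y * k * (y : G)⁻¹ := by
  rw [QuotientGroup.eq, mem_center_iff]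
  constructor
  · intro h k hk
    have h1 : k * ((x : G)⁻¹ * y) = (x : G)⁻¹ * y * k := congrArg Subtype.val (h ⟨k, hk⟩)
    calc (x : G) * k * (x : G)⁻¹ = x * (k * ((x : G)⁻¹ * y)) * (y : G)⁻¹ := by group
      _ = y * k * (y : G)⁻¹ := by rw [h1]; group
  · intro h k
    apply Subtype.ext
    show (k : G) * ((x : G)⁻¹ * y) = (x : G)⁻¹ * y * k
    have h1 := h k k.2
    calc (k : G) * ((x : G)⁻¹ * y) = (x : G)⁻¹ * (x * k * (x : G)⁻¹) * y := by group
      _ = (x : G)⁻¹ * y * k := by rw [h1]; group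

theorem act_of_mem {x : G} (hx : x ∈ L) (hn : x ∈ normalizer (L : Set G)) :
    act L ⟨x, hn⟩ = MulAut.conj ((⟨x, hx⟩ : L) : ↥L ⧸ center ↥L) := by
  ext y
  obtain ⟨y, rfl⟩ := QuotientGroup.mk_surjective y
  rw [act_mk, MulAut.conj_apply, ← QuotientGroup.mk_inv, ← QuotientGroup.mk_mul, ← QuotientGroup.mk_mul]
  rfl

theorem act_of_comm {x : G} (hn : x ∈ normalizer (L : Set G)) (hx : ∀ k ∈ L, x * k * x⁻¹ = k) :
    act L ⟨x, hn⟩ = 1 := by
  ext y
  obtain ⟨y, rfl⟩ := QuotientGroup.mk_surjective y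
  rw [act_mk, MulAut.one_apply]
  congr 1
  exact Subtype.ext (hx y y.2)

theorem comm_of_act (hp : commutator ↥L = ⊤) {g : ↥(normalizer (L : Set G))} (h : act L g = 1) :
    ∀ k ∈ L, (g : G) * k * (g : G)⁻¹ = k := by
  intro k hk
  have h1 := eq_one_of_bar hp (show bar (L.normalizerMonoidHom g) = 1 from h)
  have h2 := DFunLike.congr_fun h1 ⟨k, hk⟩
  exact congrArg Subtype.val h2

/-- the image in `L / Z(L)` of a subgroup of `L` -/
def img (L K : Subgroup G) : Subgroup (↥L ⧸ center ↥L) := (K.subgroupOf L).map (QuotientGroup.mk' (center ↥L))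

theorem mem_img {K : Subgroup G} {x : ↥L ⧸ center ↥L} : x ∈ img L K ↔ ∃ y : L, (y : G) ∈ K ∧ (y : ↥L ⧸ center ↥L) = x :=
  Iff.rfl

theorem map_act {K : Subgroup G} (hK : K ≤ L) :
    (K.subgroupOf (normalizer (L : Set G))).map (act L) =
      (img L K).map (MulAut.conj : (↥L ⧸ center ↥L) →* MulAut (↥L ⧸ center ↥L)) := by
  ext g
  constructor
  · rintro ⟨⟨y, hyn⟩, hy, rfl⟩
    exact ⟨_, ⟨⟨y, hK hy⟩, hy, rfl⟩, (act_of_mem (hK hy) hyn).symm⟩
  · rintro ⟨_, ⟨⟨y, hyL⟩, hy, rfl⟩, rfl⟩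
    exact ⟨⟨y, le_normalizer hyL⟩, hy, act_of_mem hyL (le_normalizer hyL)⟩

theorem map_act_zpowers {d : G} (hd : d ∈ normalizer (L : Set G)) :
    ((zpowers d).subgroupOf (normalizer (L : Set G))).map (act L) = zpowers (act L ⟨d, hd⟩) := by
  ext g
  constructor
  · rintro ⟨⟨y, hyn⟩, ⟨k, hk⟩, rfl⟩
    refine ⟨k, ?_⟩
    show act L ⟨d, hd⟩ ^ k = act L ⟨y, hyn⟩
    rw [← map_zpow]
    congr 1
    exact Subtype.ext hk
  · rintro ⟨k, rfl⟩
    refine ⟨⟨d, hd⟩ ^ k, ⟨k, rfl⟩, ?_⟩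
    show act L (⟨d, hd⟩ ^ k) = act L ⟨d, hd⟩ ^ k
    rw [map_zpow]

/-- the image of `K⟨d⟩` -/
theorem map_act_Jb {K : Subgroup G} (hK : K ≤ L) {d : G} (hd : d ∈ normalizer (L : Set G)) :
    ((K ⊔ zpowers d).subgroupOf (normalizer (L : Set G))).map (act L) = Jb (act L ⟨d, hd⟩) (img L K) := by
  rw [subgroupOf_sup (hK.trans le_normalizer) ((zpowers_le).2 hd), Subgroup.map_sup, map_act hK, map_act_zpowers hd]
  rfl

end

end Cfsg.Agent.OddHalf.NI3.Ex4
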