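import Cfsg.Agent.OddHalf.NI3.Ex4.Loc
import Cfsg.Agent.OddHalf.NI3.Bad.StepOneG
import Cfsg.Agent.OddHalf.CaseM.Sign
import Cfsg.Agent.OddHalf.NI3.SubSL

/-!
# (EX4) of THEOREM NIB: the cut into rows (helper515; text of helper219, bb ODD #15341, #17355)

`ex4G`: `StepOneG.Ex4G` from the Gorenstein-Walter theorem, S1738, `D5cover`, the 2-parts of the multipliers, the signs
of the outer automorphism groups and the rows `Rows4`.
-/

set_option autoImplicit false
set_option linter.style.haveILetI false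

namespace Cfsg.Agent.OddHalf.NI3.Ex4

open Subgroup Cfsg Cfsg.Agent.OddHalf.Iface Cfsg.Agent.OddHalf.LieOddFam Cfsg.Agent.OddHalf.D9.Cut
  Cfsg.Agent.SignalizersComponents
open Cfsg.Agent.OddHalf.D3 (Comp)
open Cfsg.Agent.OddHalf.NI (CompIn Even8)
open Cfsg.Agent.OddHalf.NI.Ex (rankOne_false altCover_comp exc)
open Cfsg.Agent.OddHalf.NI3.Bad.StepOneG (In2 Ex4G)
open Cfsg.Agent.Cit (cj)

universe u

/-- the rows of (EX4) -/
structure Rows4 : Prop where
  exc2 : ∀ (X : Type u) [Group X] [Finite X], IsSimpleGroup X → ¬ IsMulCommutative X → Exc2 X → Row4 X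
  exc4 : ∀ (X : Type u) [Group X] [Finite X], IsSimpleGroup X → Exc4 X → Row4 X
  sz : ∀ (X : Type u) [Group X] [Finite X], IsSimpleGroup X → XSz X → Row4 X

section

variable {G : Type u} [Group G] {z w g : G} {L J : Subgroup G}

theorem In2.quas (h : In2 z w g L J) : IsQuasisimple ↥L := h.comp.quasi

/-- the elements of `J` of order 3 centralise `Z(L)` -/
theorem comm_center (h : In2 z w g L J) (hZ : IsPGroup 2 ↥(center ↥L)) {v ζ : G} (hv : v ∈ J) (h3 : v * v * v = 1)
    (hζL : ζ ∈ L) (hζ : ∀ x ∈ L, x * ζ = ζ * x) (hζw : ζ * w = w * ζ) : v * ζ = ζ * v := by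
  obtain ⟨n, hn⟩ := hZ ⟨⟨ζ, hζL⟩, mem_center_iff.2 fun x => Subtype.ext (hζ x x.2)⟩
  have hn' : ζ ^ 2 ^ n = 1 := by
    have := congrArg Subtype.val (congrArg Subtype.val hn)
    simpa using this
  have hζC : ζ ∈ centralizer ({z} : Set G) ⊓ centralizer ({w} : Set G) :=
    ⟨h.comp.le hζL, mem_centralizer_singleton_iff.2 hζw⟩
  have hvζL : v * ζ * v⁻¹ ∈ L := (mem_normalizer_iff.1 (h.JL hv) ζ).1 hζL
  have hu : ζ * (v * ζ * v⁻¹) = v * ζ * v⁻¹ * ζ := (hζ _ hvζL).symm
  have h1 := Bad.StepOne.cube_mem h.sn.2 (v := ⟨v, h.sn.1 hv⟩) (u := ⟨ζ, hζC⟩) hv (Subtype.ext h3)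
    ⟨n, Subtype.ext (by simpa using hn')⟩ (Subtype.ext hu)
  have h2 : ζ⁻¹ * (v * ζ * v⁻¹) ∈ J := h1
  -- `v ζ v⁻¹` is central in `L`
  have hcen : ∀ x ∈ L, x * (v * ζ * v⁻¹) = v * ζ * v⁻¹ * x := by
    intro x hx
    have h4 : v⁻¹ * x * v ∈ L := by
      have := (mem_normalizer_iff.1 (h.JL (inv_mem hv)) x).1 hx
      rwa [inv_inv] at this
    calc x * (v * ζ * v⁻¹) = v * ((v⁻¹ * x * v) * ζ) * v⁻¹ := by group
      _ = v * (ζ * (v⁻¹ * x * v)) * v⁻¹ := by rw [hζ _ h4]
      _ = v * ζ * v⁻¹ * x := by group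
  rcases h.pr.t3.cen _ h2 (fun y hy hyz => by
    have hyL := h.Q y hy hyz
    have e1 : ζ⁻¹ * y = y * ζ⁻¹ := ((show Commute y ζ from hζ y hyL).inv_right).eq.symm
    rw [mul_assoc, ← hcen y hyL, ← mul_assoc, e1, mul_assoc]) with h5 | h5
  · rw [inv_mul_eq_one, eq_comm, mul_inv_eq_iff_eq_mul] at h5
    exact h5
  · exfalso
    have h6 : v * ζ * v⁻¹ = ζ * z := by rw [← h5]; group
    have hvz : v * z = z * v := h.pr.comm_z hv
    have hvz' : v * z * v⁻¹ = z := by rw [hvz]; group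
    have h8 : v * (ζ * z) * v⁻¹ = ζ * z * z := by
      calc v * (ζ * z) * v⁻¹ = (v * ζ * v⁻¹) * (v * z * v⁻¹) := by group
        _ = ζ * z * z := by rw [h6, hvz']
    have h7 : ζ = ζ * (z * z) * z := by
      calc ζ = (v * v * v) * ζ * (v * v * v)⁻¹ := by rw [h3]; group
        _ = v * (v * (v * ζ * v⁻¹) * v⁻¹) * v⁻¹ := by group
        _ = v * (ζ * z * z) * v⁻¹ := by rw [h6, h8]
        _ = (v * ζ * v⁻¹) * (v * z * v⁻¹) * (v * z * v⁻¹) := by group
        _ = ζ * (z * z) * z := by rw [h6, hvz']; group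
    rw [h.pr.t3.z_sq, mul_one] at h7
    exact h.pr.t3.z_ne (left_eq_mul.1 h7)

variable [Finite G]

omit [Group G] [Finite G] in
/-- components centralise `O₂` -/
theorem comp_le_cent {H : Type*} [Group H] [Finite H] {K : Subgroup H} (hK : IsComponent K) :
    K ≤ centralizer (pCore 2 H : Set H) := by
  haveI : Fact (Nat.Prime 2) := ⟨Nat.prime_two⟩
  intro x hx
  rw [mem_centralizer_iff]
  intro p hp
  exact mem_centralizer_iff.1 ((Components.component_le_layer hK).trans
    (Components.layer_le_centralizer_fitting (G := H)) hx) p (Lib.Cores.pCore_le_fittingSubgroup 2 hp)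

/-- **`w` acts as an inner automorphism of `L`**: the local configuration. -/
theorem exists_loc (h : In2 z w g L J) (hZ : IsPGroup 2 ↥(center ↥L)) (hX : Table.OutSign (↥L ⧸ center ↥L)) :
    ∃ l : G, Loc z w l L J (centralizer ({z} : Set G) ⊓ centralizer ({w} : Set G)) := by
  have hq : IsQuasisimple ↥L := h.comp.quasi
  have hwn : w ∈ normalizer (L : Set G) := Cit.mem_normalizer_iff_cj.2 h.wL
  have hgn : g ∈ normalizer (L : Set G) := Cit.mem_normalizer_iff_cj.2 h.gL
  have hww : w * w = 1 := by rw [← pow_two, ← h.w2, pow_orderOf_eq_one]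
  have hαα : act L ⟨w, hwn⟩ * act L ⟨w, hwn⟩ = 1 := by
    rw [← map_mul, ← map_one (act L)]
    congr 1
    exact Subtype.ext hww
  have hinn : ∃ x, act L ⟨w, hwn⟩ = MulAut.conj x := by
    by_contra hno
    push Not at hno
    obtain ⟨lam, hl1, hl2⟩ := hX _ hαα hno
    obtain ⟨l0, hl0, c0, hc0, hgg⟩ := h.inn
    have hc0n : c0 ∈ normalizer (L : Set G) := centralizer_le_normalizer _ hc0
    have e1 : act L ⟨g, hgn⟩ * act L ⟨g, hgn⟩ * act L ⟨w, hwn⟩ =
        act L ⟨l0, le_normalizer hl0⟩ * act L ⟨c0, hc0n⟩ := by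
      rw [← map_mul, ← map_mul, ← map_mul]
      congr 1
      exact Subtype.ext hgg
    have e2 : act L ⟨c0, hc0n⟩ = 1 := by
      refine act_of_comm hc0n fun k hk => ?_
      rw [← mem_centralizer_iff.1 hc0 k hk]; group
    rw [e2, mul_one, act_of_mem hl0] at e1
    have e3 := congrArg lam e1
    rw [map_mul, map_mul, hl1, hl2, Int.units_mul_self, one_mul] at e3
    exact absurd e3 (by decide)
  obtain ⟨x, hx⟩ := hinn
  obtain ⟨⟨l, hl⟩, rfl⟩ := QuotientGroup.mk_surjective x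
  have hwl : ∀ x ∈ L, w * x * w⁻¹ = l * x * l⁻¹ := by
    have e1 : act L ⟨w * l⁻¹, mul_mem hwn (inv_mem (le_normalizer hl))⟩ = 1 := by
      have e2 : (⟨w * l⁻¹, mul_mem hwn (inv_mem (le_normalizer hl))⟩ : ↥(normalizer (L : Set G))) =
        ⟨w, hwn⟩ * (⟨l, le_normalizer hl⟩)⁻¹ := rfl
      rw [e2, map_mul, map_inv, hx, act_of_mem hl, mul_inv_cancel]
    intro x hxL
    have e2 := comm_of_act hq.1.commutator_eq_top e1 (l * x * l⁻¹) (mul_mem (mul_mem hl hxL) (inv_mem hl))
    calc w * x * w⁻¹ = (w * l⁻¹) * (l * x * l⁻¹) * (w * l⁻¹)⁻¹ := by group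
      _ = l * x * l⁻¹ := e2
  refine ⟨l, ?_⟩
  exact
    { qs := hq
      Z2 := hZ
      pr := h.pr
      sJ := h.sn
      sL := by
        have h1 : Sn L (centralizer ({z} : Set G)) := ⟨h.comp.le, h.comp.comp.1⟩
        exact h1.inf _
      hO := h.core
      JL := h.JL
      Jw := h.sn.1.trans inf_le_right
      Q := h.Q
      zL := fun x hx => mem_centralizer_singleton_iff.1 (h.comp.le hx)
      lL := hl
      wl := hwl
      ll := by
        intro x hxL
        have h1 : l * x * l⁻¹ ∈ L := mul_mem (mul_mem hl hxL) (inv_mem hl)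
        have h2 : l * l * x * (l * l)⁻¹ = x := by
          calc l * l * x * (l * l)⁻¹ = l * (l * x * l⁻¹) * l⁻¹ := by group
            _ = w * (w * x * w⁻¹) * w⁻¹ := by rw [← hwl _ h1, ← hwl x hxL]
            _ = (w * w) * x * (w * w)⁻¹ := by group
            _ = x := by rw [hww]; group
        rw [mul_inv_eq_iff_eq_mul] at h2
        exact h2
      ln := by
        by_contra hcon
        push Not at hcon
        have hLw : L ≤ centralizer ({z} : Set G) ⊓ centralizer ({w} : Set G) := by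
          refine le_inf h.comp.le fun x hxL => ?_
          rw [mem_centralizer_singleton_iff]
          have h1 := hwl x hxL
          rw [hcon x hxL, mul_inv_cancel_right, mul_inv_eq_iff_eq_mul] at h1
          exact h1.symm
        have h1 : Sn L (centralizer ({z} : Set G) ⊓ centralizer ({w} : Set G)) :=
          Sn.restrict ⟨h.comp.le, h.comp.comp.1⟩ inf_le_left hLw
        have h2 : IsComponent (L.subgroupOf (centralizer ({z} : Set G) ⊓ centralizer ({w} : Set G))) :=
          ⟨h1.2, Components.isQuasisimple_of_mulEquiv (subgroupOfEquivOfLe hLw).symm hq⟩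
        obtain ⟨i, j, d, hs⟩ := h.pr.sl
        have h3 := (h.pr.subgroupOf h.sn.1).mem_pCore h.sn.2 (y := ⟨i, h.sn.1 hs.hi⟩) hs.hi (Subtype.ext hs.q.i2)
        have h4 := mem_centralizer_iff.1 (comp_le_cent h2
          (show (⟨j, hLw (h.Q j hs.hj hs.q.j2)⟩ : ↥(centralizer ({z} : Set G) ⊓ centralizer ({w} : Set G))) ∈
            L.subgroupOf (centralizer ({z} : Set G) ⊓ centralizer ({w} : Set G)) from h.Q j hs.hj hs.q.j2)) _ h3
        exact hs.q.not_comm (congrArg Subtype.val h4)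
      dZ := by
        intro v hv h3 ζ hζL hζ
        refine comm_center h hZ hv h3 hζL hζ ?_
        have h1 := hwl ζ hζL
        rw [hζ l hl, mul_inv_cancel_right, mul_inv_eq_iff_eq_mul] at h1
        exact h1.symm }

end

/-- **(EX4)** -/
theorem ex4G (hGW : RankOne.GW.{u}) (P : Stmts.P1738.{u}) (hD5 : D5cover.{u}) (M : D9.Cut.Mult.{u})
    (S : CaseM.SignRows.{u}) (R : Rows4.{u}) : Ex4G.{u} := by
  intro G _ C z w g L J h hodd
  have := C.fin
  have := C.simple
  have hzL := h.z_mem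
  have hc : CompOf z L := NI.Final.compOf_of_comp h.comp
  have hq : IsQuasisimple ↥L := h.comp.quasi
  have hyZ : (⟨z, hzL⟩ : ↥L) ∈ center ↥L := by
    rw [mem_center_iff]
    intro g
    exact Subtype.ext (mem_centralizer_singleton_iff.mp (h.comp.le g.2))
  have hyo : orderOf (⟨z, hzL⟩ : ↥L) = 2 := by rw [Subgroup.orderOf_mk]; exact h.z2
  have hzne : center ↥L ≠ ⊥ := by
    intro h
    rw [h, mem_bot] at hyZ
    rw [hyZ, orderOf_one] at hyo
    omega
  have hz : IsPGroup 2 ↥(center ↥L) := Soft.CompOf.center_isPGroup (C.bal z h.z2) hc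
  have hrk : ¬ PRankLE 2 1 ↥L := fun h' => rankOne_false hGW C h.z2 hc hzL h'
  have hna := Soft.quo_na hq
  have hNtop : L ≠ ⊤ := Soft.CompOf.ne_top C.na h.z2 hc
  have hs : IsSimpleGroup (↥L ⧸ center ↥L) := hq.2
  have hK : IsKnownSimple' (↥L ⧸ center ↥L) := Known.known_quotient C.kproper L hNtop (center ↥L) hs hna
  by_cases halt : IsAlternating (↥L ⧸ center ↥L)
  · obtain ⟨n, hn, f⟩ := halt
    obtain ⟨h8, hcov⟩ := hD5 ↥L inferInstance hq hz hzne hrk n hn f
    exact altCover_comp P C h.z2 hc hzL n h8 hcov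
  have hX : LieTwo (↥L ⧸ center ↥L) ∨ IsSporadicGroup (↥L ⧸ center ↥L) := by
    rcases Known.classify hna hK with h | h | h | h
    · exact absurd h halt
    · exact absurd h hodd
    · exact Or.inl ⟨h, halt, hodd⟩
    · exact Or.inr h
  rcases exc M hq hz hzne hX with h1 | h1 | h1
  · obtain ⟨l, hl⟩ := exists_loc h hz (S.exc2 _ h1)
    exact hl.false (R.exc2 _ hs hna h1)
  · obtain ⟨l, hl⟩ := exists_loc h hz (S.exc4 _ h1)
    exact hl.false (R.exc4 _ hs h1)
  · obtain ⟨l, hl⟩ := exists_loc h hz (S.sz _ h1)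
    exact hl.false (R.sz _ hs h1)

end Cfsg.Agent.OddHalf.NI3.Ex4
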