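import Cfsg.Agent.OddHalf.NI3.Sn
import Cfsg.Agent.OddHalf.NI.Ex.Lemma

/-!
# (EX4) of THEOREM NIB: the Prop of a row (helper219, bb ODD #15341)

`X` is a simple group, `w ∈ X` an involution, `β` an automorphism of order 3 which fixes `w`, `A ≤ C(w)` a four-group on
which `β` acts nontrivially, `A⟨β⟩` subnormal in `C(w)⟨β⟩` (as subgroups of `Aut X`), `O(C(w)⟨β⟩) = 1`, and `A` lifts to
`Q₈` in a cover `N` of `X`.

* `Cfg4 w β A` : the configuration in `X`;
* `Row4 X` : the row;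
* `EX4 X` : the stronger form without a cover and for arbitrary involutory automorphisms; `EX4.row4`.
-/

set_option autoImplicit false

namespace Cfsg.Agent.OddHalf.NI3.Ex4

open Subgroup Cfsg

universe u

variable {X : Type*} [Group X]

/-- `A⟨β⟩` as a subgroup of `Aut X` -/
def Jb (β : MulAut X) (A : Subgroup X) : Subgroup (MulAut X) :=
  A.map (MulAut.conj : X →* MulAut X) ⊔ zpowers β

/-- the configuration -/
structure Cfg4 (w : X) (β : MulAut X) (A : Subgroup X) : Prop where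
  ww : w * w = 1
  w1 : w ≠ 1
  b3 : β * β * β = 1
  bw : β w = w
  Aw : ∀ a ∈ A, a * w = w * a
  A2 : ∀ a ∈ A, a * a = 1
  A4 : Nat.card A = 4
  bA : ∀ a ∈ A, β a ∈ A
  bne : ∀ a ∈ A, β a = a → a = 1
  sn : Sn (Jb β A) (Jb β (centralizer ({w} : Set X)))
  core : pPrimeCore 2 ↥(Jb β (centralizer ({w} : Set X))) = ⊥

/-- **The row of (EX4).** -/
def Row4 (X : Type u) [Group X] : Prop :=
  ∀ (w : X) (β : MulAut X) (A : Subgroup X), Cfg4 w β A →
    ∀ (N : Type u) [Group N] [Finite N] (f : N →* X), Function.Surjective f → f.ker ≤ center N →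
      IsPGroup 2 ↥f.ker → commutator N = ⊤ → ∀ a b l : N, f a ∈ A → f b ∈ A → f l = w → a * l = l * a →
      b * l = l * b → a * b * a⁻¹ * b⁻¹ ∈ f.ker → orderOf (a * b * a⁻¹ * b⁻¹) = 2 → False

/-- The form for `X` alone (#14903 (3), #15032). -/
def EX4 (X : Type u) [Group X] : Prop :=
  ∀ (α β : MulAut X) (A : Subgroup X), α * α = 1 → α ≠ 1 → β * β * β = 1 → α * β = β * α →
    (∀ a ∈ A, α a = a) → (∀ a ∈ A, a * a = 1) → Nat.card A = 4 → (∀ a ∈ A, β a ∈ A) →
    (∀ a ∈ A, β a = a → a = 1) →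
    Sn (Jb β A) (Jb β (NI.Ex.fix α)) → pPrimeCore 2 ↥(Jb β (NI.Ex.fix α)) = ⊥ → False

theorem fix_conj (w : X) : NI.Ex.fix (MulAut.conj w) = centralizer ({w} : Set X) := by
  ext x
  rw [NI.Ex.mem_fix, mem_centralizer_singleton_iff, MulAut.conj_apply, mul_inv_eq_iff_eq_mul]
  exact ⟨fun h => h.symm, fun h => h.symm⟩

theorem EX4.row4 {X : Type u} [Group X] (hZ : center X = ⊥) (h : EX4 X) : Row4 X := by
  intro w β A C N _ _ f _ _ _ _ a b l _ _ _ _ _ _ _
  refine h (MulAut.conj w) β A ?_ ?_ C.b3 ?_ ?_ C.A2 C.A4 C.bA C.bne ?_ ?_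
  · rw [← map_mul, C.ww, map_one]
  · intro h1
    have h2 : w ∈ center X := by
      rw [mem_center_iff]
      intro g
      have h3 := DFunLike.congr_fun h1 g
      rw [MulAut.conj_apply, MulAut.one_apply, mul_inv_eq_iff_eq_mul] at h3
      exact h3.symm
    rw [hZ, mem_bot] at h2
    exact C.w1 h2
  · ext x
    simp only [MulAut.mul_apply, MulAut.conj_apply, map_mul, map_inv, C.bw]
  · intro x hx
    rw [MulAut.conj_apply, mul_inv_eq_iff_eq_mul, C.Aw x hx]
  · rw [fix_conj]; exact C.sn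
  · rw [fix_conj]; exact C.core

end Cfsg.Agent.OddHalf.NI3.Ex4
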