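import Cfsg.Agent.OddHalf.NI3.Ex4.Local
import Cfsg.Agent.Lib.ThompsonPQ

/-!
# (EX4): the rows from one 2-central involution (LEMMA EX4, bb ODD #15341)

`OO2 ζ = O₂(C(ζ))`. `Large4 ζ Z₁` : `ζ` is 2-central, `C(ζ)` is 2-constrained, `ζ ∈ Z₁ ≤ Z(C(ζ))` is elementary abelian and
contains the squares of the elements of `O₂(C(ζ))`; the elements of `Z₁` are `NoComm`; a four-group in `Z(O₂(C(ζ)))`
meets `Z₁`. (`Z₁ = ⟨ζ⟩` for `O₂(C(ζ))` of extraspecial type.)

* `row4_of_large` : then `Row4 X`.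
-/

set_option autoImplicit false
set_option linter.style.haveILetI false

namespace Cfsg.Agent.OddHalf.NI3.Ex4

open Subgroup Cfsg
open Cfsg.Agent.OddHalf.NI.Ex.Lemma (NoComm)

universe u

/-- `O₂(C(ζ))` -/
noncomputable def OO2 {X : Type*} [Group X] (ζ : X) : Subgroup X :=
  (pCore 2 ↥(centralizer ({ζ} : Set X))).map (centralizer ({ζ} : Set X)).subtype

/-- the hypotheses on the involution `ζ` -/
structure Large4 {X : Type u} [Group X] (ζ : X) (Z₁ : Subgroup X) : Prop where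
  zz : ζ * ζ = 1
  z1 : ζ ≠ 1
  syl : ∃ S : Sylow 2 X, ∀ x ∈ S, x * ζ = ζ * x
  con : ∀ h, h * ζ = ζ * h → (∀ q ∈ OO2 ζ, h * q = q * h) → h ∈ OO2 ζ
  mem : ζ ∈ Z₁
  le : Z₁ ≤ OO2 ζ
  ex : ∀ x ∈ Z₁, x * x = 1
  cen : ∀ x ∈ Z₁, ∀ h, h * ζ = ζ * h → h * x = x * h
  sq : ∀ x ∈ OO2 ζ, x * x ∈ Z₁
  nc : ∀ x ∈ Z₁, x ≠ 1 → NoComm x
  fix : ∀ β : MulAut X, β * β * β = 1 → β ζ = ζ → ∀ x ∈ Z₁, β x = x
  four : ∀ B ≤ OO2 ζ, (∀ b ∈ B, ∀ x ∈ OO2 ζ, b * x = x * b) → Nat.card B = 4 → ∃ b ∈ B, b ≠ 1 ∧ b ∈ Z₁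

section Basic

variable {X : Type u} [Group X]

theorem OO2_isPGroup [Finite X] (ζ : X) : IsPGroup 2 ↥(OO2 ζ) := by
  haveI : Fact (Nat.Prime 2) := ⟨Nat.prime_two⟩
  exact (Lib.Cores.pCore_isPGroup 2).map _

theorem OO2_comm {ζ x : X} (hx : x ∈ OO2 ζ) : x * ζ = ζ * x := by
  obtain ⟨y, _, rfl⟩ := hx
  exact mem_centralizer_singleton_iff.1 y.2

theorem OO2_conj {ζ x h : X} (hx : x ∈ OO2 ζ) (hh : h * ζ = ζ * h) : h * x * h⁻¹ ∈ OO2 ζ := by
  obtain ⟨y, hy, rfl⟩ := hx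
  haveI hn : (pCore 2 ↥(centralizer ({ζ} : Set X))).Normal := Lib.Cores.pCore_normal 2
  exact ⟨_, hn.conj_mem y hy ⟨h, mem_centralizer_singleton_iff.2 hh⟩, rfl⟩

theorem OO2_map {Y : Type*} [Group Y] (e : X ≃* Y) {ζ x : X} (hx : x ∈ OO2 ζ) : e x ∈ OO2 (e ζ) := by
  obtain ⟨⟨y, hy0⟩, hy, rfl⟩ := hx
  have hc : ∀ g : X, g ∈ centralizer ({ζ} : Set X) ↔ e g ∈ centralizer ({e ζ} : Set Y) := by
    intro g
    rw [mem_centralizer_singleton_iff, mem_centralizer_singleton_iff, ← map_mul, ← map_mul]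
    exact e.injective.eq_iff.symm
  let φ : ↥(centralizer ({ζ} : Set X)) ≃* ↥(centralizer ({e ζ} : Set Y)) :=
    { toFun := fun g => ⟨e g, (hc g).1 g.2⟩
      invFun := fun g => ⟨e.symm g, (hc _).2 (by rw [e.apply_symm_apply]; exact g.2)⟩
      left_inv := fun g => Subtype.ext (e.symm_apply_apply _)
      right_inv := fun g => Subtype.ext (e.apply_symm_apply _)
      map_mul' := fun g h => Subtype.ext (map_mul e _ _) }
  have h1 := Lib.Cores.map_equiv_pCore φ 2
  have h2 : φ ⟨y, hy0⟩ ∈ pCore 2 ↥(centralizer ({e ζ} : Set Y)) := by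
    rw [← h1]; exact mem_map_of_mem _ hy
  exact ⟨_, h2, rfl⟩

theorem OO2_map_iff {Y : Type*} [Group Y] (e : X ≃* Y) {ζ x : X} : e x ∈ OO2 (e ζ) ↔ x ∈ OO2 ζ := by
  refine ⟨fun h => ?_, OO2_map e⟩
  have h1 := OO2_map e.symm h
  rwa [e.symm_apply_apply, e.symm_apply_apply] at h1

/-- an involution with `NoComm` : its preimages commute with the preimages of its centralizer -/
theorem comm_of_nc {x : X} (h : NoComm x) (xx : x * x = 1) {N : Type u} [Group N] [Finite N] {f : N →* X}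
    (hf : Function.Surjective f) (hker : f.ker ≤ center N) (hker2 : IsPGroup 2 ↥f.ker)
    (hN : commutator N = ⊤) {n g : N} (hn : f n = x) (hg : f g * x = x * f g) : n * g = g * n := by
  set c := n * g * n⁻¹ * g⁻¹ with hc
  have hck : c ∈ f.ker := by
    rw [MonoidHom.mem_ker, hc, map_mul, map_mul, map_mul, map_inv, map_inv, hn, ← hg]; group
  have hcc := mem_center_iff.1 (hker hck)
  have hnn : n * n ∈ center N := hker (by rw [MonoidHom.mem_ker, map_mul, hn, xx])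
  have h1 : n * g * n⁻¹ = c * g := by rw [hc]; group
  have h2 : c * c = 1 := by
    have h3 : (n * n) * g * (n * n)⁻¹ = c * c * g := by
      calc (n * n) * g * (n * n)⁻¹ = n * (n * g * n⁻¹) * n⁻¹ := by group
        _ = n * (c * g) * n⁻¹ := by rw [h1]
        _ = (n * c) * g * n⁻¹ := by group
        _ = (c * n) * g * n⁻¹ := by rw [hcc n]
        _ = c * (n * g * n⁻¹) := by group
        _ = c * c * g := by rw [h1]; group
    have h4 : (n * n) * g * (n * n)⁻¹ = g := by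
      rw [← mem_center_iff.1 hnn g, mul_inv_cancel_right]
    rw [h4] at h3
    have h5 : 1 * g = c * c * g := by rw [one_mul]; exact h3
    exact (mul_right_cancel h5).symm
  have h3 : c = 1 := by
    by_contra hne
    exact h N f hf hker hker2 hN n g hn hck (orderOf_eq_prime (by rw [pow_two]; exact h2) hne)
  rw [h3, one_mul, mul_inv_eq_iff_eq_mul] at h1
  exact h1

theorem NoComm.map {Y : Type u} [Group Y] (e : X ≃* Y) {x : X} (h : NoComm x) : NoComm (e x) := by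
  intro N _ _ f hf hker hker2 hN n g hn hk
  have hk' : ((e.symm : Y →* X).comp f).ker = f.ker := by
    ext y
    rw [MonoidHom.mem_ker, MonoidHom.mem_ker]
    change e.symm (f y) = 1 ↔ f y = 1
    exact map_eq_one_iff _ e.symm.injective
  refine h N ((e.symm : Y →* X).comp f) (e.symm.surjective.comp hf) (by rw [hk']; exact hker)
    (by rw [hk']; exact hker2) hN n g ?_ (by rw [hk']; exact hk)
  change e.symm (f n) = x
  rw [hn, e.symm_apply_apply]

/-- transport -/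
theorem Large4.map {Y : Type u} [Group Y] [Finite X] (e : X ≃* Y) {ζ : X} {Z₁ : Subgroup X} (h : Large4 ζ Z₁) :
    Large4 (e ζ) (Z₁.map (e : X →* Y)) where
  zz := by rw [← map_mul, h.zz, map_one]
  z1 := fun h1 => h.z1 (e.injective (by rw [h1, map_one]))
  syl := by
    haveI : Fact (Nat.Prime 2) := ⟨Nat.prime_two⟩
    haveI : Finite Y := Finite.of_equiv _ e.toEquiv
    obtain ⟨S, hS⟩ := h.syl
    obtain ⟨T, hT⟩ := (S.isPGroup'.map (e : X →* Y)).exists_le_sylow
    refine ⟨T, ?_⟩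
    -- `|T| = |S|`
    have hcard : Nat.card ((S : Subgroup X).map (e : X →* Y)) = Nat.card T := by
      have h1 : Nat.card ((S : Subgroup X).map (e : X →* Y)) = Nat.card (S : Subgroup X) :=
        card_map_of_injective (f := (e : X →* Y)) e.injective
      rw [h1]
      have h2 := S.card_eq_multiplicity
      have h3 := T.card_eq_multiplicity
      have h4 : Nat.card X = Nat.card Y := Nat.card_congr e.toEquiv
      rw [h4] at h2
      rw [h3]
      exact h2
    have hTe : (S : Subgroup X).map (e : X →* Y) = T := eq_of_le_of_card_ge hT hcard.ge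
    intro x hx
    have hx' : x ∈ (S : Subgroup X).map (e : X →* Y) := by rw [hTe]; exact hx
    obtain ⟨s, hs, rfl⟩ := hx'
    change e s * e ζ = e ζ * e s
    rw [← map_mul, hS s hs, map_mul]
  con := by
    intro y hy h1
    obtain ⟨x, rfl⟩ := e.surjective y
    rw [OO2_map_iff]
    refine h.con x (e.injective (by rw [map_mul, map_mul]; exact hy)) ?_
    intro q hq
    exact e.injective (by rw [map_mul, map_mul]; exact h1 _ (OO2_map e hq))
  mem := ⟨ζ, h.mem, rfl⟩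
  le := by
    rintro _ ⟨x, hx, rfl⟩
    exact OO2_map e (h.le hx)
  ex := by
    rintro _ ⟨x, hx, rfl⟩
    change e x * e x = 1
    rw [← map_mul, h.ex x hx, map_one]
  cen := by
    rintro _ ⟨x, hx, rfl⟩ y hy
    obtain ⟨g, rfl⟩ := e.surjective y
    change e g * e x = e x * e g
    rw [← map_mul, h.cen x hx g (e.injective (by rw [map_mul, map_mul]; exact hy)), map_mul]
  sq := by
    intro y hy
    obtain ⟨x, rfl⟩ := e.surjective y
    rw [OO2_map_iff] at hy
    exact ⟨x * x, h.sq x hy, map_mul e x x⟩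
  nc := by
    rintro _ ⟨x, hx, rfl⟩ h1
    refine NoComm.map e (h.nc x hx ?_)
    rintro rfl
    exact h1 (map_one e)
  fix := by
    rintro β b3 hβ _ ⟨x, hx, rfl⟩
    have h1 := h.fix (MulAut.congr e.symm β) (by rw [← map_mul, ← map_mul, b3, map_one]) ?_ x hx
    · change e.symm (β (e x)) = x at h1
      change β (e x) = e x
      apply e.symm.injective
      rw [h1, e.symm_apply_apply]
    · change e.symm (β (e ζ)) = ζ
      rw [hβ, e.symm_apply_apply]
  four := by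
    intro B hB h1 h2
    have h3 : B.map (e.symm : Y →* X) ≤ OO2 ζ := by
      rintro _ ⟨y, hy, rfl⟩
      have h3 := hB hy
      change e.symm y ∈ OO2 ζ
      rw [← OO2_map_iff e, e.apply_symm_apply]
      exact h3
    have h4 : ∀ b ∈ B.map (e.symm : Y →* X), ∀ x ∈ OO2 ζ, b * x = x * b := by
      rintro _ ⟨y, hy, rfl⟩ x hx
      apply e.injective
      change e (e.symm y * x) = e (x * e.symm y)
      rw [map_mul, map_mul, e.apply_symm_apply]
      exact h1 y hy _ (OO2_map e hx)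
    have h5 : Nat.card (B.map (e.symm : Y →* X)) = 4 := by
      rw [card_map_of_injective (f := (e.symm : Y →* X)) e.symm.injective]
      exact h2
    obtain ⟨b, hb, hb1, hb2⟩ := h.four _ h3 h4 h5
    obtain ⟨y, hy, rfl⟩ := hb
    refine ⟨y, hy, ?_, ?_⟩
    · rintro rfl
      exact hb1 (map_one _)
    · exact ⟨_, hb2, e.apply_symm_apply y⟩

/-- the elements of a four-group -/
theorem four_cases {A : Subgroup X} (hA : Nat.card A = 4) {x y : X} (hx : x ∈ A) (hy : y ∈ A)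
    (hx1 : x ≠ 1) (hy1 : y ≠ 1) (hxy : x ≠ y) (hxy' : x * y ≠ 1) : ∀ c ∈ A, c = 1 ∨ c = x ∨ c = y ∨ c = x * y := by
  classical
  haveI : Finite A := Nat.finite_of_card_ne_zero (by rw [hA]; norm_num)
  have h1 : ({1, x, y, x * y} : Set X) ⊆ (A : Set X) := by
    rintro c (rfl | rfl | rfl | rfl)
    · exact A.one_mem
    · exact hx
    · exact hy
    · exact A.mul_mem hx hy
  have h2 : ({1, x, y, x * y} : Set X).ncard = 4 := by
    rw [Set.ncard_insert_of_notMem, Set.ncard_insert_of_notMem, Set.ncard_pair]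
    · intro h; exact hx1 (mul_eq_right.1 h.symm)
    · rintro (h | h)
      · exact hxy h
      · exact hy1 (mul_eq_left.1 (Eq.symm h))
    · rintro (h | h | h)
      · exact hx1 h.symm
      · exact hy1 h.symm
      · exact hxy' (Eq.symm h)
  have hfin : (A : Set X).Finite := Set.toFinite _
  have h3 : ({1, x, y, x * y} : Set X) = (A : Set X) :=
    Set.eq_of_subset_of_ncard_le h1 (by
      rw [h2]
      change Nat.card A ≤ 4
      rw [hA]) hfin
  intro c hc
  have h4 : c ∈ ({1, x, y, x * y} : Set X) := by rw [h3]; exact hc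
  exact h4

end Basic

section Main

variable {X : Type u} [Group X] {w ζ : X} {β : MulAut X} {A Z₁ : Subgroup X}

theorem Cfg4.beta3 (C : Cfg4 w β A) (x : X) : β (β (β x)) = x := by
  rw [← MulAut.mul_apply, ← MulAut.mul_apply, C.b3, MulAut.one_apply]

theorem Cfg4.prod (C : Cfg4 w β A) {a : X} (ha : a ∈ A) : a * β a * β (β a) = 1 := by
  refine C.bne _ (A.mul_mem (A.mul_mem ha (C.bA _ ha)) (C.bA _ (C.bA _ ha))) ?_
  rw [map_mul, map_mul, C.beta3]
  have h1 := C.bA _ ha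
  have h2 := C.bA _ h1
  rw [C.comm (A.mul_mem h1 h2) ha, mul_assoc]

/-- `β` does not fix a nontrivial element; the powers of `β` on a nontrivial element exhaust `A` -/
theorem Cfg4.le_of_mem (C : Cfg4 w β A) {P : Subgroup X} (hP : ∀ x ∈ P, β x ∈ P) {a : X} (ha : a ∈ A)
    (ha1 : a ≠ 1) (haP : a ∈ P) : A ≤ P := by
  have h1 : β a ≠ 1 := fun h => ha1 (β.injective (by rw [h, map_one]))
  have h2 : a ≠ β a := fun h => ha1 (C.bne a ha h.symm)
  have h3 : a * β a ≠ 1 := by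
    intro h
    apply h2
    have h4 := C.A2 a ha
    have h5 : a * a = a * β a := by rw [h4, h]
    exact mul_left_cancel h5
  intro c hc
  rcases four_cases C.A4 ha (C.bA a ha) ha1 h1 h2 h3 c hc with h | h | h | h
  · rw [h]; exact P.one_mem
  · rw [h]; exact haP
  · rw [h]; exact hP a haP
  · rw [h]; exact P.mul_mem haP (hP a haP)

/-- the lifts of `A` which commute with `l` -/
theorem lift_A {A : Subgroup X} (hA : Nat.card A = 4) (hA2 : ∀ a ∈ A, a * a = 1) {N : Type u} [Group N] {f : N →* X}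
    (hker : f.ker ≤ center N) {a b l : N} (ha : f a ∈ A) (hb : f b ∈ A) (hal : a * l = l * a) (hbl : b * l = l * b)
    (hab : a * b ≠ b * a) {c : X} (hc : c ∈ A) (hc1 : c ≠ 1) :
    ∃ a' b' : N, f a' = c ∧ f b' ∈ A ∧ a' * l = l * a' ∧ b' * l = l * b' ∧ a' * b' ≠ b' * a' := by
  have hz : ∀ x y : N, f x = 1 → x * y = y * x := fun x y h => ((mem_center_iff.1 (hker h)) y).symm
  have h1 : f a ≠ 1 := fun h => hab (hz a b h)
  have h2 : f b ≠ 1 := fun h => hab (hz b a h).symm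
  have h3 : f a ≠ f b := by
    intro h
    apply hab
    have h4 : f (a⁻¹ * b) = 1 := by rw [map_mul, map_inv, h, inv_mul_cancel]
    have h5 := hz _ a h4
    calc a * b = a * (a * (a⁻¹ * b)) := by group
      _ = a * ((a⁻¹ * b) * a) := by rw [h5]
      _ = b * a := by group
  have h4 : f a * f b ≠ 1 := by
    intro h
    apply h3
    have h5 := hA2 _ ha
    have h6 : f a * f a = f a * f b := by rw [h5, h]
    exact mul_left_cancel h6
  rcases four_cases hA ha hb h1 h2 h3 h4 c hc with h | h | h | h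
  · exact absurd h hc1
  · exact ⟨a, b, h.symm, hb, hal, hbl, hab⟩
  · exact ⟨b, a, h.symm, ha, hbl, hal, fun h => hab h.symm⟩
  · refine ⟨a * b, b, by rw [map_mul, h], hb, ?_, hbl, ?_⟩
    · calc a * b * l = a * (b * l) := by group
        _ = (a * l) * b := by rw [hbl]; group
        _ = l * (a * b) := by rw [hal]; group
    · intro h5
      apply hab
      have h6 : a * b * b = b * a * b := by rw [h5]; group
      exact mul_right_cancel h6

/-- **`β ζ = ζ`** -/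
theorem Cfg4.beta_eq [Finite X] (C : Cfg4 w β A) (hZ : center X = ⊥) (hnc : NoComm ζ) (zz : ζ * ζ = 1)
    (hζw : w * ζ = ζ * w) (hζA : ∀ a ∈ A, a * ζ = ζ * a)
    {N : Type u} [Group N] [Finite N] {f : N →* X} (hf : Function.Surjective f) (hker : f.ker ≤ center N)
    (hker2 : IsPGroup 2 ↥f.ker) (hN : commutator N = ⊤) {a b l : N} (ha : f a ∈ A) (hb : f b ∈ A)
    (hal : a * l = l * a) (hbl : b * l = l * b) (hab : a * b ≠ b * a) : β ζ = ζ := by
  by_contra hne
  have h1 : β ζ * ζ⁻¹ ∈ A := C.cent hZ hζw.symm fun a ha => (hζA a ha).symm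
  have h2 : β ζ * ζ⁻¹ ≠ 1 := by rwa [Ne, mul_inv_eq_one]
  obtain ⟨a', b', e1, hb', _, _, hne'⟩ := lift_A C.A4 C.A2 hker ha hb hal hbl hab h1 h2
  obtain ⟨n, hn⟩ := hf ζ
  -- `a' n` is a preimage of `β ζ`
  have h3 : f (a' * n) = β ζ := by rw [map_mul, e1, hn, inv_mul_cancel_right]
  have h4 : n * b' = b' * n := comm_of_nc hnc zz hf hker hker2 hN hn (hζA _ hb')
  have h5 : (a' * n) * b' = b' * (a' * n) := by
    refine comm_of_nc (NoComm.map β hnc) (by rw [← map_mul, zz, map_one]) hf hker hker2 hN h3 ?_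
    have h6 : β ζ = (β ζ * ζ⁻¹) * ζ := by group
    rw [h6]
    calc f b' * (β ζ * ζ⁻¹ * ζ) = (f b' * (β ζ * ζ⁻¹)) * ζ := by group
      _ = (β ζ * ζ⁻¹) * (f b' * ζ) := by rw [C.comm hb' h1]; group
      _ = (β ζ * ζ⁻¹) * ζ * f b' := by rw [hζA _ hb']; group
  apply hne'
  have h6 : a' * b' * n = b' * a' * n := by
    calc a' * b' * n = a' * (b' * n) := by group
      _ = a' * n * b' := by rw [← h4]; group
      _ = b' * (a' * n) := h5
      _ = b' * a' * n := by group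
  exact mul_right_cancel h6

/-- `β` fixes `O₂(C(ζ))` -/
theorem beta_OO2 (hβ : β ζ = ζ) {x : X} (hx : x ∈ OO2 ζ) : β x ∈ OO2 ζ := by
  have h1 := OO2_map (β : X ≃* X) hx
  change β x ∈ OO2 (β ζ) at h1
  rwa [hβ] at h1

/-- **`A ≤ O₂(C(ζ))`** -/
theorem Cfg4.le_OO2 [Finite X] (C : Cfg4 w β A) (hZ : center X = ⊥)
    (con : ∀ h, h * ζ = ζ * h → (∀ q ∈ OO2 ζ, h * q = q * h) → h ∈ OO2 ζ) (hβ : β ζ = ζ)
    (hζw : w * ζ = ζ * w) (hζA : ∀ a ∈ A, a * ζ = ζ * a) : A ≤ OO2 ζ := by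
  haveI : Fact (Nat.Prime 2) := ⟨Nat.prime_two⟩
  haveI : Finite (MulAut X) := inferInstance
  by_contra hcon
  have hA1 : ∀ a ∈ A, a ∈ OO2 ζ → a = 1 := by
    intro a ha haP
    by_contra hne
    exact hcon (C.le_of_mem (fun x hx => beta_OO2 hβ hx) ha hne haP)
  -- `β` is trivial on `C_P(w)`
  have h1 : ∀ x ∈ OO2 ζ, x * w = w * x → β x = x := by
    intro x hx hxw
    have h2 := C.two hZ (B := OO2 ζ ⊓ centralizer ({w} : Set X)) ((OO2_isPGroup ζ).to_le inf_le_left)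
      (fun b hb => mem_centralizer_singleton_iff.1 hb.2) ?_ ?_ x ⟨hx, mem_centralizer_singleton_iff.2 hxw⟩
    · have h3 := hA1 _ h2 (mul_mem (beta_OO2 hβ hx) (inv_mem hx))
      rwa [mul_inv_eq_one] at h3
    · rintro a ha b ⟨hb1, hb2⟩
      refine ⟨OO2_conj hb1 (hζA a ha), ?_⟩
      have hb3 : b ∈ centralizer ({w} : Set X) := hb2
      have h3 : a ∈ centralizer ({w} : Set X) := mem_centralizer_singleton_iff.2 (C.Aw a ha)
      have h4 : a * b * a⁻¹ ∈ centralizer ({w} : Set X) := mul_mem (mul_mem h3 hb3) (inv_mem h3)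
      exact h4
    · rintro b ⟨hb1, hb2⟩
      exact ⟨beta_OO2 hβ hb1, C.bC b hb2⟩
  -- the `A × B` lemma
  have hinj := conj_injective hZ
  have hPn : ∀ α : MulAut X, (∀ x ∈ OO2 ζ, α x ∈ OO2 ζ) →
      α ∈ normalizer (((OO2 ζ).map (MulAut.conj : X →* MulAut X) : Subgroup (MulAut X)) : Set (MulAut X)) := by
    intro α hα
    refine normalizer_of_forall ?_
    rintro _ ⟨x, hx, rfl⟩
    refine ⟨α x, hα x hx, ?_⟩
    rw [mul_conj', mul_inv_cancel_right]
  have key := Lib.ThompsonPQ.thompson_p_times_q (G := MulAut X) 2 (zpowers (MulAut.conj w)) (zpowers β)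
    ((OO2 ζ).map (MulAut.conj : X →* MulAut X)) ?_ ?_ ((OO2_isPGroup ζ).map _) ?_ ?_ ?_ ?_
  · have h2 : ∀ x ∈ OO2 ζ, β x = x := by
      intro x hx
      have h3 := mem_centralizer_iff.1 (key (mem_zpowers β)) (MulAut.conj x) ⟨x, hx, rfl⟩
      rw [mul_conj'] at h3
      exact (hinj (mul_right_cancel h3)).symm
    -- `β` is trivial on `A`
    have h4 : ∀ a ∈ A, β a = a := by
      intro a ha
      have h5 : β a * a⁻¹ ∈ OO2 ζ := by
        refine con _ ?_ ?_
        · have h6 := hζA _ (C.bA a ha)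
          have h7 := hζA _ (A.inv_mem ha)
          calc β a * a⁻¹ * ζ = β a * (a⁻¹ * ζ) := by group
            _ = (β a * ζ) * a⁻¹ := by rw [h7]; group
            _ = ζ * (β a * a⁻¹) := by rw [h6]; group
        · intro q hq
          have h6 : a⁻¹ * q * a ∈ OO2 ζ := by
            have := OO2_conj (h := a⁻¹) hq (hζA _ (A.inv_mem ha))
            rwa [inv_inv] at this
          have h7 := h2 _ h6
          rw [map_mul, map_mul, map_inv, h2 q hq] at h7
          calc β a * a⁻¹ * q = β a * (a⁻¹ * q * a) * a⁻¹ := by group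
            _ = β a * ((β a)⁻¹ * q * β a) * a⁻¹ := by rw [← h7]
            _ = q * (β a * a⁻¹) := by group
      have h6 := hA1 _ (A.mul_mem (C.bA a ha) (A.inv_mem ha)) h5
      rwa [mul_inv_eq_one] at h6
    have h5 : A = ⊥ := by
      rw [eq_bot_iff]
      intro a ha
      exact mem_bot.2 (C.bne a ha (h4 a ha))
    have h6 := C.A4
    rw [h5, card_bot] at h6
    omega
  · rintro ⟨x, k, rfl⟩
    refine ⟨1, Subtype.ext ?_⟩
    change (MulAut.conj w ^ k) ^ (2 ^ 1) = 1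
    rw [pow_one, ← zpow_natCast, ← zpow_mul, mul_comm, zpow_mul, zpow_natCast, pow_two, ← map_mul, C.ww, map_one,
      one_zpow]
  · rw [Nat.card_zpowers]
    have h2 : orderOf β ∣ 3 := orderOf_dvd_of_pow_eq_one (by rw [pow_succ, pow_two]; exact C.b3)
    exact Nat.Coprime.coprime_dvd_left h2 (by norm_num)
  · rw [zpowers_le, mem_centralizer_iff]
    rintro _ ⟨k, rfl⟩
    have h2 : Commute β (MulAut.conj w) := by
      change β * MulAut.conj w = MulAut.conj w * β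
      rw [mul_conj', C.bw]
    exact (h2.zpow_left k).eq
  · rw [zpowers_le]
    refine hPn _ fun x hx => ?_
    rw [MulAut.conj_apply]
    exact OO2_conj hx hζw
  · rw [zpowers_le]
    exact hPn _ fun x hx => beta_OO2 hβ hx
  · rintro _ ⟨⟨x, hx, rfl⟩, h2⟩
    have h3 := mem_centralizer_iff.1 h2 _ (mem_zpowers (MulAut.conj w))
    have h4 : x * w = w * x := by
      apply hinj
      rw [map_mul, map_mul]; exact h3.symm
    have h5 := h1 x hx h4
    rw [mem_centralizer_iff]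
    rintro _ ⟨k, rfl⟩
    have h6 : Commute β (MulAut.conj x) := by
      change β * MulAut.conj x = MulAut.conj x * β
      rw [mul_conj', h5]
    exact (h6.zpow_left k).eq

/-- the elementary abelian quotient `P / Z₁` -/
theorem exists_quo {P : Subgroup X} (hcen : ∀ x ∈ Z₁, ∀ p ∈ P, p * x = x * p)
    (hsq : ∀ p ∈ P, p * p ∈ Z₁) : ∃ (W : Type u) (_ : CommGroup W) (q : ↥P →* W), (∀ y : W, y * y = 1) ∧
      ∀ x : ↥P, q x = 1 ↔ (x : X) ∈ Z₁ := by
  have hn : (Z₁.subgroupOf P).Normal := by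
    refine ⟨fun n hn g => ?_⟩
    have h1 : (g : X) * n = n * g := hcen _ hn g g.2
    change (g : X) * n * (g : X)⁻¹ ∈ Z₁
    rw [h1, mul_inv_cancel_right]
    exact hn
  have h2 : ∀ y : ↥P ⧸ Z₁.subgroupOf P, y * y = 1 := by
    intro y
    obtain ⟨p, rfl⟩ := QuotientGroup.mk_surjective y
    rw [← QuotientGroup.mk_mul, QuotientGroup.eq_one_iff]
    exact hsq p p.2
  have hcomm : ∀ a b : ↥P ⧸ Z₁.subgroupOf P, a * b = b * a := by
    intro a b
    calc a * b = a * (a * b * (a * b)) * b := by rw [h2, mul_one]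
      _ = (a * a) * (b * a) * (b * b) := by group
      _ = b * a := by rw [h2, h2, one_mul, mul_one]
  refine ⟨↥P ⧸ Z₁.subgroupOf P, { (inferInstance : Group (↥P ⧸ Z₁.subgroupOf P)) with mul_comm := hcomm },
    QuotientGroup.mk' _, h2, fun x => ?_⟩
  exact QuotientGroup.eq_one_iff x

/-- **The final argument.** -/
theorem false_of_large [Finite X] (hZ : center X = ⊥) (h : Large4 ζ Z₁) (C : Cfg4 w β A)
    (hζw : w * ζ = ζ * w) (hζA : ∀ a ∈ A, a * ζ = ζ * a)
    {N : Type u} [Group N] [Finite N] {f : N →* X} (hf : Function.Surjective f) (hker : f.ker ≤ center N)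
    (hker2 : IsPGroup 2 ↥f.ker) (hN : commutator N = ⊤) {a b l : N} (ha : f a ∈ A) (hb : f b ∈ A) (hl : f l = w)
    (hal : a * l = l * a) (hbl : b * l = l * b) (hab : a * b ≠ b * a) : False := by
  have hβ : β ζ = ζ := C.beta_eq hZ (h.nc ζ h.mem h.z1) h.zz hζw hζA hf hker hker2 hN ha hb hal hbl hab
  have hAP : A ≤ OO2 ζ := C.le_OO2 hZ h.con hβ hζw hζA
  set P := OO2 ζ with hP
  have hZP : Z₁ ≤ P := h.le
  have hPc : ∀ x ∈ Z₁, ∀ p ∈ P, p * x = x * p := fun x hx p hp => h.cen x hx p (OO2_comm hp)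
  have hβP : ∀ x ∈ P, β x ∈ P := fun x hx => beta_OO2 hβ hx
  have hβZ : ∀ x ∈ Z₁, β x = x := h.fix β C.b3 hβ
  have hwP : ∀ x ∈ P, w * x * w⁻¹ ∈ P := fun x hx => OO2_conj hx hζw
  have hwZ : ∀ x ∈ Z₁, w * x = x * w := fun x hx => h.cen x hx w hζw
  have hw' : w⁻¹ = w := inv_eq_of_mul_eq_one_right C.ww
  obtain ⟨W, _, q, hW2, hq⟩ := exists_quo hPc h.sq
  have hWi : ∀ y : W, y⁻¹ = y := fun y => inv_eq_of_mul_eq_one_right (hW2 y)
  -- (i)
  have step1 : ∀ p ∈ P, p * w * p⁻¹ * w⁻¹ ∈ Z₁ → ∃ a ∈ A, β p * p⁻¹ * a⁻¹ ∈ Z₁ := by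
    intro p hp he
    set e := p * w * p⁻¹ * w⁻¹ with hedef
    have hee : e * e = 1 := h.ex e he
    have hei : e⁻¹ = e := inv_eq_of_mul_eq_one_right hee
    have hep : p * e = e * p := hPc e he p hp
    have hpw : p * w * p⁻¹ = e * w := by rw [hedef]; group
    have hcP : β p * p⁻¹ ∈ P := mul_mem (hβP p hp) (inv_mem hp)
    have hcw : β p * p⁻¹ * w = w * (β p * p⁻¹) := by
      have h1 : β p * w * (β p)⁻¹ = e * w := by
        have h2 := congrArg β hpw
        rwa [map_mul, map_mul, map_inv, map_mul, C.bw, hβZ e he] at h2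
      have h3 : p⁻¹ * w * p = e * w := by
        have h4 : w = p⁻¹ * (e * w) * p := by rw [← hpw]; group
        have h5 : p⁻¹ * e = e * p⁻¹ := by
          calc p⁻¹ * e = p⁻¹ * (e * p) * p⁻¹ := by group
            _ = p⁻¹ * (p * e) * p⁻¹ := by rw [hep]
            _ = e * p⁻¹ := by group
        have h6 : w = e * (p⁻¹ * w * p) := by
          calc w = p⁻¹ * (e * w) * p := h4
            _ = (p⁻¹ * e) * w * p := by group
            _ = e * (p⁻¹ * w * p) := by rw [h5]; group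
        calc p⁻¹ * w * p = (e * e) * (p⁻¹ * w * p) := by rw [hee, one_mul]
          _ = e * (e * (p⁻¹ * w * p)) := by group
          _ = e * w := by rw [← h6]
      have h4 : β p * p⁻¹ * w * (β p * p⁻¹)⁻¹ = w := by
        calc β p * p⁻¹ * w * (β p * p⁻¹)⁻¹ = β p * (p⁻¹ * w * p) * (β p)⁻¹ := by group
          _ = β p * (e * w) * (β p)⁻¹ := by rw [h3]
          _ = (β p * e) * w * (β p)⁻¹ := by group
          _ = (e * β p) * w * (β p)⁻¹ := by rw [hPc e he _ (hβP p hp)]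
          _ = e * (β p * w * (β p)⁻¹) := by group
          _ = w := by rw [h1, ← mul_assoc, hee, one_mul]
      exact mul_inv_eq_iff_eq_mul.1 h4
    have h5 := C.two hZ (B := P ⊓ centralizer ({w} : Set X)) ((OO2_isPGroup ζ).to_le inf_le_left)
      (fun b hb => mem_centralizer_singleton_iff.1 hb.2) ?_ ?_ _ ⟨hcP, mem_centralizer_singleton_iff.2 hcw⟩
    · refine ⟨_, C.bA _ h5, ?_⟩
      have hx := hp
      have hy := hβP p hp
      have ht := hβP _ hy
      have h6 : β p * p⁻¹ * (β (β (β p * p⁻¹) * (β p * p⁻¹)⁻¹))⁻¹ ∈ P :=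
        mul_mem hcP (inv_mem (hAP (C.bA _ h5)))
      have h7 : (⟨_, h6⟩ : ↥P) = (⟨β p, hy⟩ : ↥P) * (⟨p, hx⟩ : ↥P)⁻¹ *
          ((⟨p, hx⟩ : ↥P) * (⟨β (β p), ht⟩ : ↥P)⁻¹ * ⟨β p, hy⟩ * (⟨β (β p), ht⟩ : ↥P)⁻¹)⁻¹ := by
        apply Subtype.ext
        change β p * p⁻¹ * (β (β (β p * p⁻¹) * (β p * p⁻¹)⁻¹))⁻¹ =
          β p * p⁻¹ * (p * (β (β p))⁻¹ * β p * (β (β p))⁻¹)⁻¹
        congr 2
        simp only [map_mul, map_inv, C.beta3, mul_inv_rev, inv_inv]
        group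
      rw [← hq ⟨_, h6⟩, h7]
      simp only [map_mul, map_inv, hWi, mul_inv_rev]
      generalize q ⟨β p, hy⟩ = y
      generalize q ⟨p, hx⟩ = x
      generalize q ⟨β (β p), ht⟩ = t
      calc y * x * (t * (y * (t * x))) = (x * x) * (y * y) * (t * t) := by ac_rfl
        _ = 1 := by rw [hW2 x, hW2 y, hW2 t, one_mul, one_mul]
    · rintro a ha b ⟨hb1, hb2⟩
      refine ⟨OO2_conj hb1 (hζA a ha), ?_⟩
      have hb3 : b ∈ centralizer ({w} : Set X) := hb2
      have h3 : a ∈ centralizer ({w} : Set X) := mem_centralizer_singleton_iff.2 (C.Aw a ha)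
      have h4 : a * b * a⁻¹ ∈ centralizer ({w} : Set X) := mul_mem (mul_mem h3 hb3) (inv_mem h3)
      exact h4
    · rintro b ⟨hb1, hb2⟩
      exact ⟨hβP b hb1, C.bC b hb2⟩
  -- `AZ` is invariant under `β`
  have hAZ : ∀ x ∈ P, ∀ a ∈ A, β (β x) * a⁻¹ ∈ Z₁ → x * (β a)⁻¹ ∈ Z₁ := by
    intro x _ a _ h1
    have h2 := hβZ _ h1
    rw [map_mul, map_inv, C.beta3] at h2
    rw [h2]; exact h1
  have hcom : ∀ x ∈ P, ∀ y ∈ P, x * y * x⁻¹ * y⁻¹ ∈ Z₁ := by
    intro x hx y hy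
    have e : x * y * x⁻¹ * y⁻¹ = x * x * (x⁻¹ * y * (x⁻¹ * y)) * (y * y)⁻¹ := by group
    rw [e]
    exact mul_mem (mul_mem (h.sq x hx) (h.sq _ (mul_mem (inv_mem hx) hy))) (inv_mem (h.sq y hy))
  by_cases hcase : ∀ p ∈ P, ∃ a ∈ A, β p * p⁻¹ * a⁻¹ ∈ Z₁
  · -- (I): `A ≤ Z(P)`
    have hcA : ∀ p ∈ P, ∀ a ∈ A, a * p = p * a := by
      intro p hp
      obtain ⟨a1, ha1, hz1⟩ := hcase p hp
      have hk : ∀ a ∈ A, p * a * p⁻¹ * a⁻¹ ∈ Z₁ := fun a ha => hcom p hp a (hAP ha)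
      have hk1 : ∀ a ∈ A, p * a * p⁻¹ * a⁻¹ = p * β a * p⁻¹ * (β a)⁻¹ := by
        intro a ha
        have h1 := hβZ _ (hk a ha)
        rw [map_mul, map_mul, map_mul, map_inv, map_inv] at h1
        rw [← h1]
        set z := β p * p⁻¹ * a1⁻¹ with hz
        have h2 : β p = z * a1 * p := by rw [hz]; group
        have h3 : a1 * β a = β a * a1 := C.comm ha1 (C.bA a ha)
        have h4 := hPc z hz1 _ (hAP ha1)
        have h5 := hPc z hz1 _ (hAP (C.bA a ha))
        have h6 : ∀ y : X, y ∈ P → z * y * z⁻¹ = y := by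
          intro y hy
          rw [← hPc z hz1 y hy, mul_inv_cancel_right]
        have h7 := hPc _ (hk _ (C.bA a ha)) _ (hAP ha1)
        have h8 : z * (a1 * p * β a * p⁻¹ * a1⁻¹) * z⁻¹ = a1 * p * β a * p⁻¹ * a1⁻¹ := by
          apply h6
          exact mul_mem (mul_mem (mul_mem (mul_mem (hAP ha1) hp) (hAP (C.bA a ha))) (inv_mem hp))
            (inv_mem (hAP ha1))
        rw [h2]
        calc z * a1 * p * β a * (z * a1 * p)⁻¹ * (β a)⁻¹
            = z * (a1 * p * β a * p⁻¹ * a1⁻¹) * z⁻¹ * (β a)⁻¹ := by group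
          _ = a1 * p * β a * p⁻¹ * a1⁻¹ * (β a)⁻¹ := by rw [h8]
          _ = a1 * (p * β a * p⁻¹ * (β a)⁻¹) * (β a * a1⁻¹ * (β a)⁻¹) := by group
          _ = (p * β a * p⁻¹ * (β a)⁻¹) * a1 * (β a * a1⁻¹ * (β a)⁻¹) := by rw [h7]
          _ = (p * β a * p⁻¹ * (β a)⁻¹) * ((a1 * β a) * a1⁻¹) * (β a)⁻¹ := by group
          _ = p * β a * p⁻¹ * (β a)⁻¹ := by rw [h3]; group
      intro a ha
      set k := p * a * p⁻¹ * a⁻¹ with hkdef
      have hkZ : k ∈ Z₁ := hk a ha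
      have e1 : p * a * p⁻¹ = k * a := by rw [hkdef]; group
      have hk2 : k = p * β a * p⁻¹ * (β a)⁻¹ := hk1 a ha
      have hk3 : k = p * β (β a) * p⁻¹ * (β (β a))⁻¹ := hk2.trans (hk1 _ (C.bA a ha))
      have e2 : p * β a * p⁻¹ = k * β a := by
        rw [hk2]; group
      have e3 : p * β (β a) * p⁻¹ = k * β (β a) := by
        rw [hk3]; group
      have h1 := C.prod ha
      have h2 : p * (a * β a * β (β a)) * p⁻¹ = k * (a * β a * β (β a)) := by
        calc p * (a * β a * β (β a)) * p⁻¹ = (p * a * p⁻¹) * (p * β a * p⁻¹) * (p * β (β a) * p⁻¹) := by group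
          _ = (k * a) * (k * β a) * (k * β (β a)) := by rw [e1, e2, e3]
          _ = k * (a * k) * β a * k * β (β a) := by group
          _ = (k * k) * a * (β a * k) * β (β a) := by rw [hPc k hkZ a (hAP ha)]; group
          _ = (k * k) * (a * k) * β a * β (β a) := by rw [hPc k hkZ _ (hAP (C.bA a ha))]; group
          _ = (k * k) * k * (a * β a * β (β a)) := by rw [hPc k hkZ a (hAP ha)]; group
          _ = k * (a * β a * β (β a)) := by rw [h.ex k hkZ, one_mul]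
      rw [h1, mul_one, mul_one, mul_inv_cancel] at h2
      rw [← h2, one_mul] at e1
      exact (mul_inv_eq_iff_eq_mul.1 e1).symm
    obtain ⟨b, hb, hb1, hb2⟩ := h.four A hAP (fun b hb x hx => hcA x hx b hb) C.A4
    exact hb1 (C.bne b hb (hβZ b hb2))
  · -- (II)
    push Not at hcase
    obtain ⟨p, hp, hpA⟩ := hcase
    have hx := hp
    have hy := hβP p hp
    have ht := hβP _ hy
    set X0 : ↥P := ⟨p, hx⟩ with hX0
    set Y0 : ↥P := ⟨β p, hy⟩ with hY0
    set T0 : ↥P := ⟨β (β p), ht⟩ with hT0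
    set X1 : ↥P := ⟨w * p * w⁻¹, hwP _ hx⟩ with hX1
    set Y1 : ↥P := ⟨w * β p * w⁻¹, hwP _ hy⟩ with hY1
    set T1 : ↥P := ⟨w * β (β p) * w⁻¹, hwP _ ht⟩ with hT1
    set u := β p * p⁻¹ with hu
    have huP : u ∈ P := mul_mem hy (inv_mem hx)
    set e := u * w * u⁻¹ * w⁻¹ with he
    have heP : e ∈ P := by
      have e1 : e = u * (w * u⁻¹ * w⁻¹) := by rw [he]; group
      rw [e1]
      exact mul_mem huP (hwP _ (inv_mem huP))
    -- `e ∉ Z₁`
    have he1 : e ∉ Z₁ := by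
      intro h1
      obtain ⟨a, ha, h2⟩ := step1 u huP h1
      have h3 : β (β u) * a⁻¹ ∈ Z₁ := by
        have h4 : β (β u) * (β u * u⁻¹)⁻¹ ∈ Z₁ := by
          have h5 : β (β u) * (β u * u⁻¹)⁻¹ ∈ P :=
            mul_mem (hβP _ (hβP _ huP)) (inv_mem (mul_mem (hβP _ huP) (inv_mem huP)))
          have h7 : (⟨_, h5⟩ : ↥P) = (X0 * T0⁻¹) * ((T0 * Y0⁻¹) * (Y0 * X0⁻¹)⁻¹)⁻¹ := by
            apply Subtype.ext
            change β (β u) * (β u * u⁻¹)⁻¹ =
              (p * (β (β p))⁻¹) * ((β (β p) * (β p)⁻¹) * (β p * p⁻¹)⁻¹)⁻¹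
            rw [hu]
            simp only [map_mul, map_inv, C.beta3]
          rw [← hq ⟨_, h5⟩, h7]
          simp only [map_mul, map_inv, hWi, mul_inv_rev]
          generalize q X0 = x
          generalize q Y0 = y
          generalize q T0 = t
          calc x * t * (y * x * (y * t)) = (x * x) * (y * y) * (t * t) := by ac_rfl
            _ = 1 := by rw [hW2 x, hW2 y, hW2 t, one_mul, one_mul]
        have h5 : β (β u) * a⁻¹ = (β (β u) * (β u * u⁻¹)⁻¹) * (β u * u⁻¹ * a⁻¹) := by group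
        rw [h5]
        exact mul_mem h4 h2
      exact hpA _ (C.bA a ha) (hAZ u huP a ha h3)
    -- `e ∈ A Z₁`
    obtain ⟨a₂, ha₂, h2⟩ := step1 e heP (by
      have e1 : w * e⁻¹ * w⁻¹ = e := by
        rw [he]
        calc w * (u * w * u⁻¹ * w⁻¹)⁻¹ * w⁻¹ = (w * w) * u * (w⁻¹) * u⁻¹ * w⁻¹ := by group
          _ = u * w * u⁻¹ * w⁻¹ := by rw [C.ww, one_mul, hw']
      have e2 : e * w * e⁻¹ * w⁻¹ = e * (w * e⁻¹ * w⁻¹) := by group
      rw [e2, e1]
      exact h.sq e heP)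
    have h3 : β (β e) * a₂⁻¹ ∈ Z₁ := by
      have h4 : β (β e) * (β e * e⁻¹)⁻¹ ∈ Z₁ := by
        have h5 : β (β e) * (β e * e⁻¹)⁻¹ ∈ P :=
          mul_mem (hβP _ (hβP _ heP)) (inv_mem (mul_mem (hβP _ heP) (inv_mem heP)))
        have h7 : (⟨_, h5⟩ : ↥P) = ((X0 * T0⁻¹) * (T1 * X1⁻¹)) *
            (((T0 * Y0⁻¹) * (Y1 * T1⁻¹)) * ((Y0 * X0⁻¹) * (X1 * Y1⁻¹))⁻¹)⁻¹ := by
          apply Subtype.ext
          change β (β e) * (β e * e⁻¹)⁻¹ =
            ((p * (β (β p))⁻¹) * ((w * β (β p) * w⁻¹) * (w * p * w⁻¹)⁻¹)) *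
            (((β (β p) * (β p)⁻¹) * ((w * β p * w⁻¹) * (w * β (β p) * w⁻¹)⁻¹)) *
              ((β p * p⁻¹) * ((w * p * w⁻¹) * (w * β p * w⁻¹)⁻¹))⁻¹)⁻¹
          rw [he, hu]
          simp only [map_mul, map_inv, C.beta3, C.bw]
          group
        rw [← hq ⟨_, h5⟩, h7]
        simp only [map_mul, map_inv, hWi, mul_inv_rev]
        generalize q X0 = x
        generalize q Y0 = y
        generalize q T0 = t
        generalize q X1 = x'
        generalize q Y1 = y'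
        generalize q T1 = t'
        calc x * t * (t' * x') * (y * x * (x' * y') * (t' * y' * (y * t)))
            = (x * x) * (y * y) * (t * t) * (x' * x') * (y' * y') * (t' * t') := by ac_rfl
          _ = 1 := by rw [hW2 x, hW2 y, hW2 t, hW2 x', hW2 y', hW2 t']; simp
      have h5 : β (β e) * a₂⁻¹ = (β (β e) * (β e * e⁻¹)⁻¹) * (β e * e⁻¹ * a₂⁻¹) := by group
      rw [h5]
      exact mul_mem h4 h2
    have h4 := hAZ e heP a₂ ha₂ h3
    have ha0 : β a₂ ∈ A := C.bA a₂ ha₂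
    have ha01 : β a₂ ≠ 1 := by
      intro h5
      rw [h5, inv_one, mul_one] at h4
      exact he1 h4
    obtain ⟨a', b', f1, hb', ca, cb, hne⟩ := lift_A C.A4 C.A2 hker ha hb hal hbl hab ha0 ha01
    obtain ⟨n, hn⟩ := hf u
    -- the elements over `Z₁` commute with the elements over `C(ζ)`
    have hzc : ∀ m g : N, f m ∈ Z₁ → f g * ζ = ζ * f g → m * g = g * m := by
      intro m g hm hg
      by_cases hm1 : f m = 1
      · exact (mem_center_iff.1 (hker hm1) g).symm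
      · exact comm_of_nc (h.nc _ hm hm1) (h.ex _ hm) hf hker hker2 hN rfl (h.cen _ hm _ hg)
    set c := n * l * n⁻¹ * l⁻¹ with hc
    have hfc : f c = e := by
      rw [hc, map_mul, map_mul, map_mul, map_inv, map_inv, hn, hl]
    set m := a'⁻¹ * c with hm
    have hfm : f m ∈ Z₁ := by
      rw [hm, map_mul, map_inv, f1, hfc]
      have e1 : (β a₂)⁻¹ * e = (β a₂)⁻¹ * ((e * (β a₂)⁻¹) * β a₂) := by group
      rw [e1, ← hPc _ h4 _ (hAP ha0), inv_mul_cancel_left]
      exact h4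
    have hcm : n * l * n⁻¹ = a' * m * l := by rw [hm, hc]; group
    set κ := b' * n * b'⁻¹ * n⁻¹ with hκ
    have hfκ : f κ ∈ Z₁ := by
      rw [hκ, map_mul, map_mul, map_mul, map_inv, map_inv, hn]
      exact hcom _ (hAP hb') _ huP
    have huζ : u * ζ = ζ * u := OO2_comm huP
    have hκc : κ * (n * l * n⁻¹) = (n * l * n⁻¹) * κ := by
      refine hzc _ _ hfκ ?_
      rw [map_mul, map_mul, map_inv, hn, hl]
      calc u * w * u⁻¹ * ζ = u * w * u⁻¹ * (ζ * u) * u⁻¹ := by group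
        _ = u * (w * ζ) * u⁻¹ := by rw [← huζ]; group
        _ = (u * ζ) * w * u⁻¹ := by rw [hζw]; group
        _ = ζ * (u * w * u⁻¹) := by rw [huζ]; group
    have hmb : m * b' = b' * m := hzc _ _ hfm (hζA _ hb').symm.symm
    apply hne
    have e1 : b' * (n * l * n⁻¹) * b'⁻¹ = n * l * n⁻¹ := by
      calc b' * (n * l * n⁻¹) * b'⁻¹ = (b' * n * b'⁻¹ * n⁻¹) * n * (b' * l) * b'⁻¹ * n⁻¹ *
            (b' * n * b'⁻¹ * n⁻¹)⁻¹ := by group
        _ = κ * n * (l * b') * b'⁻¹ * n⁻¹ * κ⁻¹ := by rw [← hκ, cb]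
        _ = κ * (n * l * n⁻¹) * κ⁻¹ := by group
        _ = n * l * n⁻¹ := by rw [hκc]; group
    have e2 : b' * (a' * m * l) * b'⁻¹ = (b' * a' * b'⁻¹) * m * l := by
      calc b' * (a' * m * l) * b'⁻¹ = b' * a' * m * (b'⁻¹ * (b' * l)) * b'⁻¹ := by group
        _ = b' * a' * m * (b'⁻¹ * (l * b')) * b'⁻¹ := by rw [cb]
        _ = b' * a' * b'⁻¹ * (b' * m) * b'⁻¹ * l := by group
        _ = b' * a' * b'⁻¹ * (m * b') * b'⁻¹ * l := by rw [hmb]
        _ = (b' * a' * b'⁻¹) * m * l := by group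
    rw [hcm, e2] at e1
    have e3 : b' * a' * b'⁻¹ = a' := mul_right_cancel (mul_right_cancel e1)
    exact (mul_inv_eq_iff_eq_mul.1 e3).symm

open scoped Pointwise in
/-- **The row from one 2-central involution.** -/
theorem row4_of_large [Finite X] (hZ : center X = ⊥) (h : Large4 ζ Z₁) : Row4 X := by
  intro w β A C N _ _ f hf hker hker2 hN a b l ha hb hl hal hbl hk ho
  haveI : Fact (Nat.Prime 2) := ⟨Nat.prime_two⟩
  have hab : a * b ≠ b * a := by
    intro h1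
    have h2 : a * b * a⁻¹ * b⁻¹ = 1 := by rw [h1]; group
    rw [h2, orderOf_one] at ho
    omega
  obtain ⟨S, hS⟩ := h.syl
  -- the 2-group `⟨A, w⟩`
  have hle : zpowers w ≤ normalizer (A : Set X) := by
    rw [zpowers_le]
    refine normalizer_of_forall fun a ha => ?_
    rw [← C.Aw a ha, mul_inv_cancel_right]
    exact ha
  have hA2 : IsPGroup 2 ↥A := IsPGroup.of_card (n := 2) (by rw [C.A4]; norm_num)
  have hw2 : IsPGroup 2 ↥(zpowers w) := by
    rintro ⟨x, k, rfl⟩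
    refine ⟨1, Subtype.ext ?_⟩
    change (w ^ k) ^ (2 ^ 1) = 1
    rw [pow_one, ← zpow_natCast, ← zpow_mul, mul_comm, zpow_mul, zpow_natCast, pow_two, C.ww, one_zpow]
  have hAw : IsPGroup 2 ↥(A ⊔ zpowers w) := hA2.to_sup_of_normal_left' hw2 hle
  obtain ⟨T, hT⟩ := hAw.exists_le_sylow
  obtain ⟨g, hg⟩ := MulAction.exists_smul_eq X S T
  have hζ : ∀ x ∈ T, x * (g * ζ * g⁻¹) = (g * ζ * g⁻¹) * x := by
    intro x hx
    rw [← hg] at hx
    have hx' : g⁻¹ * x * g ∈ S := by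
      have h1 := Subgroup.mem_smul_pointwise_iff_exists x (MulAut.conj g) (S : Subgroup X)
      have h2 : x ∈ MulAut.conj g • (S : Subgroup X) := hx
      obtain ⟨s, hs, h3⟩ := h1.1 h2
      rw [MulAut.smul_def, MulAut.conj_apply] at h3
      rw [← h3]
      have h4 : g⁻¹ * (g * s * g⁻¹) * g = s := by group
      rw [h4]; exact hs
    have h1 := hS _ hx'
    calc x * (g * ζ * g⁻¹) = g * ((g⁻¹ * x * g) * ζ) * g⁻¹ := by group
      _ = g * (ζ * (g⁻¹ * x * g)) * g⁻¹ := by rw [h1]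
      _ = (g * ζ * g⁻¹) * x := by group
  have hL := h.map (MulAut.conj g : X ≃* X)
  exact false_of_large (ζ := g * ζ * g⁻¹) hZ hL C (hζ w (hT (mem_sup_right (mem_zpowers w))))
    (fun a ha => hζ a (hT (mem_sup_left ha))) hf hker hker2 hN ha hb hl hal hbl hab

end Main

end Cfsg.Agent.OddHalf.NI3.Ex4
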