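import Cfsg.Agent.OddHalf.NI3.Ex4.Large

/-!
# (EX4): the final argument for a normal 2-subgroup `P` of `C(ζ)` (helper967)

The same as `false_of_large` for a normal 2-subgroup `P` of `C(ζ)` instead of `O₂(C(ζ))`; `A ≤ P` and `β(P) = P` are
hypotheses here. (For `Fi22`: `P = O₂(C(d, d'))`, `ζ = d d'`.)
-/

set_option autoImplicit false
set_option linter.style.haveILetI false

namespace Cfsg.Agent.OddHalf.NI3.Ex4

open Subgroup Cfsg
open Cfsg.Agent.OddHalf.NI.Ex.Lemma (NoComm)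

universe u

/-- the hypotheses on `ζ`, `P` -/
structure LargeP {X : Type u} [Group X] (ζ : X) (Z₁ P : Subgroup X) : Prop where
  zz : ζ * ζ = 1
  z1 : ζ ≠ 1
  P2 : IsPGroup 2 ↥P
  Pc : ∀ x ∈ P, x * ζ = ζ * x
  Pn : ∀ x ∈ P, ∀ h, h * ζ = ζ * h → h * x * h⁻¹ ∈ P
  le : Z₁ ≤ P
  ex : ∀ x ∈ Z₁, x * x = 1
  cen : ∀ x ∈ Z₁, ∀ h, h * ζ = ζ * h → h * x = x * h
  sq : ∀ x ∈ P, x * x ∈ Z₁
  nc : ∀ x ∈ Z₁, x ≠ 1 → NoComm x
  four : ∀ B ≤ P, (∀ b ∈ B, ∀ x ∈ P, b * x = x * b) → Nat.card B = 4 → ∃ b ∈ B, b ≠ 1 ∧ b ∈ Z₁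

section Main

variable {X : Type u} [Group X] {w ζ : X} {β : MulAut X} {A Z₁ : Subgroup X}

/-- **The final argument.** -/
theorem false_of_largeP [Finite X] (hZ : center X = ⊥) {P : Subgroup X} (h : LargeP ζ Z₁ P) (C : Cfg4 w β A)
    (hζw : w * ζ = ζ * w) (hζA : ∀ a ∈ A, a * ζ = ζ * a) (hAP : A ≤ P) (hβP : ∀ x ∈ P, β x ∈ P)
    (hβZ : ∀ x ∈ Z₁, β x = x)
    {N : Type u} [Group N] [Finite N] {f : N →* X} (hf : Function.Surjective f) (hker : f.ker ≤ center N)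
    (hker2 : IsPGroup 2 ↥f.ker) (hN : commutator N = ⊤) {a b l : N} (ha : f a ∈ A) (hb : f b ∈ A) (hl : f l = w)
    (hal : a * l = l * a) (hbl : b * l = l * b) (hab : a * b ≠ b * a) : False := by
  have hZP : Z₁ ≤ P := h.le
  have hPc : ∀ x ∈ Z₁, ∀ p ∈ P, p * x = x * p := fun x hx p hp => h.cen x hx p (h.Pc p hp)
  have hwP : ∀ x ∈ P, w * x * w⁻¹ ∈ P := fun x hx => h.Pn x hx w hζw
  have hwZ : ∀ x ∈ Z₁, w * x = x * w := fun x hx => h.cen x hx w hζw
  have hw' : w⁻¹ = w := inv_eq_of_mul_eq_one_right C.ww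
  obtain ⟨W, _, q, hW2, hq⟩ := exists_quo hPc h.sq
  have hWi : ∀ y : W, y⁻¹ = y := fun y => inv_eq_of_mul_eq_one_right (hW2 y)
  -- (i)
  have step1 : ∀ p ∈ P, p * w * p⁻¹ * w⁻¹ ∈ Z₁ → ∃ a ∈ A, β p * p⁻¹ * a⁻¹ ∈ Z₁ := by
    intro p hp he
    set e := p * w * p⁻¹ * w⁻¹ with hedef
    have hee : e * e = 1 := h.ex e he
    have hei : e⁻¹ = e := inv_eq_of_mul_eq_one_right hee
    have hep : p * e = e * p := hPc e he p hp
    have hpw : p * w * p⁻¹ = e * w := by rw [hedef]; group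
    have hcP : β p * p⁻¹ ∈ P := mul_mem (hβP p hp) (inv_mem hp)
    have hcw : β p * p⁻¹ * w = w * (β p * p⁻¹) := by
      have h1 : β p * w * (β p)⁻¹ = e * w := by
        have h2 := congrArg β hpw
        rwa [map_mul, map_mul, map_inv, map_mul, C.bw, hβZ e he] at h2
      have h3 : p⁻¹ * w * p = e * w := by
        have h4 : w = p⁻¹ * (e * w) * p := by rw [← hpw]; group
        have h5 : p⁻¹ * e = e * p⁻¹ := by
          calc p⁻¹ * e = p⁻¹ * (e * p) * p⁻¹ := by group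
            _ = p⁻¹ * (p * e) * p⁻¹ := by rw [hep]
            _ = e * p⁻¹ := by group
        have h6 : w = e * (p⁻¹ * w * p) := by
          calc w = p⁻¹ * (e * w) * p := h4
            _ = (p⁻¹ * e) * w * p := by group
            _ = e * (p⁻¹ * w * p) := by rw [h5]; group
        calc p⁻¹ * w * p = (e * e) * (p⁻¹ * w * p) := by rw [hee, one_mul]
          _ = e * (e * (p⁻¹ * w * p)) := by group
          _ = e * w := by rw [← h6]
      have h4 : β p * p⁻¹ * w * (β p * p⁻¹)⁻¹ = w := by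
        calc β p * p⁻¹ * w * (β p * p⁻¹)⁻¹ = β p * (p⁻¹ * w * p) * (β p)⁻¹ := by group
          _ = β p * (e * w) * (β p)⁻¹ := by rw [h3]
          _ = (β p * e) * w * (β p)⁻¹ := by group
          _ = (e * β p) * w * (β p)⁻¹ := by rw [hPc e he _ (hβP p hp)]
          _ = e * (β p * w * (β p)⁻¹) := by group
          _ = w := by rw [h1, ← mul_assoc, hee, one_mul]
      exact mul_inv_eq_iff_eq_mul.1 h4
    have h5 := C.two hZ (B := P ⊓ centralizer ({w} : Set X)) (h.P2.to_le inf_le_left)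
      (fun b hb => mem_centralizer_singleton_iff.1 hb.2) ?_ ?_ _ ⟨hcP, mem_centralizer_singleton_iff.2 hcw⟩
    · refine ⟨_, C.bA _ h5, ?_⟩
      have hx := hp
      have hy := hβP p hp
      have ht := hβP _ hy
      have h6 : β p * p⁻¹ * (β (β (β p * p⁻¹) * (β p * p⁻¹)⁻¹))⁻¹ ∈ P :=
        mul_mem hcP (inv_mem (hAP (C.bA _ h5)))
      have h7 : (⟨_, h6⟩ : ↥P) = (⟨β p, hy⟩ : ↥P) * (⟨p, hx⟩ : ↥P)⁻¹ *
          ((⟨p, hx⟩ : ↥P) * (⟨β (β p), ht⟩ : ↥P)⁻¹ * ⟨β p, hy⟩ * (⟨β (β p), ht⟩ : ↥P)⁻¹)⁻¹ := by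
        apply Subtype.ext
        change β p * p⁻¹ * (β (β (β p * p⁻¹) * (β p * p⁻¹)⁻¹))⁻¹ =
          β p * p⁻¹ * (p * (β (β p))⁻¹ * β p * (β (β p))⁻¹)⁻¹
        congr 2
        simp only [map_mul, map_inv, C.beta3, mul_inv_rev, inv_inv]
        group
      rw [← hq ⟨_, h6⟩, h7]
      simp only [map_mul, map_inv, hWi, mul_inv_rev]
      generalize q ⟨β p, hy⟩ = y
      generalize q ⟨p, hx⟩ = x
      generalize q ⟨β (β p), ht⟩ = t
      calc y * x * (t * (y * (t * x))) = (x * x) * (y * y) * (t * t) := by ac_rfl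
        _ = 1 := by rw [hW2 x, hW2 y, hW2 t, one_mul, one_mul]
    · rintro a ha b ⟨hb1, hb2⟩
      refine ⟨h.Pn b hb1 a (hζA a ha), ?_⟩
      have hb3 : b ∈ centralizer ({w} : Set X) := hb2
      have h3 : a ∈ centralizer ({w} : Set X) := mem_centralizer_singleton_iff.2 (C.Aw a ha)
      have h4 : a * b * a⁻¹ ∈ centralizer ({w} : Set X) := mul_mem (mul_mem h3 hb3) (inv_mem h3)
      exact h4
    · rintro b ⟨hb1, hb2⟩
      exact ⟨hβP b hb1, C.bC b hb2⟩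
  -- `AZ` is invariant under `β`
  have hAZ : ∀ x ∈ P, ∀ a ∈ A, β (β x) * a⁻¹ ∈ Z₁ → x * (β a)⁻¹ ∈ Z₁ := by
    intro x _ a _ h1
    have h2 := hβZ _ h1
    rw [map_mul, map_inv, C.beta3] at h2
    rw [h2]; exact h1
  have hcom : ∀ x ∈ P, ∀ y ∈ P, x * y * x⁻¹ * y⁻¹ ∈ Z₁ := by
    intro x hx y hy
    have e : x * y * x⁻¹ * y⁻¹ = x * x * (x⁻¹ * y * (x⁻¹ * y)) * (y * y)⁻¹ := by group
    rw [e]
    exact mul_mem (mul_mem (h.sq x hx) (h.sq _ (mul_mem (inv_mem hx) hy))) (inv_mem (h.sq y hy))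
  by_cases hcase : ∀ p ∈ P, ∃ a ∈ A, β p * p⁻¹ * a⁻¹ ∈ Z₁
  · -- (I): `A ≤ Z(P)`
    have hcA : ∀ p ∈ P, ∀ a ∈ A, a * p = p * a := by
      intro p hp
      obtain ⟨a1, ha1, hz1⟩ := hcase p hp
      have hk : ∀ a ∈ A, p * a * p⁻¹ * a⁻¹ ∈ Z₁ := fun a ha => hcom p hp a (hAP ha)
      have hk1 : ∀ a ∈ A, p * a * p⁻¹ * a⁻¹ = p * β a * p⁻¹ * (β a)⁻¹ := by
        intro a ha
        have h1 := hβZ _ (hk a ha)
        rw [map_mul, map_mul, map_mul, map_inv, map_inv] at h1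
        rw [← h1]
        set z := β p * p⁻¹ * a1⁻¹ with hz
        have h2 : β p = z * a1 * p := by rw [hz]; group
        have h3 : a1 * β a = β a * a1 := C.comm ha1 (C.bA a ha)
        have h4 := hPc z hz1 _ (hAP ha1)
        have h5 := hPc z hz1 _ (hAP (C.bA a ha))
        have h6 : ∀ y : X, y ∈ P → z * y * z⁻¹ = y := by
          intro y hy
          rw [← hPc z hz1 y hy, mul_inv_cancel_right]
        have h7 := hPc _ (hk _ (C.bA a ha)) _ (hAP ha1)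
        have h8 : z * (a1 * p * β a * p⁻¹ * a1⁻¹) * z⁻¹ = a1 * p * β a * p⁻¹ * a1⁻¹ := by
          apply h6
          exact mul_mem (mul_mem (mul_mem (mul_mem (hAP ha1) hp) (hAP (C.bA a ha))) (inv_mem hp))
            (inv_mem (hAP ha1))
        rw [h2]
        calc z * a1 * p * β a * (z * a1 * p)⁻¹ * (β a)⁻¹
            = z * (a1 * p * β a * p⁻¹ * a1⁻¹) * z⁻¹ * (β a)⁻¹ := by group
          _ = a1 * p * β a * p⁻¹ * a1⁻¹ * (β a)⁻¹ := by rw [h8]
          _ = a1 * (p * β a * p⁻¹ * (β a)⁻¹) * (β a * a1⁻¹ * (β a)⁻¹) := by group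
          _ = (p * β a * p⁻¹ * (β a)⁻¹) * a1 * (β a * a1⁻¹ * (β a)⁻¹) := by rw [h7]
          _ = (p * β a * p⁻¹ * (β a)⁻¹) * ((a1 * β a) * a1⁻¹) * (β a)⁻¹ := by group
          _ = p * β a * p⁻¹ * (β a)⁻¹ := by rw [h3]; group
      intro a ha
      set k := p * a * p⁻¹ * a⁻¹ with hkdef
      have hkZ : k ∈ Z₁ := hk a ha
      have e1 : p * a * p⁻¹ = k * a := by rw [hkdef]; group
      have hk2 : k = p * β a * p⁻¹ * (β a)⁻¹ := hk1 a ha
      have hk3 : k = p * β (β a) * p⁻¹ * (β (β a))⁻¹ := hk2.trans (hk1 _ (C.bA a ha))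
      have e2 : p * β a * p⁻¹ = k * β a := by
        rw [hk2]; group
      have e3 : p * β (β a) * p⁻¹ = k * β (β a) := by
        rw [hk3]; group
      have h1 := C.prod ha
      have h2 : p * (a * β a * β (β a)) * p⁻¹ = k * (a * β a * β (β a)) := by
        calc p * (a * β a * β (β a)) * p⁻¹ = (p * a * p⁻¹) * (p * β a * p⁻¹) * (p * β (β a) * p⁻¹) := by group
          _ = (k * a) * (k * β a) * (k * β (β a)) := by rw [e1, e2, e3]
          _ = k * (a * k) * β a * k * β (β a) := by group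
          _ = (k * k) * a * (β a * k) * β (β a) := by rw [hPc k hkZ a (hAP ha)]; group
          _ = (k * k) * (a * k) * β a * β (β a) := by rw [hPc k hkZ _ (hAP (C.bA a ha))]; group
          _ = (k * k) * k * (a * β a * β (β a)) := by rw [hPc k hkZ a (hAP ha)]; group
          _ = k * (a * β a * β (β a)) := by rw [h.ex k hkZ, one_mul]
      rw [h1, mul_one, mul_one, mul_inv_cancel] at h2
      rw [← h2, one_mul] at e1
      exact (mul_inv_eq_iff_eq_mul.1 e1).symm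
    obtain ⟨b, hb, hb1, hb2⟩ := h.four A hAP (fun b hb x hx => hcA x hx b hb) C.A4
    exact hb1 (C.bne b hb (hβZ b hb2))
  · -- (II)
    push Not at hcase
    obtain ⟨p, hp, hpA⟩ := hcase
    have hx := hp
    have hy := hβP p hp
    have ht := hβP _ hy
    set X0 : ↥P := ⟨p, hx⟩ with hX0
    set Y0 : ↥P := ⟨β p, hy⟩ with hY0
    set T0 : ↥P := ⟨β (β p), ht⟩ with hT0
    set X1 : ↥P := ⟨w * p * w⁻¹, hwP _ hx⟩ with hX1
    set Y1 : ↥P := ⟨w * β p * w⁻¹, hwP _ hy⟩ with hY1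
    set T1 : ↥P := ⟨w * β (β p) * w⁻¹, hwP _ ht⟩ with hT1
    set u := β p * p⁻¹ with hu
    have huP : u ∈ P := mul_mem hy (inv_mem hx)
    set e := u * w * u⁻¹ * w⁻¹ with he
    have heP : e ∈ P := by
      have e1 : e = u * (w * u⁻¹ * w⁻¹) := by rw [he]; group
      rw [e1]
      exact mul_mem huP (hwP _ (inv_mem huP))
    -- `e ∉ Z₁`
    have he1 : e ∉ Z₁ := by
      intro h1
      obtain ⟨a, ha, h2⟩ := step1 u huP h1
      have h3 : β (β u) * a⁻¹ ∈ Z₁ := by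
        have h4 : β (β u) * (β u * u⁻¹)⁻¹ ∈ Z₁ := by
          have h5 : β (β u) * (β u * u⁻¹)⁻¹ ∈ P :=
            mul_mem (hβP _ (hβP _ huP)) (inv_mem (mul_mem (hβP _ huP) (inv_mem huP)))
          have h7 : (⟨_, h5⟩ : ↥P) = (X0 * T0⁻¹) * ((T0 * Y0⁻¹) * (Y0 * X0⁻¹)⁻¹)⁻¹ := by
            apply Subtype.ext
            change β (β u) * (β u * u⁻¹)⁻¹ =
              (p * (β (β p))⁻¹) * ((β (β p) * (β p)⁻¹) * (β p * p⁻¹)⁻¹)⁻¹
            rw [hu]
            simp only [map_mul, map_inv, C.beta3]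
          rw [← hq ⟨_, h5⟩, h7]
          simp only [map_mul, map_inv, hWi, mul_inv_rev]
          generalize q X0 = x
          generalize q Y0 = y
          generalize q T0 = t
          calc x * t * (y * x * (y * t)) = (x * x) * (y * y) * (t * t) := by ac_rfl
            _ = 1 := by rw [hW2 x, hW2 y, hW2 t, one_mul, one_mul]
        have h5 : β (β u) * a⁻¹ = (β (β u) * (β u * u⁻¹)⁻¹) * (β u * u⁻¹ * a⁻¹) := by group
        rw [h5]
        exact mul_mem h4 h2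
      exact hpA _ (C.bA a ha) (hAZ u huP a ha h3)
    -- `e ∈ A Z₁`
    obtain ⟨a₂, ha₂, h2⟩ := step1 e heP (by
      have e1 : w * e⁻¹ * w⁻¹ = e := by
        rw [he]
        calc w * (u * w * u⁻¹ * w⁻¹)⁻¹ * w⁻¹ = (w * w) * u * (w⁻¹) * u⁻¹ * w⁻¹ := by group
          _ = u * w * u⁻¹ * w⁻¹ := by rw [C.ww, one_mul, hw']
      have e2 : e * w * e⁻¹ * w⁻¹ = e * (w * e⁻¹ * w⁻¹) := by group
      rw [e2, e1]
      exact h.sq e heP)
    have h3 : β (β e) * a₂⁻¹ ∈ Z₁ := by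
      have h4 : β (β e) * (β e * e⁻¹)⁻¹ ∈ Z₁ := by
        have h5 : β (β e) * (β e * e⁻¹)⁻¹ ∈ P :=
          mul_mem (hβP _ (hβP _ heP)) (inv_mem (mul_mem (hβP _ heP) (inv_mem heP)))
        have h7 : (⟨_, h5⟩ : ↥P) = ((X0 * T0⁻¹) * (T1 * X1⁻¹)) *
            (((T0 * Y0⁻¹) * (Y1 * T1⁻¹)) * ((Y0 * X0⁻¹) * (X1 * Y1⁻¹))⁻¹)⁻¹ := by
          apply Subtype.ext
          change β (β e) * (β e * e⁻¹)⁻¹ =
            ((p * (β (β p))⁻¹) * ((w * β (β p) * w⁻¹) * (w * p * w⁻¹)⁻¹)) *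
            (((β (β p) * (β p)⁻¹) * ((w * β p * w⁻¹) * (w * β (β p) * w⁻¹)⁻¹)) *
              ((β p * p⁻¹) * ((w * p * w⁻¹) * (w * β p * w⁻¹)⁻¹))⁻¹)⁻¹
          rw [he, hu]
          simp only [map_mul, map_inv, C.beta3, C.bw]
          group
        rw [← hq ⟨_, h5⟩, h7]
        simp only [map_mul, map_inv, hWi, mul_inv_rev]
        generalize q X0 = x
        generalize q Y0 = y
        generalize q T0 = t
        generalize q X1 = x'
        generalize q Y1 = y'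
        generalize q T1 = t'
        calc x * t * (t' * x') * (y * x * (x' * y') * (t' * y' * (y * t)))
            = (x * x) * (y * y) * (t * t) * (x' * x') * (y' * y') * (t' * t') := by ac_rfl
          _ = 1 := by rw [hW2 x, hW2 y, hW2 t, hW2 x', hW2 y', hW2 t']; simp
      have h5 : β (β e) * a₂⁻¹ = (β (β e) * (β e * e⁻¹)⁻¹) * (β e * e⁻¹ * a₂⁻¹) := by group
      rw [h5]
      exact mul_mem h4 h2
    have h4 := hAZ e heP a₂ ha₂ h3
    have ha0 : β a₂ ∈ A := C.bA a₂ ha₂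
    have ha01 : β a₂ ≠ 1 := by
      intro h5
      rw [h5, inv_one, mul_one] at h4
      exact he1 h4
    obtain ⟨a', b', f1, hb', ca, cb, hne⟩ := lift_A C.A4 C.A2 hker ha hb hal hbl hab ha0 ha01
    obtain ⟨n, hn⟩ := hf u
    -- the elements over `Z₁` commute with the elements over `C(ζ)`
    have hzc : ∀ m g : N, f m ∈ Z₁ → f g * ζ = ζ * f g → m * g = g * m := by
      intro m g hm hg
      by_cases hm1 : f m = 1
      · exact (mem_center_iff.1 (hker hm1) g).symm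
      · exact comm_of_nc (h.nc _ hm hm1) (h.ex _ hm) hf hker hker2 hN rfl (h.cen _ hm _ hg)
    set c := n * l * n⁻¹ * l⁻¹ with hc
    have hfc : f c = e := by
      rw [hc, map_mul, map_mul, map_mul, map_inv, map_inv, hn, hl]
    set m := a'⁻¹ * c with hm
    have hfm : f m ∈ Z₁ := by
      rw [hm, map_mul, map_inv, f1, hfc]
      have e1 : (β a₂)⁻¹ * e = (β a₂)⁻¹ * ((e * (β a₂)⁻¹) * β a₂) := by group
      rw [e1, ← hPc _ h4 _ (hAP ha0), inv_mul_cancel_left]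
      exact h4
    have hcm : n * l * n⁻¹ = a' * m * l := by rw [hm, hc]; group
    set κ := b' * n * b'⁻¹ * n⁻¹ with hκ
    have hfκ : f κ ∈ Z₁ := by
      rw [hκ, map_mul, map_mul, map_mul, map_inv, map_inv, hn]
      exact hcom _ (hAP hb') _ huP
    have huζ : u * ζ = ζ * u := h.Pc u huP
    have hκc : κ * (n * l * n⁻¹) = (n * l * n⁻¹) * κ := by
      refine hzc _ _ hfκ ?_
      rw [map_mul, map_mul, map_inv, hn, hl]
      calc u * w * u⁻¹ * ζ = u * w * u⁻¹ * (ζ * u) * u⁻¹ := by group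
        _ = u * (w * ζ) * u⁻¹ := by rw [← huζ]; group
        _ = (u * ζ) * w * u⁻¹ := by rw [hζw]; group
        _ = ζ * (u * w * u⁻¹) := by rw [huζ]; group
    have hmb : m * b' = b' * m := hzc _ _ hfm (hζA _ hb').symm.symm
    apply hne
    have e1 : b' * (n * l * n⁻¹) * b'⁻¹ = n * l * n⁻¹ := by
      calc b' * (n * l * n⁻¹) * b'⁻¹ = (b' * n * b'⁻¹ * n⁻¹) * n * (b' * l) * b'⁻¹ * n⁻¹ *
            (b' * n * b'⁻¹ * n⁻¹)⁻¹ := by group
        _ = κ * n * (l * b') * b'⁻¹ * n⁻¹ * κ⁻¹ := by rw [← hκ, cb]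
        _ = κ * (n * l * n⁻¹) * κ⁻¹ := by group
        _ = n * l * n⁻¹ := by rw [hκc]; group
    have e2 : b' * (a' * m * l) * b'⁻¹ = (b' * a' * b'⁻¹) * m * l := by
      calc b' * (a' * m * l) * b'⁻¹ = b' * a' * m * (b'⁻¹ * (b' * l)) * b'⁻¹ := by group
        _ = b' * a' * m * (b'⁻¹ * (l * b')) * b'⁻¹ := by rw [cb]
        _ = b' * a' * b'⁻¹ * (b' * m) * b'⁻¹ * l := by group
        _ = b' * a' * b'⁻¹ * (m * b') * b'⁻¹ * l := by rw [hmb]
        _ = (b' * a' * b'⁻¹) * m * l := by group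
    rw [hcm, e2] at e1
    have e3 : b' * a' * b'⁻¹ = a' := mul_right_cancel (mul_right_cancel e1)
    exact (mul_inv_eq_iff_eq_mul.1 e3).symm

end Main

end Cfsg.Agent.OddHalf.NI3.Ex4
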