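import Cfsg.Agent.OddHalf.NI3.Ex4.Act
import Cfsg.Agent.SignalizersComponents.BalanceLocal

/-!
# (EX4) of THEOREM NIB: `Row4 (L / Z(L))` kills the local configuration

`Loc z w l L J C`, `Loc.false`.
-/

set_option autoImplicit false
set_option linter.style.haveILetI false

namespace Cfsg.Agent.OddHalf.NI3.Ex4

open Subgroup Cfsg Cfsg.Agent.SignalizersComponents
open Cfsg.Agent.Cit (cj)
open scoped Pointwise

universe u

/-- `L` quasisimple with centre a 2-group, `J ≅ SL₂(3)` subnormal in `C`, `O₂(J) ≤ L`, `w` commutes with `J` and acts on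
`L` as `l ∈ L`. -/
structure Loc {G : Type u} [Group G] (z w l : G) (L J C : Subgroup G) : Prop where
  qs : IsQuasisimple ↥L
  Z2 : IsPGroup 2 ↥(center ↥L)
  pr : IsPr J z
  sJ : Sn J C
  sL : Sn (L ⊓ centralizer ({w} : Set G)) C
  hO : pPrimeCore 2 ↥C = ⊥
  JL : J ≤ normalizer (L : Set G)
  Jw : J ≤ centralizer ({w} : Set G)
  Q : ∀ y ∈ J, y * y = z → y ∈ L
  zL : ∀ x ∈ L, x * z = z * x
  lL : l ∈ L
  wl : ∀ x ∈ L, w * x * w⁻¹ = l * x * l⁻¹
  ll : ∀ x ∈ L, l * l * x = x * (l * l)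
  ln : ∃ x ∈ L, l * x ≠ x * l
  dZ : ∀ v ∈ J, v * v * v = 1 → ∀ ζ ∈ L, (∀ x ∈ L, x * ζ = ζ * x) → v * ζ = ζ * v

namespace Loc

variable {G : Type u} [Group G] {z w l i j d : G} {L J C : Subgroup G}

theorem lw (h : Loc z w l L J C) : l * w = w * l := by
  have h1 := h.wl l h.lL
  rw [mul_inv_eq_iff_eq_mul] at h1
  rw [h1]; group

/-- `x ∈ L` commutes with `w` iff it commutes with `l` -/
theorem comm_iff (h : Loc z w l L J C) {x : G} (hx : x ∈ L) : x * w = w * x ↔ x * l = l * x := by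
  have h1 := h.wl x hx
  constructor
  · intro h2
    rw [← h2, mul_inv_cancel_right, eq_comm, mul_inv_eq_iff_eq_mul] at h1
    exact h1.symm
  · intro h2
    rw [← h2, mul_inv_cancel_right, mul_inv_eq_iff_eq_mul] at h1
    exact h1.symm

theorem nL (h : Loc z w l L J C) {g : G} (hg : g ∈ J) {x : G} (hx : x ∈ L) : g * x * g⁻¹ ∈ L :=
  (mem_normalizer_iff.1 (h.JL hg) x).1 hx

theorem jw (h : Loc z w l L J C) {g : G} (hg : g ∈ J) : g * w = w * g :=
  mem_centralizer_singleton_iff.1 (h.Jw hg)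

theorem iL (h : Loc z w l L J C) (hs : Cit.SLThree.Sl J z i j d) : i ∈ L := h.Q i hs.hi hs.q.i2
theorem jL (h : Loc z w l L J C) (hs : Cit.SLThree.Sl J z i j d) : j ∈ L := h.Q j hs.hj hs.q.j2

/-- `C_L(w)` -/
abbrev C0 (w : G) (L : Subgroup G) : Subgroup G := L ⊓ centralizer ({w} : Set G)

theorem mem_C0 {x : G} : x ∈ C0 w L ↔ x ∈ L ∧ x * w = w * x := by
  rw [mem_inf, mem_centralizer_singleton_iff]

theorem i0 (h : Loc z w l L J C) (hs : Cit.SLThree.Sl J z i j d) : i ∈ C0 w L := mem_C0.2 ⟨h.iL hs, h.jw hs.hi⟩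
theorem j0 (h : Loc z w l L J C) (hs : Cit.SLThree.Sl J z i j d) : j ∈ C0 w L := mem_C0.2 ⟨h.jL hs, h.jw hs.hj⟩

/-- `d` normalises `C_L(w)` -/
theorem dn (h : Loc z w l L J C) {g : G} (hg : g ∈ J) {x : G} (hx : x ∈ C0 w L) : g * x * g⁻¹ ∈ C0 w L := by
  rw [mem_C0] at hx ⊢
  refine ⟨h.nL hg hx.1, ?_⟩
  have h1 := h.jw hg
  have h2 : g⁻¹ * w = w * g⁻¹ := ((show Commute g w from h1).inv_left).eq
  calc g * x * g⁻¹ * w = g * (x * w) * g⁻¹ := by rw [mul_assoc _ g⁻¹, h2]; group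
    _ = (g * w) * x * g⁻¹ := by rw [hx.2]; group
    _ = w * (g * x * g⁻¹) := by rw [h1]; group

/-- `M = C_L(w) J = C_L(w)⟨d⟩` -/
theorem M_eq (h : Loc z w l L J C) (hs : Cit.SLThree.Sl J z i j d) : C0 w L ⊔ J = C0 w L ⊔ zpowers d := by
  refine le_antisymm (sup_le le_sup_left ?_) (sup_le le_sup_left ((zpowers_le.2 hs.hd).trans le_sup_right))
  rw [hs.gen, closure_le]
  rintro x (rfl | rfl)
  · exact mem_sup_left (h.i0 hs)
  · exact mem_sup_right (mem_zpowers _)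

theorem M_le (h : Loc z w l L J C) : C0 w L ⊔ J ≤ normalizer (L : Set G) :=
  sup_le (inf_le_left.trans le_normalizer) h.JL

/-- the elements of `M` -/
theorem exists_of_mem (h : Loc z w l L J C) (hs : Cit.SLThree.Sl J z i j d) {m : G} (hm : m ∈ C0 w L ⊔ J) :
    ∃ c ∈ C0 w L, m = c ∨ m = c * d ∨ m = c * (d * d) := by
  have d3 : d * d * d = 1 := hs.d3
  have di : d⁻¹ = d * d := inv_eq_of_mul_eq_one_right (by rw [← mul_assoc]; exact d3)
  have hd := hs.hd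
  have hn : ∀ x ∈ C0 w L, d * x * d⁻¹ ∈ C0 w L := fun x hx => h.dn hd hx
  have hn' : ∀ x ∈ C0 w L, (d * d) * x * (d * d)⁻¹ ∈ C0 w L := fun x hx => h.dn (mul_mem hd hd) hx
  rw [h.M_eq hs, show C0 w L ⊔ zpowers d = closure ((C0 w L : Set G) ∪ {d}) by
    rw [Subgroup.closure_union, Subgroup.closure_eq, zpowers_eq_closure]] at hm
  induction hm using closure_induction with
  | mem x hx =>
    rcases hx with hx | hx
    · exact ⟨x, hx, Or.inl rfl⟩
    · rw [Set.mem_singleton_iff] at hx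
      exact ⟨1, one_mem _, Or.inr (Or.inl (by rw [hx, one_mul]))⟩
  | one => exact ⟨1, one_mem _, Or.inl rfl⟩
  | mul x y _ _ h1 h2 =>
    obtain ⟨c, hc, hx⟩ := h1
    obtain ⟨c', hc', hy⟩ := h2
    have e1 : d * c' = (d * c' * d⁻¹) * d := by rw [inv_mul_cancel_right]
    have e2 : (d * d) * c' = ((d * d) * c' * (d * d)⁻¹) * (d * d) := by rw [inv_mul_cancel_right]
    have e4 : (d * d) * (d * d) = d := by
      calc (d * d) * (d * d) = (d * d * d) * d := by rw [mul_assoc, mul_assoc, mul_assoc]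
        _ = d := by rw [d3, one_mul]
    rcases hx with hx | hx | hx <;> rcases hy with hy | hy | hy
    · exact ⟨_, mul_mem hc hc', Or.inl (by rw [hx, hy])⟩
    · exact ⟨_, mul_mem hc hc', Or.inr (Or.inl (by rw [hx, hy, mul_assoc]))⟩
    · exact ⟨_, mul_mem hc hc', Or.inr (Or.inr (by rw [hx, hy, mul_assoc c]))⟩
    · refine ⟨_, mul_mem hc (hn c' hc'), Or.inr (Or.inl ?_)⟩
      rw [hx, hy]
      calc c * d * c' = c * (d * c') := by rw [mul_assoc]
        _ = c * ((d * c' * d⁻¹) * d) := by rw [← e1]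
        _ = c * (d * c' * d⁻¹) * d := by simp only [mul_assoc]
    · refine ⟨_, mul_mem hc (hn c' hc'), Or.inr (Or.inr ?_)⟩
      rw [hx, hy]
      calc c * d * (c' * d) = c * (d * c') * d := by simp only [mul_assoc]
        _ = c * ((d * c' * d⁻¹) * d) * d := by rw [← e1]
        _ = c * (d * c' * d⁻¹) * (d * d) := by simp only [mul_assoc]
    · refine ⟨_, mul_mem hc (hn c' hc'), Or.inl ?_⟩
      rw [hx, hy]
      calc c * d * (c' * (d * d)) = c * (d * c') * (d * d) := by simp only [mul_assoc]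
        _ = c * ((d * c' * d⁻¹) * d) * (d * d) := by rw [← e1]
        _ = c * (d * c' * d⁻¹) * (d * d * d) := by simp only [mul_assoc]
        _ = c * (d * c' * d⁻¹) := by rw [d3, mul_one]
    · refine ⟨_, mul_mem hc (hn' c' hc'), Or.inr (Or.inr ?_)⟩
      rw [hx, hy]
      calc c * (d * d) * c' = c * ((d * d) * c') := by rw [mul_assoc]
        _ = c * (((d * d) * c' * (d * d)⁻¹) * (d * d)) := by rw [← e2]
        _ = c * ((d * d) * c' * (d * d)⁻¹) * (d * d) := by rw [mul_assoc c]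
    · refine ⟨_, mul_mem hc (hn' c' hc'), Or.inl ?_⟩
      rw [hx, hy]
      calc c * (d * d) * (c' * d) = c * ((d * d) * c') * d := by simp only [mul_assoc]
        _ = c * (((d * d) * c' * (d * d)⁻¹) * (d * d)) * d := by rw [← e2]
        _ = c * ((d * d) * c' * (d * d)⁻¹) * (d * d * d) := by simp only [mul_assoc]
        _ = c * ((d * d) * c' * (d * d)⁻¹) := by rw [d3, mul_one]
    · refine ⟨_, mul_mem hc (hn' c' hc'), Or.inr (Or.inl ?_)⟩
      rw [hx, hy]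
      calc c * (d * d) * (c' * (d * d)) = c * ((d * d) * c') * (d * d) := by simp only [mul_assoc]
        _ = c * (((d * d) * c' * (d * d)⁻¹) * (d * d)) * (d * d) := by rw [← e2]
        _ = c * ((d * d) * c' * (d * d)⁻¹) * ((d * d) * (d * d)) := by simp only [mul_assoc]
        _ = c * ((d * d) * c' * (d * d)⁻¹) * d := by rw [e4]
  | inv x _ h1 =>
    obtain ⟨c, hc, hx⟩ := h1
    rcases hx with rfl | rfl | rfl
    · exact ⟨_, inv_mem hc, Or.inl rfl⟩
    · refine ⟨_, hn' c⁻¹ (inv_mem hc), Or.inr (Or.inr ?_)⟩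
      rw [mul_inv_rev, di]; group
    · refine ⟨_, hn c⁻¹ (inv_mem hc), Or.inr (Or.inl ?_)⟩
      calc (c * (d * d))⁻¹ = (d * d)⁻¹ * c⁻¹ := by group
        _ = (d * d * d) * (d * d)⁻¹ * c⁻¹ := by rw [d3, one_mul]
        _ = d * c⁻¹ * d⁻¹ * d := by group

/-- the elements of `M` which centralise `L` are central in `M` -/
theorem central (h : Loc z w l L J C) (hs : Cit.SLThree.Sl J z i j d) {m : G} (hm : m ∈ C0 w L ⊔ J)
    (hmL : ∀ x ∈ L, m * x * m⁻¹ = x) : ∀ y ∈ C0 w L ⊔ J, m * y = y * m := by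
  have hmL' : ∀ x ∈ L, m * x = x * m := fun x hx => by
    have := hmL x hx
    rwa [mul_inv_eq_iff_eq_mul] at this
  have hmd : m * d = d * m := by
    obtain ⟨c, hc, h1⟩ := h.exists_of_mem hs hm
    have hcm : Commute m c := hmL' c hc.1
    rcases h1 with h1 | h1 | h1
    · rw [h1]
      refine (h.dZ d hs.hd hs.d3 c hc.1 fun x hx => ?_).symm
      rw [← h1, hmL' x hx]
    · have h2 : d = c⁻¹ * m := by rw [h1]; group
      have h3 : Commute m (c⁻¹ * m) := hcm.inv_right.mul_right (Commute.refl m)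
      rw [← h2] at h3
      exact h3
    · have h2 : d * d = c⁻¹ * m := by rw [h1]; group
      have h3 : Commute m (c⁻¹ * m) := hcm.inv_right.mul_right (Commute.refl m)
      rw [← h2] at h3
      have h4 : d = (d * d) * (d * d) := by
        calc d = (d * d * d) * d := by rw [hs.d3, one_mul]
          _ = (d * d) * (d * d) := by group
      have h5 := h3.mul_right h3
      rw [← h4] at h5
      exact h5
  have h1 : C0 w L ⊔ J ≤ centralizer ({m} : Set G) := by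
    rw [h.M_eq hs]
    refine sup_le ?_ ?_
    · intro x hx
      rw [mem_centralizer_singleton_iff]
      exact (hmL' x hx.1).symm
    · rw [zpowers_le, mem_centralizer_singleton_iff]
      exact hmd.symm
  intro y hy
  exact (mem_centralizer_singleton_iff.1 (h1 hy)).symm

variable [Finite G]

theorem sM (h : Loc z w l L J C) : Sn (C0 w L ⊔ J) C := by
  refine ⟨sup_le h.sL.1 h.sJ.1, ?_⟩
  rw [subgroupOf_sup h.sL.1 h.sJ.1]
  exact Lib.SubnormalJoin.isSubnormal_sup h.sL.2 h.sJ.2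

theorem core_M (h : Loc z w l L J C) : pPrimeCore 2 ↥(C0 w L ⊔ J) = ⊥ := by
  have h1 := CompBasic.map_subtype_pPrimeCore_of_subnormal 2 h.sM.2
  rw [h.hO, inf_bot_eq, Subgroup.map_eq_bot_iff_of_injective _ (subtype_injective _)] at h1
  have h2 := Lib.Cores.map_equiv_pPrimeCore (subgroupOfEquivOfLe h.sM.1) 2
  rw [h1, Subgroup.map_bot] at h2
  exact h2.symm

/-- `O(φ(M)) = 1` -/
theorem core_img (h : Loc z w l L J C) (hs : Cit.SLThree.Sl J z i j d) :
    pPrimeCore 2 ↥(Jb (act L ⟨d, h.JL hs.hd⟩) (img L (C0 w L))) = ⊥ := by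
  haveI : Fact (Nat.Prime 2) := ⟨Nat.prime_two⟩
  rw [← map_act_Jb (inf_le_left : C0 w L ≤ L) (h.JL hs.hd), ← h.M_eq hs]
  have e := subgroupOfEquivOfLe h.M_le
  have hOM : pPrimeCore 2 ↥((C0 w L ⊔ J).subgroupOf (normalizer (L : Set G))) = ⊥ := by
    have h2 := Lib.Cores.map_equiv_pPrimeCore e.symm 2
    rw [h.core_M, Subgroup.map_bot] at h2
    exact h2.symm
  have hker : ∀ x : ↥((C0 w L ⊔ J).subgroupOf (normalizer (L : Set G))),
      x ∈ ((act L).subgroupMap ((C0 w L ⊔ J).subgroupOf (normalizer (L : Set G)))).ker → x ∈ center _ := by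
    intro x hx
    have h1 : act L (x : ↥(normalizer (L : Set G))) = 1 := congrArg Subtype.val hx
    have h2 := comm_of_act h.qs.1.commutator_eq_top h1
    rw [mem_center_iff]
    intro y
    apply Subtype.ext
    apply Subtype.ext
    exact (h.central hs x.2 h2 y y.2).symm
  refine core_of_central _ ((act L).subgroupMap_surjective _) hker ?_ hOM
  rintro ⟨x, hx⟩
  have hxc := hker x hx
  obtain ⟨n, m, hm, hnm⟩ := Nat.exists_eq_two_pow_mul_odd (n := orderOf x) (orderOf_pos x).ne'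
  refine ⟨n, ?_⟩
  have h1 : x ^ 2 ^ n ∈ pPrimeCore 2 ↥((C0 w L ⊔ J).subgroupOf (normalizer (L : Set G))) := by
    refine Cfsg.Agent.SignalizersComponents.BalanceLocal.mem_pPrimeCore_of_central (x ^ 2 ^ n) m ?_ ?_ ?_
    · exact (Nat.coprime_two_right.2 hm)
    · rw [← pow_mul, ← hnm, pow_orderOf_eq_one]
      exact one_mem _
    · intro c
      have h2 : c * x ^ 2 ^ n = x ^ 2 ^ n * c := mem_center_iff.1 (pow_mem hxc _) c
      rw [h2, mul_inv_cancel_right, mul_inv_cancel]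
      exact one_mem _
  rw [hOM, mem_bot] at h1
  exact Subtype.ext h1

/-! ### The configuration in `X` -/

omit [Finite G] in
theorem wbar_comm {h : Loc z w l L J C} {y : L}
    (hy : (y : ↥L ⧸ center ↥L) * ((⟨l, h.lL⟩ : L) : ↥L ⧸ center ↥L) = ((⟨l, h.lL⟩ : L) : ↥L ⧸ center ↥L) * y) :
    ∃ ζ ∈ L, (∀ x ∈ L, x * ζ = ζ * x) ∧ w * y * w⁻¹ = ζ * y := by
  have h1 : ((⟨l, h.lL⟩ * y * ⟨l, h.lL⟩⁻¹ : L) : ↥L ⧸ center ↥L) = y := by
    rw [QuotientGroup.mk_mul, QuotientGroup.mk_mul, QuotientGroup.mk_inv, ← hy, mul_inv_cancel_right]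
  rw [mk_eq_iff] at h1
  have h2 : w * y * w⁻¹ = l * y * l⁻¹ := h.wl y y.2
  have hl : l * (y : G) * l⁻¹ ∈ L := mul_mem (mul_mem h.lL y.2) (inv_mem h.lL)
  refine ⟨l * y * l⁻¹ * (y : G)⁻¹, mul_mem hl (inv_mem y.2), ?_, by rw [h2]; group⟩
  intro x hx
  have h3 : (l * y * l⁻¹) * ((y : G)⁻¹ * x * y) * (l * y * l⁻¹)⁻¹ = y * ((y : G)⁻¹ * x * y) * (y : G)⁻¹ :=
    h1 _ (mul_mem (mul_mem (inv_mem y.2) hx) y.2)
  calc x * (l * y * l⁻¹ * (y : G)⁻¹) = (y * ((y : G)⁻¹ * x * y) * (y : G)⁻¹) * (l * y * l⁻¹ * (y : G)⁻¹) := by group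
    _ = (l * y * l⁻¹) * ((y : G)⁻¹ * x * y) * (l * y * l⁻¹)⁻¹ * (l * y * l⁻¹ * (y : G)⁻¹) := by rw [h3]
    _ = l * y * l⁻¹ * (y : G)⁻¹ * x := by group

/-- **`Row4 (L / Z(L))` excludes the configuration.** -/
theorem false (h : Loc z w l L J C) (hR : Row4 (↥L ⧸ center ↥L)) : False := by
  haveI : Fact (Nat.Prime 2) := ⟨Nat.prime_two⟩
  obtain ⟨i, j, d, hs⟩ := h.pr.sl
  have hi := h.iL hs
  have hj := h.jL hs
  have hdn : d ∈ normalizer (L : Set G) := h.JL hs.hd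
  set β := act L ⟨d, hdn⟩ with hβ
  set π : ↥L →* ↥L ⧸ center ↥L := QuotientGroup.mk' (center ↥L) with hπ
  set W : ↥L ⧸ center ↥L := π ⟨l, h.lL⟩ with hW
  have hβmk : ∀ x : L, β (π x) = π ⟨d * x * d⁻¹, h.nL hs.hd x.2⟩ := fun x => rfl
  have hmk : ∀ {x y : L}, π x = π y ↔ ∀ k ∈ L, (x : G) * k * (x : G)⁻¹ = y * k * (y : G)⁻¹ := fun {x y} => mk_eq_iff
  have b3 : β * β * β = 1 := by
    rw [hβ, ← map_mul, ← map_mul, ← map_one (act L)]
    congr 1
    exact Subtype.ext hs.d3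
  have hz1 : π ⟨z, h.Q i hs.hi hs.q.i2 |> fun hi => by rw [← hs.q.i2]; exact mul_mem hi hi⟩ = 1 := by
    rw [← map_one π, hmk]
    intro k hk
    show z * k * z⁻¹ = 1 * k * 1⁻¹
    rw [← h.zL k hk]; group
  have hii : π ⟨i, hi⟩ * π ⟨i, hi⟩ = 1 := by
    rw [← map_mul, ← hz1]; congr 1; exact Subtype.ext hs.q.i2
  have hjj : π ⟨j, hj⟩ * π ⟨j, hj⟩ = 1 := by
    rw [← map_mul, ← hz1]; congr 1; exact Subtype.ext hs.q.j2
  have hzij : (⟨j, hj⟩ * ⟨i, hi⟩ : L) = ⟨z, by rw [← hs.q.i2]; exact mul_mem hi hi⟩ * (⟨i, hi⟩ * ⟨j, hj⟩) :=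
    Subtype.ext hs.q.ji
  have hij : π ⟨i, hi⟩ * π ⟨j, hj⟩ = π ⟨j, hj⟩ * π ⟨i, hi⟩ := by
    rw [← map_mul π ⟨j, hj⟩, hzij, map_mul, hz1, one_mul, map_mul]
  -- `i` and `j` do not commute
  have hnc : i * j ≠ j * i := fun h1 => hs.q.not_comm h1
  have hne1 : ∀ x : L, (∃ k ∈ L, (x : G) * k ≠ k * x) → π x ≠ 1 := by
    rintro x ⟨k, hk, hxk⟩ h1
    rw [← map_one π, hmk] at h1
    apply hxk
    have h2 := h1 k hk
    rw [show ((1 : L) : G) = 1 from rfl, one_mul, inv_one, mul_one, mul_inv_eq_iff_eq_mul] at h2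
    exact h2
  have hi1 : π ⟨i, hi⟩ ≠ 1 := hne1 _ ⟨j, hj, hnc⟩
  have hj1 : π ⟨j, hj⟩ ≠ 1 := hne1 _ ⟨i, hi, fun h1 => hnc h1.symm⟩
  have hijne : π ⟨i, hi⟩ ≠ π ⟨j, hj⟩ := by
    intro h1
    rw [hmk] at h1
    have h2 : i * j * i⁻¹ = j * j * j⁻¹ := h1 j hj
    apply hnc
    rw [mul_inv_eq_iff_eq_mul] at h2
    rw [h2]; group
  set A : Subgroup (↥L ⧸ center ↥L) := closure {π ⟨i, hi⟩, π ⟨j, hj⟩} with hA
  have memA : ∀ x, x ∈ A ↔ x = 1 ∨ x = π ⟨i, hi⟩ ∨ x = π ⟨j, hj⟩ ∨ x = π ⟨i, hi⟩ * π ⟨j, hj⟩ := by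
    intro x
    rw [hA]
    exact Intrinsic.FunctorFrame.mem_four hii hjj hij
  have hiA : π ⟨i, hi⟩ ∈ A := subset_closure (by simp)
  have hjA : π ⟨j, hj⟩ ∈ A := subset_closure (by simp)
  have hβi : β (π ⟨i, hi⟩) = π ⟨j, hj⟩ := by
    rw [hβmk]; congr 1; exact Subtype.ext hs.di
  have hβj : β (π ⟨j, hj⟩) = π ⟨i, hi⟩ * π ⟨j, hj⟩ := by
    rw [hβmk, ← map_mul]; congr 1; exact Subtype.ext hs.dj
  have ww : W * W = 1 := by
    rw [hW, ← map_mul, ← map_one π, hmk]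
    intro k hk
    show l * l * k * (l * l)⁻¹ = 1 * k * 1⁻¹
    rw [h.ll k hk]; group
  have bw : β W = W := by
    rw [hW, hβmk, hmk]
    intro k hk
    have h1 : d⁻¹ * k * d ∈ L := by
      have := h.nL (inv_mem hs.hd) hk
      rwa [inv_inv] at this
    have h2 := h.wl _ h1
    have h3 := h.jw hs.hd
    have h4 := h.wl k hk
    show (d * l * d⁻¹) * k * (d * l * d⁻¹)⁻¹ = l * k * l⁻¹
    calc (d * l * d⁻¹) * k * (d * l * d⁻¹)⁻¹ = d * (l * (d⁻¹ * k * d) * l⁻¹) * d⁻¹ := by group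
      _ = (d * w) * (d⁻¹ * k * d) * (d * w)⁻¹ := by rw [← h2]; group
      _ = w * k * w⁻¹ := by rw [h3]; group
      _ = l * k * l⁻¹ := h4
  -- `C_L(w)` commutes with `l`
  have hC0W : img L (C0 w L) ≤ centralizer ({W} : Set (↥L ⧸ center ↥L)) := by
    rintro _ ⟨y, hy, rfl⟩
    rw [mem_centralizer_singleton_iff]
    show π y * π ⟨l, h.lL⟩ = π ⟨l, h.lL⟩ * π y
    rw [← map_mul, ← map_mul]
    congr 1
    exact Subtype.ext ((h.comm_iff y.2).1 (mem_C0.1 hy).2)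
  have hA0 : A ≤ img L (C0 w L) := by
    rw [hA, closure_le]
    rintro x (rfl | rfl)
    · exact ⟨⟨i, hi⟩, h.i0 hs, rfl⟩
    · exact ⟨⟨j, hj⟩, h.j0 hs, rfl⟩
  -- `φ(J) = A⟨β⟩`
  have hAimg : A = img L (closure {i, j}) := by
    have h1 : (closure {i, j} : Subgroup G) = (closure {(⟨i, hi⟩ : L), ⟨j, hj⟩}).map L.subtype := by
      rw [MonoidHom.map_closure, Set.image_pair]; rfl
    rw [img, h1, ← comap_subtype, comap_map_eq_self_of_injective L.subtype_injective, MonoidHom.map_closure,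
      Set.image_pair, hA]
  have hJeq : J = closure {i, j} ⊔ zpowers d := by
    refine le_antisymm ?_ (sup_le hs.Qle (zpowers_le.2 hs.hd))
    conv_lhs => rw [hs.gen]
    rw [closure_le]
    rintro x (rfl | rfl)
    · exact mem_sup_left (subset_closure (by simp))
    · exact mem_sup_right (mem_zpowers _)
  have hQL : (closure {i, j} : Subgroup G) ≤ L := by
    rw [closure_le]
    rintro x (rfl | rfl)
    · exact hi
    · exact hj
  have hJimg : (J.subgroupOf (normalizer (L : Set G))).map (act L) = Jb β A := by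
    rw [hAimg, hβ, ← map_act_Jb hQL hdn, ← hJeq]
  have hMimg : ((C0 w L ⊔ J).subgroupOf (normalizer (L : Set G))).map (act L) = Jb β (img L (C0 w L)) := by
    rw [h.M_eq hs, map_act_Jb (inf_le_left : C0 w L ≤ L) hdn]
  have sn1 : Sn (Jb β A) (Jb β (img L (C0 w L))) := by
    rw [← hJimg, ← hMimg]
    exact ((h.sJ.restrict h.sM.1 le_sup_right).comap (normalizer (L : Set G)).subtype).map (act L)
  -- `φ(M) ⊴ Γ`
  have hle : Jb β (img L (C0 w L)) ≤ Jb β (centralizer ({W} : Set (↥L ⧸ center ↥L))) :=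
    sup_le_sup_right (map_mono hC0W) _
  have hβ0 : β ∈ Jb β (img L (C0 w L)) := mem_sup_right (mem_zpowers β)
  have hc0 : ∀ x ∈ img L (C0 w L), MulAut.conj x ∈ Jb β (img L (C0 w L)) :=
    fun x hx => mem_sup_left ⟨x, hx, rfl⟩
  haveI : Finite (MulAut (↥L ⧸ center ↥L)) := inferInstance
  have hcn : ∀ c ∈ centralizer ({W} : Set (↥L ⧸ center ↥L)),
      MulAut.conj c ∈ normalizer (Jb β (img L (C0 w L)) : Set (MulAut (↥L ⧸ center ↥L))) := by
    intro c hc
    obtain ⟨y, rfl⟩ := QuotientGroup.mk'_surjective (center ↥L) c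
    rw [mem_centralizer_singleton_iff] at hc
    obtain ⟨ζ, hζL, hζ, hwy⟩ := wbar_comm (h := h) (y := y) hc
    -- conjugates of `C_L(w)`
    have key1 : ∀ x ∈ img L (C0 w L), π y * x * (π y)⁻¹ ∈ img L (C0 w L) := by
      rintro _ ⟨x, hx, rfl⟩
      refine ⟨y * x * y⁻¹, ?_, by rw [map_mul, map_mul, map_inv]⟩
      show (y : G) * x * (y : G)⁻¹ ∈ C0 w L
      have hx' := mem_C0.1 (show (x : G) ∈ C0 w L from hx)
      have hyx : (y : G) * x * (y : G)⁻¹ ∈ L := mul_mem (mul_mem y.2 x.2) (inv_mem y.2)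
      refine mem_C0.2 ⟨hyx, ?_⟩
      have h1 : w * ((y : G) * x * (y : G)⁻¹) * w⁻¹ = (y : G) * x * (y : G)⁻¹ := by
        calc w * ((y : G) * x * (y : G)⁻¹) * w⁻¹ = (w * y * w⁻¹) * (w * x * w⁻¹) * (w * y * w⁻¹)⁻¹ := by group
          _ = ζ * y * x * (ζ * y)⁻¹ := by rw [hwy, ← hx'.2, mul_inv_cancel_right]
          _ = (ζ * ((y : G) * x * (y : G)⁻¹)) * ζ⁻¹ := by group
          _ = (y : G) * x * (y : G)⁻¹ := by rw [← hζ _ hyx]; group
      rw [mul_inv_eq_iff_eq_mul] at h1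
      exact h1.symm
    have key2 : π y * (β (π y))⁻¹ ∈ img L (C0 w L) := by
      refine ⟨y * ⟨d * y * d⁻¹, h.nL hs.hd y.2⟩⁻¹, ?_, by rw [map_mul, map_inv, hβmk]⟩
      show (y : G) * (d * y * d⁻¹)⁻¹ ∈ C0 w L
      have hdy := h.nL hs.hd y.2
      have hyd : (y : G) * (d * y * d⁻¹)⁻¹ ∈ L := mul_mem y.2 (inv_mem hdy)
      refine mem_C0.2 ⟨hyd, ?_⟩
      have hdw := h.jw hs.hd
      have hdζ : d * ζ = ζ * d := h.dZ d hs.hd hs.d3 ζ hζL hζ
      have h1 : w * (d * y * d⁻¹) * w⁻¹ = ζ * (d * y * d⁻¹) := by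
        calc w * (d * y * d⁻¹) * w⁻¹ = (w * d) * y * (w * d)⁻¹ := by group
          _ = d * (w * y * w⁻¹) * d⁻¹ := by rw [← hdw]; group
          _ = (d * ζ) * y * d⁻¹ := by rw [hwy]; group
          _ = ζ * (d * y * d⁻¹) := by rw [hdζ]; group
      have h2 : w * ((y : G) * (d * y * d⁻¹)⁻¹) * w⁻¹ = (y : G) * (d * y * d⁻¹)⁻¹ := by
        calc w * ((y : G) * (d * y * d⁻¹)⁻¹) * w⁻¹ = (w * y * w⁻¹) * (w * (d * y * d⁻¹) * w⁻¹)⁻¹ := by group
          _ = ζ * ((y : G) * (d * y * d⁻¹)⁻¹) * ζ⁻¹ := by rw [hwy, h1]; group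
          _ = (y : G) * (d * y * d⁻¹)⁻¹ := by rw [← hζ _ hyd]; group
      rw [mul_inv_eq_iff_eq_mul] at h2
      exact h2.symm
    have hcomap : Jb β (img L (C0 w L)) ≤
        (Jb β (img L (C0 w L))).comap (MulAut.conj (MulAut.conj (π y))).toMonoidHom := by
      refine sup_le ?_ ?_
      · rintro _ ⟨x, hx, rfl⟩
        show MulAut.conj (π y) * MulAut.conj x * (MulAut.conj (π y))⁻¹ ∈ Jb β (img L (C0 w L))
        rw [← map_inv, ← map_mul, ← map_mul]
        exact hc0 _ (key1 x hx)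
      · rw [zpowers_le]
        show MulAut.conj (π y) * β * (MulAut.conj (π y))⁻¹ ∈ Jb β (img L (C0 w L))
        have e1 : MulAut.conj (π y) * β * (MulAut.conj (π y))⁻¹ = MulAut.conj (π y * (β (π y))⁻¹) * β := by
          rw [← map_inv, mul_assoc, mul_conj', map_mul, map_inv, ← mul_assoc, map_inv]
        rw [e1]
        exact mul_mem (hc0 _ key2) hβ0
    exact normalizer_of_forall fun x hx => hcomap hx
  have hnorm : Jb β (centralizer ({W} : Set (↥L ⧸ center ↥L))) ≤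
      normalizer (Jb β (img L (C0 w L)) : Set (MulAut (↥L ⧸ center ↥L))) := by
    refine sup_le ?_ ?_
    · rintro _ ⟨c, hc, rfl⟩
      exact hcn c hc
    · rw [zpowers_le]; exact le_normalizer hβ0
  have sn2 : Sn (Jb β (img L (C0 w L))) (Jb β (centralizer ({W} : Set (↥L ⧸ center ↥L)))) := Sn.of_normal hle hnorm
  -- `O(Γ) = 1`
  have hcore : pPrimeCore 2 ↥(Jb β (centralizer ({W} : Set (↥L ⧸ center ↥L)))) = ⊥ := by
    have hN : ((Jb β (img L (C0 w L))).subgroupOf (Jb β (centralizer ({W} : Set (↥L ⧸ center ↥L))))).Normal :=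
      (normal_subgroupOf_iff_le_normalizer hle).2 hnorm
    refine core_of_two hN ?_ ?_
    · have h2 := Lib.Cores.map_equiv_pPrimeCore (subgroupOfEquivOfLe hle).symm 2
      rw [h.core_img hs, Subgroup.map_bot] at h2
      exact h2.symm
    · -- the squares
      have hpow : ∀ c ∈ centralizer ({W} : Set (↥L ⧸ center ↥L)), ∃ n, MulAut.conj c ^ 2 ^ n ∈ Jb β (img L (C0 w L)) := by
        intro c hc
        obtain ⟨y, rfl⟩ := QuotientGroup.mk'_surjective (center ↥L) c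
        rw [mem_centralizer_singleton_iff] at hc
        obtain ⟨ζ, hζL, hζ, hwy⟩ := wbar_comm (h := h) (y := y) hc
        obtain ⟨n, hn⟩ := h.Z2 ⟨⟨ζ, hζL⟩, mem_center_iff.2 fun x => Subtype.ext (hζ x x.2)⟩
        have hn' : ζ ^ 2 ^ n = 1 := by
          have := congrArg Subtype.val (congrArg Subtype.val hn)
          simpa using this
        refine ⟨n, ?_⟩
        rw [← map_pow, ← map_pow]
        refine hc0 _ ⟨y ^ 2 ^ n, ?_, rfl⟩
        show (y : G) ^ 2 ^ n ∈ C0 w L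
        refine mem_C0.2 ⟨pow_mem y.2 _, ?_⟩
        have hcomm : Commute ζ (y : G) := (hζ y y.2).symm
        have h1 : w * (y : G) ^ 2 ^ n * w⁻¹ = (y : G) ^ 2 ^ n := by
          rw [← conj_pow, hwy, hcomm.mul_pow, hn', one_mul]
        rw [mul_inv_eq_iff_eq_mul] at h1
        exact h1.symm
      rintro ⟨g, hg⟩
      have hg' : g ∈ (centralizer ({W} : Set (↥L ⧸ center ↥L))).map
          (MulAut.conj : (↥L ⧸ center ↥L) →* MulAut (↥L ⧸ center ↥L)) ⊔ Jb β (img L (C0 w L)) :=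
        (sup_le le_sup_left ((zpowers_le.2 hβ0).trans le_sup_right)) hg
      have hmul : g ∈ ((centralizer ({W} : Set (↥L ⧸ center ↥L))).map
          (MulAut.conj : (↥L ⧸ center ↥L) →* MulAut (↥L ⧸ center ↥L)) : Set (MulAut (↥L ⧸ center ↥L))) *
          (Jb β (img L (C0 w L)) : Set (MulAut (↥L ⧸ center ↥L))) := by
        rw [← Subgroup.coe_mul_of_left_le_normalizer_right _ _ (by
          rintro _ ⟨c, hc, rfl⟩
          exact hcn c hc)]
        exact hg'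
      obtain ⟨_, ⟨c, hc, rfl⟩, γ, hγ, rfl⟩ := hmul
      obtain ⟨n, hn⟩ := hpow c hc
      refine ⟨n, ?_⟩
      haveI := hN
      have hcΓ : MulAut.conj c ∈ Jb β (centralizer ({W} : Set (↥L ⧸ center ↥L))) := mem_sup_left ⟨c, hc, rfl⟩
      have hsplit : (⟨MulAut.conj c * γ, hg⟩ : ↥(Jb β (centralizer ({W} : Set (↥L ⧸ center ↥L))))) =
          ⟨MulAut.conj c, hcΓ⟩ * ⟨γ, hle hγ⟩ := rfl
      have e1 : ((⟨γ, hle hγ⟩ : ↥(Jb β (centralizer ({W} : Set (↥L ⧸ center ↥L))))) :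
          ↥(Jb β (centralizer ({W} : Set (↥L ⧸ center ↥L)))) ⧸
            (Jb β (img L (C0 w L))).subgroupOf (Jb β (centralizer ({W} : Set (↥L ⧸ center ↥L))))) = 1 :=
        (QuotientGroup.eq_one_iff _).2 hγ
      rw [← QuotientGroup.eq_one_iff, QuotientGroup.mk_pow, hsplit, QuotientGroup.mk_mul, e1, mul_one,
        ← QuotientGroup.mk_pow, QuotientGroup.eq_one_iff]
      exact hn
  have cfg : Cfg4 W β A :=
    { ww := ww
      w1 := by
        obtain ⟨x, hx, hlx⟩ := h.ln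
        exact hne1 _ ⟨x, hx, hlx⟩
      b3 := b3
      bw := bw
      Aw := fun a ha => mem_centralizer_singleton_iff.1 (hC0W (hA0 ha))
      A2 := by
        intro a ha
        rcases (memA a).1 ha with rfl | rfl | rfl | rfl
        · rw [one_mul]
        · exact hii
        · exact hjj
        · calc π ⟨i, hi⟩ * π ⟨j, hj⟩ * (π ⟨i, hi⟩ * π ⟨j, hj⟩) =
              π ⟨i, hi⟩ * (π ⟨j, hj⟩ * π ⟨i, hi⟩) * π ⟨j, hj⟩ := by group
            _ = (π ⟨i, hi⟩ * π ⟨i, hi⟩) * (π ⟨j, hj⟩ * π ⟨j, hj⟩) := by rw [← hij]; group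
            _ = 1 := by rw [hii, hjj, one_mul]
      A4 := Intrinsic.FunctorFrame.card_four hii hjj hij hi1 hj1 hijne
      bA := by
        intro a ha
        rcases (memA a).1 ha with rfl | rfl | rfl | rfl
        · rw [map_one]; exact one_mem _
        · rw [hβi]; exact hjA
        · rw [hβj]; exact mul_mem hiA hjA
        · rw [map_mul, hβi, hβj]; exact mul_mem hjA (mul_mem hiA hjA)
      bne := by
        intro a ha hβa
        rcases (memA a).1 ha with rfl | rfl | rfl | rfl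
        · rfl
        · rw [hβi] at hβa; exact absurd hβa.symm hijne
        · rw [hβj] at hβa
          exact absurd (mul_eq_right.1 hβa) hi1
        · rw [map_mul, hβi, hβj] at hβa
          exact absurd (mul_eq_right.1 hβa) hj1
      sn := sn1.trans sn2
      core := hcore }
  refine hR W β A cfg ↥L π (QuotientGroup.mk'_surjective _) (by rw [QuotientGroup.ker_mk']) ?_
    h.qs.1.commutator_eq_top ⟨i, hi⟩ ⟨j, hj⟩ ⟨l, h.lL⟩ hiA hjA rfl ?_ ?_ ?_ ?_
  · rw [QuotientGroup.ker_mk']; exact h.Z2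
  · exact Subtype.ext ((h.comm_iff hi).1 (h.jw hs.hi))
  · exact Subtype.ext ((h.comm_iff hj).1 (h.jw hs.hj))
  · rw [MonoidHom.mem_ker, map_mul, map_mul, map_mul, map_inv, map_inv, hij, mul_inv_cancel_right, mul_inv_cancel]
  · have h1 : i * j * i⁻¹ * j⁻¹ = z := by
      have h1 := hs.q.ji
      rw [mul_inv_eq_iff_eq_mul, mul_inv_eq_iff_eq_mul, mul_assoc, h1, ← mul_assoc, hs.q.z2, one_mul]
    rw [← Subgroup.orderOf_coe]
    show orderOf (i * j * i⁻¹ * j⁻¹) = 2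
    rw [h1]; exact h.pr.ord

end Loc

end Cfsg.Agent.OddHalf.NI3.Ex4
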