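import Cfsg.Agent.OddHalf.NI3.Ex4.Defs
import Cfsg.Agent.SignalizersComponents.ComponentExists
import Cfsg.Agent.SignalizersComponents.CompBasic
import Cfsg.Agent.Lib.HallHigman
import Cfsg.Agent.LieClassical.Order72

/-!
# (EX4): consequences of the subnormality of `A⟨β⟩`

* `key_comm` : the abstract lemma: `J = A⟨v⟩` subnormal in `Γ`, `O(Γ) = 1`, `g` centralises `A` : `[v, g] ∈ A`.
* `Cfg4.two` : `[B, β] ≤ A` for the 2-subgroups `B` of `C(w)` normalised by `A` and `β`;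
* `Cfg4.cent` : `β(g) g⁻¹ ∈ A` for the elements `g` of `C(w)` which centralise `A`.
-/

set_option autoImplicit false
set_option linter.style.haveILetI false

namespace Cfsg.Agent.OddHalf.NI3.Ex4

open Subgroup Cfsg

section Abs

variable {Γ : Type*} [Group Γ] [Finite Γ]

theorem key_comm (hO : pPrimeCore 2 Γ = ⊥) {J A : Subgroup Γ} {v : Γ} (hJ : J.IsSubnormal)
    (hJs : Group.IsSolvable ↥J) (hAJ : A ≤ J) (hv : v ∈ J) (v3 : v * v * v = 1) (A2 : ∀ a ∈ A, a * a = 1)
    (hA : ∀ x ∈ J, ∀ n : ℕ, x ^ 2 ^ n = 1 → x ∈ A) (hvA : ∀ a ∈ A, v * a * v⁻¹ ∈ A)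
    (hJA : ∀ x ∈ J, ∃ a ∈ A, ∃ k : ℕ, x = a * v ^ k) {g : Γ} (hg : ∀ a ∈ A, g * a = a * g) :
    v * g * v⁻¹ * g⁻¹ ∈ A := by
  haveI : Fact (Nat.Prime 2) := ⟨Nat.prime_two⟩
  haveI : Fact (Nat.Prime 3) := ⟨Nat.prime_three⟩
  haveI hTn : (pCore 2 Γ).Normal := Lib.Cores.pCore_normal 2
  have hT2 : IsPGroup 2 ↥(pCore 2 Γ) := Lib.Cores.pCore_isPGroup 2
  set T := pCore 2 Γ with hT
  have hinv : v⁻¹ = v * v := by
    rw [eq_comm, eq_inv_iff_mul_eq_one]; exact v3
  have hv2 : v⁻¹ * v⁻¹ = v := by rw [← mul_inv_rev, ← hinv, inv_inv]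
  have hvA' : ∀ a ∈ A, v⁻¹ * a * v ∈ A := by
    intro a ha
    have h1 := hvA _ (hvA a ha)
    have e : v⁻¹ * a * v = v * (v * a * v⁻¹) * v⁻¹ := by
      calc v⁻¹ * a * v = (v * v) * a * (v⁻¹ * v⁻¹) := by rw [hinv, ← hinv, hv2, hinv]
        _ = v * (v * a * v⁻¹) * v⁻¹ := by group
    rw [e]; exact h1
  have h2el : ∀ x ∈ J, x ∈ T → x ∈ A := by
    intro x hx hxT
    obtain ⟨n, hn⟩ := hT2 ⟨x, hxT⟩
    exact hA x hx n (by simpa using congrArg Subtype.val hn)
  have hsnT : Sn J (J ⊔ T) := Sn.of_isSubnormal hJ le_sup_left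
  have hJT : J ≤ normalizer (T : Set Γ) := by rw [normalizer_eq_top]; exact le_top
  have hodd : Odd (orderOf v) := odd_of_cube v3
  -- `[T, v] ≤ A`
  have hcomm : ∀ t ∈ T, v⁻¹ * t * v * t⁻¹ ∈ A := by
    intro t ht
    have h1 : t * v * t⁻¹ ∈ J := by
      refine mem_of_sup hsnT hT2 hJT ?_ ?_
      · exact mul_mem (mul_mem (mem_sup_right ht) (mem_sup_left hv)) (inv_mem (mem_sup_right ht))
      · have h4 : orderOf (t * v * t⁻¹) = orderOf v := by
          have := orderOf_injective (MulAut.conj t).toMonoidHom (MulAut.conj t).injective v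
          simpa using this
        rw [h4]; exact hodd
    apply h2el
    · have e : v⁻¹ * t * v * t⁻¹ = v⁻¹ * (t * v * t⁻¹) := by group
      rw [e]
      exact mul_mem (inv_mem hv) h1
    · exact mul_mem (by simpa using hTn.conj_mem t ht v⁻¹) (inv_mem ht)
  have hcomm' : ∀ t ∈ T, v * t * v⁻¹ * t⁻¹ ∈ A := by
    intro t ht
    have h1 := hcomm (v * t * v⁻¹) (hTn.conj_mem t ht v)
    have e : v⁻¹ * (v * t * v⁻¹) * v * (v * t * v⁻¹)⁻¹ = (v * t * v⁻¹ * t⁻¹)⁻¹ := by group
    rw [e, inv_mem_iff] at h1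
    exact h1
  -- `d`
  set v' := g⁻¹ * v * g with hv'
  set d := v⁻¹ * v' with hd
  have hAT : A ≤ T := by
    have h1 : (A : Subgroup Γ).IsSubnormal := by
      refine IsSubnormal.step _ J hAJ hJ ?_
      rw [normal_subgroupOf_iff_le_normalizer hAJ]
      intro x hx
      obtain ⟨a, ha, k, rfl⟩ := hJA x hx
      refine mul_mem (le_normalizer ha) (pow_mem ?_ k)
      rw [mem_normalizer_iff]
      intro y
      refine ⟨fun hy => hvA y hy, fun hy => ?_⟩
      have h2 := hvA' _ hy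
      have e : v⁻¹ * (v * y * v⁻¹) * v = y := by group
      rwa [e] at h2
    refine SignalizersComponents.CompBasic.subnormal_pGroup_le_pCore h1 ?_
    rintro ⟨a, ha⟩
    exact ⟨1, Subtype.ext (by rw [pow_one, pow_two]; exact A2 a ha)⟩
  have hgc : ∀ a ∈ A, g⁻¹ * a * g = a := by
    intro a ha
    rw [mul_assoc, ← hg a ha, inv_mul_cancel_left]
  have hgc' : ∀ a ∈ A, g * a * g⁻¹ = a := by
    intro a ha
    rw [hg a ha, mul_inv_cancel_right]
  -- `[T, v'] ≤ A`
  have hcommv' : ∀ t ∈ T, v' * t * v'⁻¹ * t⁻¹ ∈ A := by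
    intro t ht
    have h1 := hcomm' (g * t * g⁻¹) (hTn.conj_mem t ht g)
    have e : v' * t * v'⁻¹ * t⁻¹ =
        g⁻¹ * (v * (g * t * g⁻¹) * v⁻¹ * (g * t * g⁻¹)⁻¹) * g := by rw [hv']; group
    rw [e, hgc _ h1]; exact h1
  have hdA : ∀ a ∈ A, d * a * d⁻¹ = a := by
    intro a ha
    have h1 : v' * a * v'⁻¹ = v * a * v⁻¹ := by
      have e : v' * a * v'⁻¹ = g⁻¹ * (v * (g * a * g⁻¹) * v⁻¹) * g := by rw [hv']; group
      rw [e, hgc' a ha, hgc _ (hvA a ha)]
    calc d * a * d⁻¹ = v⁻¹ * (v' * a * v'⁻¹) * v := by rw [hd]; group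
      _ = v⁻¹ * (v * a * v⁻¹) * v := by rw [h1]
      _ = a := by group
  have hdT : ∀ t ∈ T, d * t * d⁻¹ * t⁻¹ ∈ A := by
    intro t ht
    have h1 := hcommv' t ht
    have h2 := hcomm t ht
    have e : d * t * d⁻¹ * t⁻¹ = (v⁻¹ * (v' * t * v'⁻¹ * t⁻¹) * v) * (v⁻¹ * t * v * t⁻¹) := by
      rw [hd]
      simp only [mul_inv_rev, inv_inv]
      group
    rw [e]
    exact mul_mem (hvA' _ h1) h2
  have hddT : ∀ t ∈ T, (d * d) * t = t * (d * d) := by
    intro t ht
    set a := d * t * d⁻¹ * t⁻¹ with ha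
    have haA : a ∈ A := hdT t ht
    have h1 : d * t * d⁻¹ = a * t := by rw [ha]; group
    have h2 : (d * d) * t * (d * d)⁻¹ = t := by
      calc (d * d) * t * (d * d)⁻¹ = d * (d * t * d⁻¹) * d⁻¹ := by group
        _ = d * (a * t) * d⁻¹ := by rw [h1]
        _ = (d * a * d⁻¹) * (d * t * d⁻¹) := by group
        _ = a * (a * t) := by rw [hdA a haA, h1]
        _ = t := by rw [← mul_assoc, A2 a haA, one_mul]
    exact mul_inv_eq_iff_eq_mul.1 h2
  -- `d * d ∈ T`
  have hddm : d * d ∈ T := by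
    obtain ⟨S, hSn, hSs, hJS⟩ := SignalizersComponents.ComponentExists.exists_normal_isSolvable_of_isSubnormal hJ hJs
    haveI := hSn
    haveI := hSs
    have hvS : v ∈ S := hJS hv
    have hv'S : v' ∈ S := by
      have := hSn.conj_mem v hvS g⁻¹
      rw [inv_inv] at this
      exact this
    have hdS : d ∈ S := mul_mem (inv_mem hvS) hv'S
    have hOS : pPrimeCore 2 ↥S = ⊥ := by
      have h1 := SignalizersComponents.CompBasic.map_subtype_pPrimeCore_of_subnormal (G := Γ) 2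
        (H := S) (Normal.isSubnormal hSn)
      rw [hO, inf_bot_eq] at h1
      exact (Subgroup.map_eq_bot_iff_of_injective _ S.subtype_injective).1 h1
    have h1 := Lib.HallHigman.centralizer_pCore_le_of_solvable (G := ↥S) 2 hOS
    have h2 : (⟨d * d, mul_mem hdS hdS⟩ : ↥S) ∈ centralizer (pCore 2 ↥S : Set ↥S) := by
      rw [mem_centralizer_iff]
      rintro ⟨t, ht⟩ htS
      have htT : t ∈ T := by
        have h3 := SignalizersComponents.CompBasic.map_subtype_pCore_of_subnormal (G := Γ) 2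
          (H := S) (Normal.isSubnormal hSn)
        have h4 : t ∈ S ⊓ pCore 2 Γ := by
          rw [← h3]; exact ⟨⟨t, ht⟩, htS, rfl⟩
        exact h4.2
      exact Subtype.ext (hddT t htT).symm
    have h3 := h1 h2
    have h4 : d * d ∈ (pCore 2 ↥S).map S.subtype := ⟨_, h3, rfl⟩
    rw [SignalizersComponents.CompBasic.map_subtype_pCore_of_subnormal (G := Γ) 2
          (H := S) (Normal.isSubnormal hSn)] at h4
    exact h4.2
  -- modulo `T` the element `d` lies in a 3-group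
  have hdTm : d ∈ T := by
    let q := QuotientGroup.mk' T
    have hsub : (J.map q).IsSubnormal := hJ.map (QuotientGroup.mk'_surjective T)
    have h3g : IsPGroup 3 ↥(J.map q) := by
      rintro ⟨_, x, hx, rfl⟩
      obtain ⟨a, ha, k, rfl⟩ := hJA x hx
      refine ⟨1, Subtype.ext ?_⟩
      show (q (a * v ^ k)) ^ 3 ^ 1 = 1
      have h1 : q a = 1 := (QuotientGroup.eq_one_iff a).2 (hAT ha)
      have h2 : v ^ 3 = 1 := by rw [pow_succ, pow_two]; exact v3
      rw [map_mul, h1, one_mul, ← map_pow, pow_one, ← pow_mul, mul_comm, pow_mul, h2, one_pow, map_one]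
    have h3c := SignalizersComponents.CompBasic.subnormal_pGroup_le_pCore hsub h3g
    haveI hn3 : (pCore 3 (Γ ⧸ T)).Normal := Lib.Cores.pCore_normal 3
    have hqv : q v ∈ pCore 3 (Γ ⧸ T) := h3c ⟨v, hv, rfl⟩
    have hqv' : q v' ∈ pCore 3 (Γ ⧸ T) := by
      have h1 := hn3.conj_mem _ hqv (q g)⁻¹
      rw [inv_inv, ← map_inv, ← map_mul, ← map_mul] at h1
      exact h1
    have hqd : q d ∈ pCore 3 (Γ ⧸ T) := by
      rw [hd, map_mul, map_inv]
      exact mul_mem (inv_mem hqv) hqv'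
    have h2 : q d * q d = 1 := by
      rw [← map_mul]; exact (QuotientGroup.eq_one_iff _).2 hddm
    obtain ⟨n, hn⟩ := Lib.Cores.pCore_isPGroup (G := Γ ⧸ T) 3 ⟨_, hqd⟩
    have hn' : (q d) ^ 3 ^ n = 1 := by simpa using congrArg Subtype.val hn
    have h4 : orderOf (q d) ∣ 1 := by
      have h5 : Nat.Coprime 2 (3 ^ n) := Nat.Coprime.pow_right n (by norm_num)
      rw [← h5]
      exact Nat.dvd_gcd (orderOf_dvd_of_pow_eq_one (by rw [pow_two]; exact h2)) (orderOf_dvd_of_pow_eq_one hn')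
    have h5 : q d = 1 := orderOf_eq_one_iff.1 (Nat.dvd_one.1 h4)
    exact (QuotientGroup.eq_one_iff _).1 h5
  -- so `v' ∈ J`
  have hv'J : v' ∈ J := by
    refine mem_of_sup hsnT hT2 hJT ?_ ?_
    · have e : v' = v * d := by rw [hd]; group
      rw [e]
      exact mul_mem (mem_sup_left hv) (mem_sup_right hdTm)
    · have h4 : orderOf v' = orderOf v := by
        have := orderOf_injective (MulAut.conj g⁻¹).toMonoidHom (MulAut.conj g⁻¹).injective v
        simpa [hv'] using this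
      rw [h4]; exact hodd
  have hdA' : d ∈ A := h2el d (mul_mem (inv_mem hv) hv'J) hdTm
  have h1 : v * d * v⁻¹ ∈ A := hvA d hdA'
  have e : v * g * v⁻¹ * g⁻¹ = g * (v * d * v⁻¹) * g⁻¹ := by
    rw [hd, hv']; group
  rw [e, hgc' _ h1]
  exact h1

end Abs


section Aut

variable {X : Type*} [Group X]

theorem mul_conj' (α : MulAut X) (x : X) : α * MulAut.conj x = MulAut.conj (α x) * α := by
  ext k
  simp [MulAut.mul_apply, MulAut.conj_apply, map_mul, map_inv]

theorem conj_injective (hZ : center X = ⊥) : Function.Injective (MulAut.conj : X →* MulAut X) := by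
  rw [injective_iff_map_eq_one]
  intro y hy
  have h1 : y ∈ center X := by
    rw [mem_center_iff]
    intro g
    have h2 := DFunLike.congr_fun hy g
    rw [MulAut.conj_apply, MulAut.one_apply, mul_inv_eq_iff_eq_mul] at h2
    exact h2.symm
  rwa [hZ, mem_bot] at h1

theorem beta_pow {β : MulAut X} (b3 : β * β * β = 1) (k : ℕ) : β ^ (3 * k) = 1 := by
  have h : β ^ 3 = 1 := by rw [pow_succ, pow_two]; exact b3
  rw [pow_mul, h, one_pow]

theorem pow_inv_of {β : MulAut X} {A : Subgroup X} (hA : ∀ a ∈ A, β a ∈ A) (k : ℕ) : ∀ a ∈ A, (β ^ k) a ∈ A := by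
  induction k with
  | zero => intro a ha; simpa using ha
  | succ k ih =>
    intro a ha
    rw [pow_succ, MulAut.mul_apply]
    exact ih _ (hA a ha)

theorem mem_Jb {β : MulAut X} {A : Subgroup X} (b3 : β * β * β = 1) (hA : ∀ a ∈ A, β a ∈ A) {x : MulAut X}
    (hx : x ∈ Jb β A) : ∃ a ∈ A, ∃ k : ℕ, x = MulAut.conj a * β ^ k := by
  let S : Subgroup (MulAut X) :=
    { carrier := {x | ∃ a ∈ A, ∃ k : ℕ, x = MulAut.conj a * β ^ k}
      one_mem' := ⟨1, A.one_mem, 0, by simp⟩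
      mul_mem' := by
        rintro _ _ ⟨a, ha, k, rfl⟩ ⟨a', ha', k', rfl⟩
        refine ⟨a * (β ^ k) a', A.mul_mem ha (pow_inv_of hA k a' ha'), k + k', ?_⟩
        calc MulAut.conj a * β ^ k * (MulAut.conj a' * β ^ k')
            = MulAut.conj a * (β ^ k * MulAut.conj a') * β ^ k' := by group
          _ = MulAut.conj a * (MulAut.conj ((β ^ k) a') * β ^ k) * β ^ k' := by rw [mul_conj']
          _ = MulAut.conj (a * (β ^ k) a') * β ^ (k + k') := by rw [map_mul, pow_add]; group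
      inv_mem' := by
        rintro _ ⟨a, ha, k, rfl⟩
        refine ⟨(β ^ (2 * k)) a⁻¹, pow_inv_of hA _ _ (A.inv_mem ha), 2 * k, ?_⟩
        rw [inv_eq_iff_mul_eq_one]
        calc MulAut.conj a * β ^ k * (MulAut.conj ((β ^ (2 * k)) a⁻¹) * β ^ (2 * k))
            = MulAut.conj a * (β ^ k * MulAut.conj ((β ^ (2 * k)) a⁻¹)) * β ^ (2 * k) := by group
          _ = MulAut.conj a * (MulAut.conj ((β ^ k) ((β ^ (2 * k)) a⁻¹)) * β ^ k) * β ^ (2 * k) := by
              rw [mul_conj']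
          _ = MulAut.conj (a * (β ^ (3 * k)) a⁻¹) * β ^ (3 * k) := by
              rw [← MulAut.mul_apply, ← pow_add, show k + 2 * k = 3 * k by ring, map_mul, mul_assoc, mul_assoc,
                ← pow_add, show k + 2 * k = 3 * k by ring, mul_assoc]
          _ = 1 := by rw [beta_pow b3]; simp }
  have h1 : Jb β A ≤ S := by
    refine sup_le ?_ ?_
    · rintro _ ⟨a, ha, rfl⟩
      exact ⟨a, ha, 0, by simp⟩
    · rw [zpowers_le]
      exact ⟨1, A.one_mem, 1, by simp⟩
  exact h1 hx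

variable {w : X} {β : MulAut X} {A : Subgroup X}

theorem Cfg4.comm (C : Cfg4 w β A) {a b : X} (ha : a ∈ A) (hb : b ∈ A) : a * b = b * a := by
  have h1 := C.A2 _ (A.mul_mem ha hb)
  have h2 := C.A2 a ha
  have h3 := C.A2 b hb
  calc a * b = a * (a * b * (a * b)) * b := by rw [h1, mul_one]
    _ = (a * a) * (b * a) * (b * b) := by group
    _ = b * a := by rw [h2, h3, one_mul, mul_one]

theorem Cfg4.bC (C : Cfg4 w β A) : ∀ x ∈ centralizer ({w} : Set X), β x ∈ centralizer ({w} : Set X) := by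
  intro x hx
  rw [mem_centralizer_singleton_iff] at hx ⊢
  have := congrArg β hx
  rwa [map_mul, map_mul, C.bw] at this

theorem Cfg4.mem_map (C : Cfg4 w β A) {x : MulAut X} (hx : x ∈ Jb β A) {n : ℕ} (hn : x ^ 2 ^ n = 1) :
    x ∈ A.map (MulAut.conj : X →* MulAut X) := by
  obtain ⟨a, ha, k, h1⟩ := mem_Jb C.b3 C.bA hx
  -- `x ^ 3 ∈ A`
  have h3 : x ^ 3 ∈ A.map (MulAut.conj : X →* MulAut X) := by
    have h2 : x ^ 3 = MulAut.conj (a * (β ^ k) a * (β ^ k) ((β ^ k) a)) := by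
      rw [h1]
      have e0 : β ^ k * β ^ k * β ^ k = 1 := by
        rw [← pow_add, ← pow_add, show k + k + k = 3 * k by ring, beta_pow C.b3]
      calc (MulAut.conj a * β ^ k) ^ 3
          = MulAut.conj a * (β ^ k * MulAut.conj a) * (β ^ k * MulAut.conj a) * β ^ k := by
            rw [pow_succ, pow_two]; group
        _ = MulAut.conj a * (MulAut.conj ((β ^ k) a) * β ^ k) * (MulAut.conj ((β ^ k) a) * β ^ k) * β ^ k := by
            rw [mul_conj']
        _ = MulAut.conj a * MulAut.conj ((β ^ k) a) * (β ^ k * MulAut.conj ((β ^ k) a)) * (β ^ k * β ^ k) := by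
            group
        _ = MulAut.conj a * MulAut.conj ((β ^ k) a) * (MulAut.conj ((β ^ k) ((β ^ k) a)) * β ^ k) *
              (β ^ k * β ^ k) := by rw [mul_conj' (β ^ k) ((β ^ k) a)]
        _ = MulAut.conj a * MulAut.conj ((β ^ k) a) * MulAut.conj ((β ^ k) ((β ^ k) a)) *
              (β ^ k * β ^ k * β ^ k) := by group
        _ = _ := by rw [e0, mul_one, map_mul, map_mul]
    rw [h2]
    exact ⟨_, A.mul_mem (A.mul_mem ha (pow_inv_of C.bA _ _ ha)) (pow_inv_of C.bA _ _ (pow_inv_of C.bA _ _ ha)), rfl⟩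
  -- `x` is a power of `x ^ 3`
  have hc : Nat.Coprime 3 (2 ^ n) := Nat.Coprime.pow_right n (by norm_num)
  rcases Nat.eq_zero_or_pos n with h0 | h0
  · subst h0
    rw [pow_zero, pow_one] at hn
    rw [hn]; exact one_mem _
  obtain ⟨m, hm⟩ := Nat.exists_mul_mod_eq_one_of_coprime hc (by
    calc 1 < 2 ^ 1 := by norm_num
      _ ≤ 2 ^ n := Nat.pow_le_pow_right (by norm_num) h0)
  have h4 : x = (x ^ 3) ^ m := by
    rw [← pow_mul]
    have h5 : 3 * m = 2 ^ n * (3 * m / 2 ^ n) + 1 := by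
      have := Nat.div_add_mod (3 * m) (2 ^ n)
      rw [hm.2] at this
      exact this.symm
    rw [h5, pow_add, pow_mul, hn, one_pow, one_mul, pow_one]
  rw [h4]
  exact pow_mem h3 m

theorem Cfg4.mem_A (C : Cfg4 w β A) (hZ : center X = ⊥) {x : X} (hx : MulAut.conj x ∈ Jb β A) {n : ℕ}
    (hn : x ^ 2 ^ n = 1) : x ∈ A := by
  obtain ⟨a, ha, h1⟩ := C.mem_map hx (n := n) (by rw [← map_pow, hn, map_one])
  rw [← conj_injective hZ h1]
  exact ha

theorem normalizer_of_forall {G : Type*} [Group G] [Finite G] {P : Subgroup G} {g : G}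
    (h : ∀ x ∈ P, g * x * g⁻¹ ∈ P) : g ∈ normalizer (P : Set G) :=
  Subgroup.mem_normalizer_fintype (S := (P : Set G)) h

/-- **`[B, β] ≤ A`** for the 2-subgroups `B` of `C(w)` normalised by `A` and `β`. -/
theorem Cfg4.two [Finite X] (C : Cfg4 w β A) (hZ : center X = ⊥) {B : Subgroup X} (hB : IsPGroup 2 ↥B)
    (hBw : ∀ b ∈ B, b * w = w * b) (hBA : ∀ a ∈ A, ∀ b ∈ B, a * b * a⁻¹ ∈ B) (hBβ : ∀ b ∈ B, β b ∈ B) :
    ∀ b ∈ B, β b * b⁻¹ ∈ A := by
  haveI : Finite (MulAut X) := inferInstance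
  intro b hb
  have hle : B.map (MulAut.conj : X →* MulAut X) ≤ Jb β (centralizer ({w} : Set X)) := by
    refine le_sup_of_le_left (map_mono ?_)
    intro x hx
    rw [mem_centralizer_singleton_iff]
    exact hBw x hx
  have hs : Sn (Jb β A) (Jb β A ⊔ B.map (MulAut.conj : X →* MulAut X)) :=
    C.sn.restrict (sup_le C.sn.1 hle) le_sup_left
  have hn : Jb β A ≤ normalizer ((B.map (MulAut.conj : X →* MulAut X) : Subgroup (MulAut X)) : Set (MulAut X)) := by
    refine sup_le ?_ ?_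
    · rintro _ ⟨a, ha, rfl⟩
      refine normalizer_of_forall ?_
      rintro _ ⟨x, hx, rfl⟩
      exact ⟨a * x * a⁻¹, hBA a ha x hx, by rw [map_mul, map_mul, map_inv]⟩
    · rw [zpowers_le]
      refine normalizer_of_forall ?_
      rintro _ ⟨x, hx, rfl⟩
      refine ⟨β x, hBβ x hx, ?_⟩
      rw [mul_conj', mul_inv_cancel_right]
  have h1 : MulAut.conj b * β * (MulAut.conj b)⁻¹ ∈ Jb β A := by
    refine mem_of_sup hs (hB.map _) hn ?_ ?_
    · have h2 : MulAut.conj b ∈ B.map (MulAut.conj : X →* MulAut X) := ⟨b, hb, rfl⟩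
      exact mul_mem (mul_mem (mem_sup_right h2) (mem_sup_left (mem_sup_right (mem_zpowers β))))
        (inv_mem (mem_sup_right h2))
    · have h4 : orderOf (MulAut.conj b * β * (MulAut.conj b)⁻¹) = orderOf β := by
        have := orderOf_injective (MulAut.conj (MulAut.conj b)).toMonoidHom
          (MulAut.conj (MulAut.conj b)).injective β
        simpa using this
      rw [h4]; exact odd_of_cube C.b3
  -- `β * (conj b * β * conj b⁻¹)⁻¹ = conj (β b * b⁻¹)`
  have h2 : MulAut.conj (β b * b⁻¹) ∈ Jb β A := by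
    have e : MulAut.conj (β b * b⁻¹) = (MulAut.conj b * β * (MulAut.conj b)⁻¹ * β⁻¹)⁻¹ := by
      have h3 := mul_conj' β b
      rw [map_mul, map_inv]
      calc MulAut.conj (β b) * (MulAut.conj b)⁻¹
          = (MulAut.conj (β b) * β) * β⁻¹ * (MulAut.conj b)⁻¹ := by group
        _ = (β * MulAut.conj b) * β⁻¹ * (MulAut.conj b)⁻¹ := by rw [h3]
        _ = _ := by group
    rw [e]
    exact inv_mem (mul_mem h1 (inv_mem (mem_sup_right (mem_zpowers β))))
  obtain ⟨n, hn2⟩ := hB ⟨β b * b⁻¹, B.mul_mem (hBβ b hb) (B.inv_mem hb)⟩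
  exact C.mem_A hZ h2 (n := n) (by simpa using congrArg Subtype.val hn2)

theorem card_Jb_dvd [Finite X] (C : Cfg4 w β A) : Nat.card ↥(Jb β A) ∣ 72 := by
  haveI : Finite (MulAut X) := inferInstance
  set P : Subgroup (MulAut X) := A.map (MulAut.conj : X →* MulAut X) with hP
  have hle : P ≤ Jb β A := le_sup_left
  have hPn : (P.subgroupOf (Jb β A)).Normal := by
    rw [normal_subgroupOf_iff_le_normalizer hle]
    refine sup_le le_normalizer ?_
    rw [zpowers_le]
    refine normalizer_of_forall ?_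
    rintro _ ⟨x, hx, rfl⟩
    refine ⟨β x, C.bA x hx, ?_⟩
    rw [mul_conj', mul_inv_cancel_right]
  have h1 : P.relIndex (Jb β A) ∣ 3 := by
    have h2 : P.relIndex (Jb β A) = P.relIndex (zpowers β) := by
      have h3 : (P.subgroupOf (Jb β A)).relIndex (((zpowers β).subgroupOf (Jb β A)) ⊔ (P.subgroupOf (Jb β A))) =
          (P.subgroupOf (Jb β A)).relIndex ((zpowers β).subgroupOf (Jb β A)) := relIndex_sup_right _ _
      rw [← relIndex_map_map_of_injective _ _ (Jb β A).subtype_injective,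
        ← relIndex_map_map_of_injective _ _ (Jb β A).subtype_injective, Subgroup.map_sup,
        map_subgroupOf_eq_of_le hle, map_subgroupOf_eq_of_le (show zpowers β ≤ Jb β A from le_sup_right)] at h3
      rw [← h3]
      congr 1
      exact sup_comm _ _
    rw [h2]
    refine (relIndex_dvd_card _ _).trans ?_
    rw [Nat.card_zpowers]
    exact orderOf_dvd_of_pow_eq_one (by rw [pow_succ, pow_two]; exact C.b3)
  have h2 : P.relIndex (Jb β A) * Nat.card P = Nat.card (Jb β A) := by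
    have h5 := (P.subgroupOf (Jb β A)).index_mul_card
    rwa [Nat.card_congr (subgroupOfEquivOfLe hle).toEquiv] at h5
  have h3 : Nat.card P ∣ 4 := by
    rw [← C.A4]
    exact card_map_dvd (MulAut.conj : X →* MulAut X) (H := A)
  rw [← h2]
  exact (mul_dvd_mul h1 h3).trans (by norm_num)

/-- **`β(g) g⁻¹ ∈ A`** for the elements `g` of `C(w)` which centralise `A`. -/
theorem Cfg4.cent [Finite X] (C : Cfg4 w β A) (hZ : center X = ⊥) {g : X} (hgw : g * w = w * g)
    (hgA : ∀ a ∈ A, g * a = a * g) : β g * g⁻¹ ∈ A := by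
  haveI : Finite (MulAut X) := inferInstance
  set Γ := Jb β (centralizer ({w} : Set X)) with hΓ
  have hAle : A.map (MulAut.conj : X →* MulAut X) ≤ Γ := by
    refine le_sup_of_le_left (map_mono ?_)
    intro x hx
    rw [mem_centralizer_singleton_iff]
    exact C.Aw x hx
  have hβ : β ∈ Γ := mem_sup_right (mem_zpowers β)
  have hg : MulAut.conj g ∈ Γ := mem_sup_left ⟨g, by
    rw [SetLike.mem_coe, mem_centralizer_singleton_iff]; exact hgw, rfl⟩
  have hinj := conj_injective hZ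
  have key := key_comm (Γ := ↥Γ) C.core (J := (Jb β A).subgroupOf Γ)
    (A := (A.map (MulAut.conj : X →* MulAut X)).subgroupOf Γ) (v := ⟨β, hβ⟩) C.sn.2 ?_ ?_ ?_ ?_ ?_ ?_ ?_ ?_
    (g := ⟨MulAut.conj g, hg⟩) ?_
  · obtain ⟨a, ha, h1⟩ := key
    have h2 : MulAut.conj (β g * g⁻¹) = MulAut.conj a := by
      rw [h1]
      change _ = β * MulAut.conj g * β⁻¹ * (MulAut.conj g)⁻¹
      rw [mul_conj', mul_inv_cancel_right, map_mul, map_inv]
    rw [hinj h2]
    exact ha
  · refine LieClassical.Order72.isSolvable_of_card_dvd ?_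
    rw [Nat.card_congr (subgroupOfEquivOfLe C.sn.1).toEquiv]
    exact card_Jb_dvd C
  · exact comap_mono le_sup_left
  · exact mem_sup_right (mem_zpowers β)
  · exact Subtype.ext C.b3
  · rintro ⟨_, _⟩ ⟨a, ha, rfl⟩
    apply Subtype.ext
    change MulAut.conj a * MulAut.conj a = 1
    rw [← map_mul, C.A2 a ha, map_one]
  · rintro ⟨x, hxΓ⟩ hx n hn
    exact C.mem_map hx (congrArg Subtype.val hn)
  · rintro ⟨_, h1⟩ ⟨a, ha, rfl⟩
    refine ⟨β a, C.bA a ha, ?_⟩
    change MulAut.conj (β a) = β * MulAut.conj a * β⁻¹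
    rw [mul_conj', mul_inv_cancel_right]
  · rintro ⟨x, hxΓ⟩ hx
    obtain ⟨a, ha, k, rfl⟩ := mem_Jb C.b3 C.bA (show x ∈ Jb β A from hx)
    exact ⟨⟨MulAut.conj a, hAle ⟨a, ha, rfl⟩⟩, ⟨a, ha, rfl⟩, k, Subtype.ext rfl⟩
  · rintro ⟨_, h1⟩ ⟨a, ha, rfl⟩
    apply Subtype.ext
    change MulAut.conj g * MulAut.conj a = MulAut.conj a * MulAut.conj g
    rw [← map_mul, ← map_mul, hgA a ha]

end Aut

end Cfsg.Agent.OddHalf.NI3.Ex4
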