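import Cfsg.Agent.OddHalf.NI3.Ex4.Tri

/-!
# (EX4): the criterion with a quaternion group (helper941)

`not_bad_of_quad`: if `i` is fixed by `α`, `β(i) i = β²(i)`, `i² ≠ 1` (then `⟨i, β(i)⟩ = Q₈`) then there is no
counterexample `A`.

`TwoTriQ X` : for all pairs (inner involution `w`, inner `β` of order 3): two triples in different orbits, or a
quaternion group; `row4_of_twoTriQ` : if all automorphisms of order 3 are inner it implies `Row4 X`.
-/

set_option autoImplicit false

namespace Cfsg.Agent.OddHalf.NI3.Ex4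

open Subgroup Cfsg Cfsg.Agent.OddHalf.NI3.ExTri Cfsg.Agent.OddHalf.NI3.ExFour

universe u

section

variable {X : Type*} [Group X] [Finite X] {α β : MulAut X} {A : Subgroup X}

omit [Finite X] in
theorem quad_rel {i j k : X} (e1 : j * i = k) (e2 : k * j = i) (e3 : i * k = j) :
    j * i * j⁻¹ = i⁻¹ ∧ j * j = i * i ∧ i * i * (i * i) = 1 := by
  have f1 : j * i * j = i := by rw [e1, e2]
  have f2 : i * j * i = j := by rw [mul_assoc, e1, e3]
  have f3 : j * j = i * i := by
    calc j * j = i * j * i * j := by rw [f2]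
      _ = i * (j * i * j) := by group
      _ = i * i := by rw [f1]
  have f4 : j * i * j⁻¹ = i⁻¹ := by
    calc j * i * j⁻¹ = j * i * j * (j * j)⁻¹ := by group
      _ = i * (i * i)⁻¹ := by rw [f1, f3]
      _ = i⁻¹ := by group
  refine ⟨f4, f3, ?_⟩
  have f5 : i * i = (i * i)⁻¹ := by
    calc i * i = j * (j * j) * j⁻¹ := by rw [f3.symm]; group
      _ = (j * i * j⁻¹) * (j * i * j⁻¹) := by rw [f3]; group
      _ = (i * i)⁻¹ := by rw [f4]; group
  nth_rw 2 [f5]
  group

theorem pgroup_zpowers {i : X} (h : i * i * (i * i) = 1) : IsPGroup 2 (zpowers i) := by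
  rintro ⟨x, hx⟩
  obtain ⟨k, rfl⟩ := mem_zpowers_iff.1 hx
  refine ⟨2, Subtype.ext ?_⟩
  push_cast
  have h4 : i ^ 4 = 1 := by
    rw [show 4 = 2 * 2 from rfl, pow_mul, pow_two, pow_two]
    exact h
  rw [← zpow_natCast, ← zpow_mul, mul_comm, zpow_mul, zpow_natCast, h4, one_zpow]

theorem not_bad_of_quad (hZ : center X = ⊥) {i : X} (hf : α i = i) (hr : β i * i = β (β i)) (h2 : i * i ≠ 1) :
    ¬ Bad α β A := by
  intro h
  haveI : Fact (Nat.Prime 2) := ⟨Nat.prime_two⟩
  have hc : β (β (β i)) = i := h.cube_apply i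
  have e2 : β (β i) * β i = i := by rw [← map_mul, hr, hc]
  have e3 : i * β (β i) = β i := by
    have := congrArg β e2
    rwa [map_mul, hc] at this
  obtain ⟨f1, f2, f3⟩ := quad_rel hr e2 e3
  have g3 : β i * β i * (β i * β i) = 1 := by rw [f2, f3]
  have hiB : i ∈ zpowers i ⊔ zpowers (β i) := mem_sup_left (mem_zpowers i)
  have hjB : β i ∈ zpowers i ⊔ zpowers (β i) := mem_sup_right (mem_zpowers _)
  have hB : IsPGroup 2 (zpowers i ⊔ zpowers (β i) : Subgroup X) := by
    apply IsPGroup.to_sup_of_normal_left' (pgroup_zpowers f3) (pgroup_zpowers g3)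
    rw [zpowers_le]
    have h4 : MulAut.conj (β i) i ∈ zpowers i := by
      rw [MulAut.conj_apply, f1]
      exact inv_mem (mem_zpowers i)
    have h5 : (zpowers i).map (MulAut.conj (β i) : X →* X) ≤ zpowers i := by
      rw [MonoidHom.map_zpowers, zpowers_le]
      exact h4
    have h6 : (zpowers i).map (MulAut.conj (β i) : X →* X) = zpowers i := by
      apply eq_of_le_of_card_ge h5
      rw [card_map_of_injective (MulAut.conj (β i)).injective]
    rw [mem_normalizer_iff]
    intro x
    constructor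
    · intro hx
      exact h5 ⟨x, hx, rfl⟩
    · intro hx
      rw [← h6] at hx
      obtain ⟨y, hy, e⟩ := hx
      have e' : β i * y * (β i)⁻¹ = β i * x * (β i)⁻¹ := e
      rw [mul_left_inj, mul_right_inj] at e'
      rw [← e']
      exact hy
  have key : i⁻¹ * β i ∈ A := by
    refine h.mem_of_two hZ hB ?_ ?_ hiB
    · have h4 : zpowers i ⊔ zpowers (β i) ≤ fx α := by
        rw [sup_le_iff, zpowers_le, zpowers_le]
        exact ⟨hf, h.fx_stab hf⟩
      intro b hb
      exact h4 hb
    · have h4 : (zpowers i ⊔ zpowers (β i)).map (β : X →* X) ≤ zpowers i ⊔ zpowers (β i) := by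
        rw [Subgroup.map_sup, MonoidHom.map_zpowers, MonoidHom.map_zpowers, sup_le_iff, zpowers_le, zpowers_le]
        refine ⟨hjB, ?_⟩
        change β (β i) ∈ _
        rw [← hr]
        exact mul_mem hjB hiB
      intro b hb
      exact h4 ⟨b, hb, rfl⟩
  have h7 : i⁻¹ * β i = β i * i := by rw [← f1]; group
  have h8 := h.inv _ key
  rw [h7, hr, ← map_mul, ← map_mul] at h8
  apply h2
  have h9 : β (i * i) = 1 := β.injective (by rw [h8, map_one])
  exact β.injective (by rw [h9, map_one])

end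

/-- pairs (inner involution `w`, inner `β` of order 3): two triples in different orbits, or a quaternion group -/
def TwoTriQ (X : Type*) [Group X] : Prop :=
  ∀ w b : X, w * w = 1 → w ≠ 1 → b * b * b = 1 → b ≠ 1 → w * b = b * w →
    (∃ a c, TriW w b a ∧ TriW w b c ∧ c ≠ a ∧ c ≠ b * a * b⁻¹ ∧ c ≠ b * (b * a * b⁻¹) * b⁻¹) ∨
    ∃ i, i * w = w * i ∧ b * i * b⁻¹ * i = b * (b * i * b⁻¹) * b⁻¹ ∧ i * i ≠ 1

theorem twoTriQ_of_iso {X Y : Type*} [Group X] [Group Y] (e : X ≃* Y) (h : TwoTriQ X) : TwoTriQ Y := by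
  intro w b h1 h2 h3 h4 h5
  have key := h (e.symm w) (e.symm b) (by rw [← map_mul, h1, map_one])
    (fun hc => h2 (e.symm.injective (by rw [hc, map_one]))) (by rw [← map_mul, ← map_mul, h3, map_one])
    (fun hc => h4 (e.symm.injective (by rw [hc, map_one]))) (by rw [← map_mul, ← map_mul, h5])
  have hb : e (e.symm b) = b := e.apply_symm_apply b
  have hw : e (e.symm w) = w := e.apply_symm_apply w
  have htr : ∀ x : X, TriW (e.symm w) (e.symm b) x → TriW w b (e x) := by
    intro x t
    refine ⟨?_, by rw [← map_mul, t.sq, map_one], fun hc => t.ne (e.injective (by rw [hc, map_one])), ?_⟩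
    · have := congrArg e t.comm
      rwa [map_mul, map_mul, hw] at this
    · have := congrArg e t.tri
      simpa only [map_mul, map_inv, hb, map_one] using this
  rcases key with ⟨a, c, ta, tc, n1, n2, n3⟩ | ⟨i, i1, i2, i3⟩
  · left
    refine ⟨e a, e c, htr a ta, htr c tc, fun hh => n1 (e.injective hh), fun hh => n2 (e.injective ?_),
      fun hh => n3 (e.injective ?_)⟩
    · rw [hh]; simp only [map_mul, map_inv, hb]
    · rw [hh]; simp only [map_mul, map_inv, hb]
  · right
    refine ⟨e i, ?_, ?_, fun hc => i3 (e.injective (by rw [map_mul, hc, map_one]))⟩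
    · have := congrArg e i1
      rwa [map_mul, map_mul, hw] at this
    · have := congrArg e i2
      simpa only [map_mul, map_inv, hb] using this

theorem tri_iff {X : Type*} [Group X] {w b x : X} : Tri (MulAut.conj w) (MulAut.conj b) x ↔ TriW w b x := by
  constructor
  · intro t
    refine ⟨?_, t.sq, t.ne, t.tri⟩
    have := t.fix
    rw [MulAut.conj_apply, mul_inv_eq_iff_eq_mul] at this
    exact this.symm
  · intro t
    refine ⟨?_, t.sq, t.ne, t.tri⟩
    rw [MulAut.conj_apply, mul_inv_eq_iff_eq_mul]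
    exact t.comm.symm

/-- **the row from triples and quaternion groups** -/
theorem row4_of_twoTriQ {X : Type u} [Group X] [Finite X] (hZ : center X = ⊥)
    (hin : ∀ β : MulAut X, β * β * β = 1 → ∃ b, β = MulAut.conj b) (h : TwoTriQ X) : Row4 X := by
  intro w β A C N _ _ f _ _ _ _ a b l _ _ _ _ _ _ _
  have hinj : ∀ x : X, MulAut.conj x = 1 → x = 1 := by
    intro x hx
    have hxZ : x ∈ center X := by
      rw [mem_center_iff]
      intro g
      have h3 := DFunLike.congr_fun hx g
      rw [MulAut.conj_apply, MulAut.one_apply, mul_inv_eq_iff_eq_mul] at h3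
      exact h3.symm
    rw [hZ, mem_bot] at hxZ
    exact hxZ
  have hbad : Bad (MulAut.conj w) β A := by
    refine bad_of ?_ (fun h1 => C.w1 (hinj w h1)) C.b3 ?_ ?_ C.A2 C.A4 C.bA C.bne ?_
    · rw [← map_mul, C.ww, map_one]
    · ext x
      simp only [MulAut.mul_apply, MulAut.conj_apply, map_mul, map_inv, C.bw]
    · intro x hx
      rw [MulAut.conj_apply, mul_inv_eq_iff_eq_mul, C.Aw x hx]
    · rw [fix_conj]; exact C.sn
  obtain ⟨b', rfl⟩ := hin β C.b3
  have b3 : b' * b' * b' = 1 := hinj _ (by rw [map_mul, map_mul]; exact C.b3)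
  have b1 : b' ≠ 1 := by
    rintro rfl
    exact hbad.beta_ne (map_one _)
  have hwb : w * b' = b' * w := by
    have h5 := C.bw
    rw [MulAut.conj_apply, mul_inv_eq_iff_eq_mul] at h5
    exact h5.symm
  rcases h w b' C.ww C.w1 b3 b1 hwb with ⟨a, c, ta, tc, n1, n2, n3⟩ | ⟨i, i1, i2, i3⟩
  · exact not_bad_of_ok hZ (Or.inr ⟨a, c, tri_iff.2 ta, tri_iff.2 tc, n1, n2, n3⟩) hbad
  · refine not_bad_of_quad hZ (i := i) ?_ i2 i3 hbad
    rw [MulAut.conj_apply, mul_inv_eq_iff_eq_mul]
    exact i1.symm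

end Cfsg.Agent.OddHalf.NI3.Ex4
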