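import Cfsg.Agent.OddHalf.NI3.Ex4.LargeP
import Cfsg.Agent.OddHalf.NI3.Ex4.OfSheet
import Cfsg.Agent.OddHalf.NI.Ex.RowFi22

/-!
# (EX4), row `Fi22` (helper967; bb ODD #15341, #18008)

`ζ = z = d d'`, `P = R = O₂(C(d, d'))`, `Z₁ = ⟨z⟩`; `β` fixes `z`, hence `d` and `d'`, and `A = [A, β] ≤ C(d, d')`.
-/

set_option autoImplicit false
set_option linter.style.haveILetI false

namespace Cfsg.Agent.OddHalf.NI3.Ex4

open Subgroup Cfsg Cfsg.Agent.KFacts.FiTT Cfsg.Agent.OddHalf.D8.Fi22 Cfsg.Agent.R01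
open Cfsg.Agent.OddHalf.NI.Ex.Lemma (NoComm)
open Cfsg.Agent.OddHalf.NI.Ex (RowFi22.good)

universe u

open scoped Pointwise in
/-- a conjugate of the 2-central involution `ζ` commutes with `w` and `A` -/
theorem Cfg4.exists_conj {X : Type u} [Group X] [Finite X] {w ζ : X} {β : MulAut X} {A : Subgroup X}
    (C : Cfg4 w β A) (hS : ∃ S : Sylow 2 X, ∀ x ∈ S, x * ζ = ζ * x) :
    ∃ g : X, w * (g * ζ * g⁻¹) = (g * ζ * g⁻¹) * w ∧ ∀ a ∈ A, a * (g * ζ * g⁻¹) = (g * ζ * g⁻¹) * a := by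
  haveI : Fact (Nat.Prime 2) := ⟨Nat.prime_two⟩
  obtain ⟨S, hS⟩ := hS
  have hle : zpowers w ≤ normalizer (A : Set X) := by
    rw [zpowers_le]
    refine normalizer_of_forall fun a ha => ?_
    rw [← C.Aw a ha, mul_inv_cancel_right]
    exact ha
  have hA2 : IsPGroup 2 ↥A := IsPGroup.of_card (n := 2) (by rw [C.A4]; norm_num)
  have hw2 : IsPGroup 2 ↥(zpowers w) := by
    rintro ⟨x, k, rfl⟩
    refine ⟨1, Subtype.ext ?_⟩
    change (w ^ k) ^ (2 ^ 1) = 1
    rw [pow_one, ← zpow_natCast, ← zpow_mul, mul_comm, zpow_mul, zpow_natCast, pow_two, C.ww, one_zpow]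
  have hAw : IsPGroup 2 ↥(A ⊔ zpowers w) := hA2.to_sup_of_normal_left' hw2 hle
  obtain ⟨T, hT⟩ := hAw.exists_le_sylow
  obtain ⟨g, hg⟩ := MulAction.exists_smul_eq X S T
  have hζ : ∀ x ∈ T, x * (g * ζ * g⁻¹) = (g * ζ * g⁻¹) * x := by
    intro x hx
    rw [← hg] at hx
    have hx' : g⁻¹ * x * g ∈ S := by
      have h1 := Subgroup.mem_smul_pointwise_iff_exists x (MulAut.conj g) (S : Subgroup X)
      have h2 : x ∈ MulAut.conj g • (S : Subgroup X) := hx
      obtain ⟨s, hs, h3⟩ := h1.1 h2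
      rw [MulAut.smul_def, MulAut.conj_apply] at h3
      rw [← h3]
      have h4 : g⁻¹ * (g * s * g⁻¹) * g = s := by group
      rw [h4]; exact hs
    have h1 := hS _ hx'
    calc x * (g * ζ * g⁻¹) = g * ((g⁻¹ * x * g) * ζ) * g⁻¹ := by group
      _ = g * (ζ * (g⁻¹ * x * g)) * g⁻¹ := by rw [h1]
      _ = (g * ζ * g⁻¹) * x := by group
  exact ⟨g, hζ w (hT (mem_sup_right (mem_zpowers w))), fun a ha => hζ a (hT (mem_sup_left ha))⟩

section

variable {X : Type u} [Group X] {T : Set X} {d d' : X} {R : Subgroup X}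

theorem fi_largeP [Finite X] (F : Facts X d d' R) (k : KTrans X T) (hd : d ∈ T) (hd' : d' ∈ T) :
    LargeP (d * d') (zpowers (d * d')) R where
  zz := Sheet22.zz F
  z1 := Sheet22.z_ne F
  P2 := F.R_two
  Pc := fun x hx => Sheet22.z_comm (F.R_le hx)
  Pn := fun x hx h hh => F.R_normal h hh x hx
  le := by
    rw [zpowers_le]
    exact mul_mem F.d_mem F.d'_mem
  ex := by
    intro x hx
    rcases (mem_zpowers_two (Sheet22.zz F)).1 hx with rfl | rfl
    · exact one_mul _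
    · exact Sheet22.zz F
  cen := by
    intro x hx h hh
    rcases (mem_zpowers_two (Sheet22.zz F)).1 hx with rfl | rfl
    · rw [one_mul, mul_one]
    · exact hh
  sq := fun x hx => (mem_zpowers_two (Sheet22.zz F)).2 (F.R_sq x hx)
  nc := by
    intro x hx hx1
    rcases (mem_zpowers_two (Sheet22.zz F)).1 hx with rfl | rfl
    · exact absurd rfl hx1
    · exact NI.Ex.Lemma.Good.noComm (RowFi22.good F k hd hd')
  four := by
    intro B _ hc h4
    have h5 : ∀ b ∈ B, b = 1 ∨ b = d ∨ b = d' ∨ b = d * d' := fun b hb => F.R_center b (hc b hb)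
    by_contra hcon
    have hz : d * d' ∉ B := fun h => hcon ⟨_, h, Sheet22.z_ne F, mem_zpowers _⟩
    have h6 : (B : Set X) ⊆ {1, d, d'} := by
      intro b hb
      rcases h5 b hb with h | h | h | h
      · rw [h]; simp
      · rw [h]; simp
      · rw [h]; simp
      · exact absurd (h ▸ hb) hz
    have h7 : (B : Set X).ncard ≤ ({1, d, d'} : Set X).ncard := Set.ncard_le_ncard h6 (Set.toFinite _)
    have h8 : ({1, d, d'} : Set X).ncard ≤ 3 := by
      calc ({1, d, d'} : Set X).ncard ≤ ({d, d'} : Set X).ncard + 1 := Set.ncard_insert_le _ _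
        _ ≤ (({d'} : Set X).ncard + 1) + 1 := Nat.add_le_add_right (Set.ncard_insert_le _ _) 1
        _ = 3 := by rw [Set.ncard_singleton]
    have h9 : (B : Set X).ncard = 4 := by
      change Nat.card B = 4
      exact h4
    omega

/-- `R ≤ O₂(C(z))` -/
theorem fi_R_le [Finite X] (F : Facts X d d' R) : R ≤ OO2 (d * d') := by
  haveI : Fact (Nat.Prime 2) := ⟨Nat.prime_two⟩
  intro r hr
  have hle : R ≤ centralizer ({d * d'} : Set X) := fun x hx =>
    mem_centralizer_singleton_iff.2 (Sheet22.z_comm (F.R_le hx))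
  have hn : (R.subgroupOf (centralizer ({d * d'} : Set X))).Normal := by
    refine ⟨fun n hn g => ?_⟩
    exact F.R_normal g (mem_centralizer_singleton_iff.1 g.2) n hn
  have h2 : IsPGroup 2 ↥(R.subgroupOf (centralizer ({d * d'} : Set X))) :=
    F.R_two.comap_of_injective _ (Subgroup.subtype_injective _)
  have h3 : R.subgroupOf (centralizer ({d * d'} : Set X)) ≤ pCore 2 ↥(centralizer ({d * d'} : Set X)) :=
    Lib.Cores.le_pCore hn h2
  exact ⟨⟨r, hle hr⟩, h3 hr, rfl⟩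

/-- `O₂(C(z)) ⊓ C(d, d') ≤ R` -/
theorem fi_le_R [Finite X] (F : Facts X d d' R) {x : X} (hx : x ∈ OO2 (d * d'))
    (hx' : x ∈ centralizer ({d, d'} : Set X)) : x ∈ R := by
  have h1 : OO2 (d * d') ⊓ centralizer ({d, d'} : Set X) ≤ R := by
    refine F.O2 _ inf_le_right ?_ ((OO2_isPGroup (d * d')).to_le inf_le_left)
    rintro g g1 g2 y ⟨hy, hy'⟩
    have hg : g ∈ centralizer ({d, d'} : Set X) := Sheet22.mem_P.2 ⟨g1, g2⟩
    have hy2 : y ∈ centralizer ({d, d'} : Set X) := hy'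
    have h3 : g * y * g⁻¹ ∈ centralizer ({d, d'} : Set X) := mul_mem (mul_mem hg hy2) (inv_mem hg)
    exact ⟨OO2_conj hy (Sheet22.z_comm hg), h3⟩
  exact h1 ⟨hx, hx'⟩

theorem fi_fix (F : Facts X d d' R) (k : KTrans X T) (hd : d ∈ T) (hd' : d' ∈ T) {β : MulAut X}
    (b3 : β * β * β = 1) (hβ : β (d * d') = d * d') : β d = d ∧ β d' = d' := by
  have h1 : β d * β d' = d * d' := by rw [← map_mul, hβ]
  have h2 : β d * β d' = β d' * β d := by rw [← map_mul, F.comm, map_mul]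
  have key : β d = d → β d' = d' := by
    intro h
    rw [h] at h1
    exact mul_left_cancel h1
  rcases k.uniq d hd d' hd' (β d) (k.aut β d hd) (β d') (k.aut β d' hd') F.ne F.comm h2 h1.symm with h | h
  · exact ⟨h, key h⟩
  · exfalso
    have h3 : β d' = d := by
      rw [h] at h1
      have h4 : d' * (β d') = d' * d := by rw [h1, F.comm]
      exact mul_left_cancel h4
    have h4 : β (β (β d)) = d := by
      rw [← MulAut.mul_apply, ← MulAut.mul_apply, b3, MulAut.one_apply]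
    rw [h, h3, h] at h4
    exact F.ne h4.symm

end

/-- **row `Fi22` of (EX4)** -/
theorem row_fi22 (X : Type u) [Group X] [Finite X] [IsSimpleGroup X] (hX : Spor.IsoFi22 X) : Row4 X := by
  obtain ⟨e⟩ := hX
  have k := kTrans e
  obtain ⟨d0, hd0, d0', hd0', hne, hcm⟩ := k.pair
  obtain ⟨R0, A0⟩ := all_of_iso e hd0 hd0' hne hcm
  obtain ⟨S, -, hS, -⟩ := A0.basic.syl
  have hZ : center X = ⊥ := by
    obtain ⟨x, _, y, _, h⟩ := A0.facts.R_nonab
    refine center_bot (a := x) (b := y) fun h1 => ?_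
    rw [h1] at h
    apply Sheet22.z_ne A0.facts
    rw [← h]; group
  intro w β A C N _ _ f hf hker hker2 hN a b l ha hb hl hal hbl hk ho
  have hab : a * b ≠ b * a := by
    intro h1
    have h2 : a * b * a⁻¹ * b⁻¹ = 1 := by rw [h1]; group
    rw [h2, orderOf_one] at ho
    omega
  obtain ⟨g, hw, hA⟩ := C.exists_conj ⟨S, hS⟩
  have hd := k.conj g d0 hd0
  have hd' := k.conj g d0' hd0'
  have eg : g * (d0 * d0') * g⁻¹ = (g * d0 * g⁻¹) * (g * d0' * g⁻¹) := by group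
  rw [eg] at hw hA
  have hne' : g * d0 * g⁻¹ ≠ g * d0' * g⁻¹ := by
    intro h
    apply hne
    have h1 : g⁻¹ * (g * d0 * g⁻¹) * g = g⁻¹ * (g * d0' * g⁻¹) * g := by rw [h]
    have e1 : g⁻¹ * (g * d0 * g⁻¹) * g = d0 := by group
    have e2 : g⁻¹ * (g * d0' * g⁻¹) * g = d0' := by group
    rwa [e1, e2] at h1
  have hcm' : (g * d0 * g⁻¹) * (g * d0' * g⁻¹) = (g * d0' * g⁻¹) * (g * d0 * g⁻¹) := by
    calc (g * d0 * g⁻¹) * (g * d0' * g⁻¹) = g * (d0 * d0') * g⁻¹ := by group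
      _ = g * (d0' * d0) * g⁻¹ := by rw [hcm]
      _ = (g * d0' * g⁻¹) * (g * d0 * g⁻¹) := by group
  obtain ⟨R, Al⟩ := all_of_iso e hd hd' hne' hcm'
  have F := Al.facts
  generalize g * d0 * g⁻¹ = d at *
  generalize g * d0' * g⁻¹ = d' at *
  have L := fi_largeP F k hd hd'
  have hβ : β (d * d') = d * d' :=
    C.beta_eq hZ (L.nc _ (mem_zpowers _) L.z1) L.zz hw hA hf hker hker2 hN ha hb hal hbl hab
  obtain ⟨b1, b2⟩ := fi_fix F k hd hd' C.b3 hβ
  have hβC : ∀ x ∈ centralizer ({d, d'} : Set X), β x ∈ centralizer ({d, d'} : Set X) := by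
    intro x hx
    obtain ⟨h1, h2⟩ := Sheet22.mem_P.1 hx
    refine Sheet22.mem_P.2 ⟨?_, ?_⟩
    · have h3 := congrArg β h1
      rwa [map_mul, map_mul, b1] at h3
    · have h3 := congrArg β h2
      rwa [map_mul, map_mul, b2] at h3
  have hAO : A ≤ OO2 (d * d') := by
    refine C.le_OO2 hZ ?_ hβ hw hA
    intro h _ hc
    apply fi_R_le F
    rcases F.R_center h (fun y hy => hc y (fi_R_le F hy)) with rfl | rfl | rfl | rfl
    · exact one_mem _
    · exact F.d_mem
    · exact F.d'_mem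
    · exact mul_mem F.d_mem F.d'_mem
  have hAR : A ≤ R := by
    intro a ha
    have hx := C.bA a ha
    have hy := C.bA _ hx
    have e1 : a = β (β a) * (β a)⁻¹ := by
      have h1 := C.prod ha
      have h2 : (β a)⁻¹ = β a := inv_eq_of_mul_eq_one_right (C.A2 _ hx)
      have h3 : a⁻¹ = a := inv_eq_of_mul_eq_one_right (C.A2 _ ha)
      rw [h2, C.comm hy hx]
      rw [mul_assoc] at h1
      rw [← inv_eq_of_mul_eq_one_right h1, h3]
    rw [e1]
    refine fi_le_R F (mul_mem (hAO hy) (inv_mem (hAO hx))) ?_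
    rcases F.cz (β a) (OO2_comm (hAO hx)) with ⟨h1, h2⟩ | ⟨h1, h2⟩
    · have h3 : β a ∈ centralizer ({d, d'} : Set X) := Sheet22.mem_P.2 ⟨h1, h2⟩
      exact mul_mem (hβC _ h3) (inv_mem h3)
    · have h3 := congrArg β h1
      have h4 := congrArg β h2
      rw [map_mul, map_mul, map_inv, b1, b2] at h3 h4
      refine Sheet22.mem_P.2 ⟨?_, ?_⟩
      · rw [← mul_inv_eq_iff_eq_mul]
        calc β (β a) * (β a)⁻¹ * d * (β (β a) * (β a)⁻¹)⁻¹
            = β (β a) * ((β a)⁻¹ * d * β a) * (β (β a))⁻¹ := by group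
          _ = β (β a) * ((β a)⁻¹ * (β a * d' * (β a)⁻¹) * β a) * (β (β a))⁻¹ := by rw [h2]
          _ = β (β a) * d' * (β (β a))⁻¹ := by group
          _ = d := h4
      · rw [← mul_inv_eq_iff_eq_mul]
        calc β (β a) * (β a)⁻¹ * d' * (β (β a) * (β a)⁻¹)⁻¹
            = β (β a) * ((β a)⁻¹ * d' * β a) * (β (β a))⁻¹ := by group
          _ = β (β a) * ((β a)⁻¹ * (β a * d * (β a)⁻¹) * β a) * (β (β a))⁻¹ := by rw [h1]
          _ = β (β a) * d * (β (β a))⁻¹ := by group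
          _ = d' := h3
  have hβR : ∀ x ∈ R, β x ∈ R := by
    intro x hx
    exact fi_le_R F (beta_OO2 hβ (fi_R_le F hx)) (hβC x (F.R_le hx))
  refine false_of_largeP hZ L C hw hA hAR hβR ?_ hf hker hker2 hN ha hb hl hal hbl hab
  intro x hx
  rcases (mem_zpowers_two L.zz).1 hx with rfl | rfl
  · exact map_one _
  · exact hβ

end Cfsg.Agent.OddHalf.NI3.Ex4
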