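import Cfsg.Agent.OddHalf.NI3.Ex4.RowsOf
import Cfsg.Agent.OddHalf.NI3.Ex4.OEight.Row

/-!
# (EX4) of THEOREM NIB: all rows

`rows4_of : O8.Pieces → Rows4`.
-/

set_option autoImplicit false

namespace Cfsg.Agent.OddHalf.NI3.Ex4

universe u

/-- **All rows of (EX4)**, from the pieces of the row `Ω₈⁺(2)`. -/
theorem rows4_of (P : O8.Pieces) : Rows4.{u} := rows4 ⟨fun _ _ _ _ h => O8.row_of P h⟩

end Cfsg.Agent.OddHalf.NI3.Ex4
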