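import Cfsg.Agent.OddHalf.NI3.Ex4.Defs
import Cfsg.Agent.OddHalf.NI3.Bad.ExFour

/-!
# Rows of (EX4) from triples (helper941)

* `TwoTriI X` : for all involutions `w ∈ X` and all `β` of order 3 in `Aut X` fixing `w`: `ExTri.Ok (conj w) β`;
* `row4_of_twoTriI` : **`TwoTriI X → Row4 X`** (`X` finite with trivial centre);
* `row4_of_twoTri`, `ex4_of_twoTri` : the same from `ExTri.TwoTri X`.
-/

set_option autoImplicit false

namespace Cfsg.Agent.OddHalf.NI3.Ex4

open Subgroup Cfsg Cfsg.Agent.OddHalf.NI3.ExTri Cfsg.Agent.OddHalf.NI3.ExFour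

universe u

/-- all pairs (inner involution, `β`) are `Ok` -/
def TwoTriI (X : Type*) [Group X] : Prop :=
  ∀ (w : X) (β : MulAut X), w * w = 1 → w ≠ 1 → β * β * β = 1 → β ≠ 1 → β w = w → Ok (MulAut.conj w) β

theorem fx_eq {X : Type*} [Group X] (α : MulAut X) : fx α = NI.Ex.fix α := by
  ext x
  rw [mem_fx, NI.Ex.mem_fix]

section

variable {X : Type*} [Group X] [Finite X] {α β : MulAut X} {A : Subgroup X}

theorem not_bad_of_ok (hZ : center X = ⊥) (h : Ok α β) : ¬ Bad α β A := by
  intro hbad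
  obtain ⟨a, ha, hm⟩ := hbad.move
  obtain ⟨ta, -⟩ := hbad.tri ha hm
  rcases h with hk | ⟨b, c, tb, tc, n1, n2, n3⟩
  · exact hk a ta
  · have hb := hbad.mem_of_tri hZ tb
    have hc := hbad.mem_of_tri hZ tc
    have hbm : β b ≠ b := by
      intro e
      have h1 := tb.tri
      rw [e, e, tb.sq, one_mul] at h1
      exact tb.ne h1
    rcases (hbad.tri hb hbm).2 c hc with e | e | e | e
    · exact tc.ne e
    · exact n1 e
    · exact n2 e
    · exact n3 e

omit [Finite X] in
theorem bad_of (h1 : α * α = 1) (h2 : α ≠ 1) (h3 : β * β * β = 1) (h4 : α * β = β * α) (h5 : ∀ a ∈ A, α a = a)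
    (h6 : ∀ a ∈ A, a * a = 1) (h7 : Nat.card A = 4) (h8 : ∀ a ∈ A, β a ∈ A) (h9 : ∀ a ∈ A, β a = a → a = 1)
    (h10 : Sn (Jb β A) (Jb β (NI.Ex.fix α))) : Bad α β A := by
  refine ⟨h1, h2, h3, h4, h5, h7, h6, h8, ?_, ?_⟩
  · by_contra hcon
    push Not at hcon
    have h11 : A = ⊥ := by
      rw [eq_bot_iff]
      intro a ha
      exact mem_bot.2 (h9 a ha (hcon a ha))
    rw [h11, card_bot] at h7
    norm_num at h7
  · rw [fx_eq]
    exact h10

end

theorem twoTriI_of_iso {X Y : Type*} [Group X] [Group Y] (e : X ≃* Y) (h : TwoTriI X) : TwoTriI Y := by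
  intro w β h1 h2 h3 h4 h5
  have hf : ∀ (γ : MulAut Y) (x : X), e (MulAut.congr e.symm γ x) = γ (e x) := by
    intro γ x
    simp [MulAut.congr]
  have hinj : Function.Injective (MulAut.congr e.symm : MulAut Y ≃* MulAut X) := (MulAut.congr e.symm).injective
  have hc : ∀ x : X, e (MulAut.conj (e.symm w) x) = MulAut.conj w (e x) := by
    intro x
    simp [MulAut.conj_apply]
  have key := h (e.symm w) (MulAut.congr e.symm β) (by rw [← map_mul, h1, map_one])
    (fun hc => h2 (e.symm.injective (by rw [hc, map_one]))) (by rw [← map_mul, ← map_mul, h3, map_one])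
    (fun hc => h4 (hinj (by rw [hc, map_one]))) (e.injective (by rw [hf, e.apply_symm_apply, h5]))
  have htr : ∀ b : X, Tri (MulAut.conj (e.symm w)) (MulAut.congr e.symm β) b ↔ Tri (MulAut.conj w) β (e b) := by
    intro b
    constructor
    · intro t
      refine ⟨by rw [← hc, t.fix], by rw [← map_mul, t.sq, map_one], fun hc => t.ne (e.injective (by rw [hc, map_one])),
        ?_⟩
      rw [← hf, ← hf, ← map_mul, ← map_mul, t.tri, map_one]
    · intro t
      refine ⟨e.injective (by rw [hc, t.fix]), e.injective (by rw [map_mul, t.sq, map_one]),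
        fun hc => t.ne (by rw [hc, map_one]), e.injective ?_⟩
      rw [map_mul, map_mul, hf, hf, hf, t.tri, map_one]
  rcases key with hk | ⟨b, c, hb, hc', n1, n2, n3⟩
  · left
    intro b hb
    apply hk (e.symm b)
    rw [htr, e.apply_symm_apply]
    exact hb
  · right
    refine ⟨e b, e c, (htr b).1 hb, (htr c).1 hc', fun hh => n1 (e.injective hh), fun hh => n2 (e.injective ?_),
      fun hh => n3 (e.injective ?_)⟩
    · rw [hh, hf]
    · rw [hh, hf, hf]

/-- **the row from the triples for inner involutions** -/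
theorem row4_of_twoTriI {X : Type u} [Group X] [Finite X] (hZ : center X = ⊥) (h : TwoTriI X) : Row4 X := by
  intro w β A C N _ _ f _ _ _ _ a b l _ _ _ _ _ _ _
  have hw1 : MulAut.conj w ≠ 1 := by
    intro h1
    have h2 : w ∈ center X := by
      rw [mem_center_iff]
      intro g
      have h3 := DFunLike.congr_fun h1 g
      rw [MulAut.conj_apply, MulAut.one_apply, mul_inv_eq_iff_eq_mul] at h3
      exact h3.symm
    rw [hZ, mem_bot] at h2
    exact C.w1 h2
  have hbad : Bad (MulAut.conj w) β A := by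
    refine bad_of ?_ hw1 C.b3 ?_ ?_ C.A2 C.A4 C.bA C.bne ?_
    · rw [← map_mul, C.ww, map_one]
    · ext x
      simp only [MulAut.mul_apply, MulAut.conj_apply, map_mul, map_inv, C.bw]
    · intro x hx
      rw [MulAut.conj_apply, mul_inv_eq_iff_eq_mul, C.Aw x hx]
    · rw [fix_conj]; exact C.sn
  exact not_bad_of_ok hZ (h w β C.ww C.w1 C.b3 hbad.beta_ne C.bw) hbad

/-- (EX4) from the triples -/
theorem ex4_of_twoTri {X : Type u} [Group X] [Finite X] (hZ : center X = ⊥) (h : TwoTri X) : EX4 X := by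
  intro α β A h1 h2 h3 h4 h5 h6 h7 h8 h9 h10 _
  have hbad : Bad α β A := bad_of h1 h2 h3 h4 h5 h6 h7 h8 h9 h10
  exact not_bad_of_ok hZ (h α β h1 h2 h3 hbad.beta_ne h4) hbad

theorem row4_of_twoTri {X : Type u} [Group X] [Finite X] (hZ : center X = ⊥) (h : TwoTri X) : Row4 X :=
  (ex4_of_twoTri hZ h).row4 hZ

/-- the centre of an isomorphic group -/
theorem center_eq_bot_of_equiv {X Y : Type*} [Group X] [Group Y] (e : X ≃* Y) (hZ : center Y = ⊥) :
    center X = ⊥ := by
  rw [eq_bot_iff]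
  intro x hx
  have h1 : e x ∈ center Y := by
    rw [mem_center_iff]
    intro y
    obtain ⟨y, rfl⟩ := e.surjective y
    rw [← map_mul, mem_center_iff.1 hx, map_mul]
  rw [hZ, mem_bot] at h1
  exact mem_bot.2 (e.injective (by rw [h1, map_one]))

end Cfsg.Agent.OddHalf.NI3.Ex4
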